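import Cfsg.Agent.Class.C6.Bridge
import Cfsg.Agent.Class.Asch.Extra
import Cfsg.Agent.Mit.Defs
import Cfsg.Agent.S3762

/-!
# Symplectic-type matrix groups and Pauli systems
-/

namespace Cfsg.Lib.Class.C6

open Module Form Cfsg.Geo Asch
open scoped MatrixGroups commutatorElement

universe u

variable {ι : Type} [Fintype ι] [DecidableEq ι] {F : Type u} [Field F]

theorem false_of_pow_four {C : Type*} [Group C] (h4 : ∀ x : C, x ^ 4 = 1) (h16 : 16 ≤ Nat.card C)
    (h : (∃ m : ℕ, Nonempty (C ≃* DihedralGroup m)) ∨ (∃ m : ℕ, Nonempty (C ≃* QuaternionGroup m)) ∨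
      IsQuasiDihedral C) : False := by
  rcases h with ⟨m, ⟨e⟩⟩ | ⟨m, ⟨e⟩⟩ | ⟨n, hn, -, x, -, hx, -⟩
  · have h1 : m ∣ 4 := by
      rw [← DihedralGroup.orderOf_r_one (n := m), ← e.symm.orderOf_eq]
      exact orderOf_dvd_of_pow_eq_one (h4 _)
    rw [Nat.card_congr e.toEquiv, DihedralGroup.nat_card] at h16
    have := Nat.le_of_dvd (by norm_num) h1
    omega
  · have h1 : 2 * m ∣ 4 := by
      rw [← QuaternionGroup.orderOf_a_one (n := m), ← e.symm.orderOf_eq]
      exact orderOf_dvd_of_pow_eq_one (h4 _)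
    have : NeZero m := ⟨by rintro rfl; simp at h1⟩
    rw [Nat.card_congr e.toEquiv, Nat.card_eq_fintype_card, QuaternionGroup.card] at h16
    have := Nat.le_of_dvd (by norm_num) h1
    omega
  · have h1 := Nat.le_of_dvd (by norm_num) (hx ▸ orderOf_dvd_of_pow_eq_one (h4 x))
    have : 2 ^ 3 ≤ 2 ^ n := Nat.pow_le_pow_right two_pos hn
    omega

/-- An absolutely irreducible group of symplectic type has class two. -/
theorem cl2_of_symplecticType [Finite F] (hn : 2 ≤ Fintype.card ι) {r : ℕ} {R : Subgroup (GL ι F)}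
    (hR : IsSymplecticTypeGroup r R) (hirr : ActsAbsolutelyIrreducibly (matrixSet R)) :
    Cl2 r R := by
  have he := Mit.env_eq_top_of_absIrr hirr
  have hp : ∀ x : R, x ^ (r * Nat.gcd 2 r) = 1 := fun x => hR.exponent_eq ▸ Monoid.pow_exponent_eq_one x
  have : Nonempty ι := Fintype.card_pos_iff.1 (by omega)
  have := Fact.mk hR.prime
  refine ⟨hR.prime, hn, he, fun x hx y hy => ?_, fun x hx => congrArg Subtype.val (hp ⟨x, hx⟩)⟩
  obtain ⟨E, C, h1, h2, h3, h4⟩ := Cfsg.Agent.S3762.result hR.pGroup hR.cyclic_of_characteristic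
  have hC : IsCyclic C := h4.elim id fun ⟨h5, h6, h7⟩ => (false_of_pow_four
    (fun x => Subtype.ext (by subst h5; exact hp x)) h6 h7).elim
  have key : ∀ z : R, (∀ e ∈ E, e * z = z * e) → (∀ c ∈ C, c * z = z * c) →
      z ∈ Subgroup.center R := fun z hE hC => by
    rw [Subgroup.mem_center_iff]
    intro g
    have : E ⊔ C ≤ Subgroup.centralizer {z} := sup_le
      (fun e he => Subgroup.mem_centralizer_singleton_iff.2 (hE e he))
      fun e he => Subgroup.mem_centralizer_singleton_iff.2 (hC e he)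
    exact Subgroup.mem_centralizer_singleton_iff.1 (this (h2.ge (Subgroup.mem_top g)))
  have hCZ : C ≤ Subgroup.center R := fun c hc => key c (fun e he => h1 e he c hc) fun d hd =>
    congrArg Subtype.val (mul_comm' (⟨d, hd⟩ : C) ⟨c, hc⟩)
  have : C.Normal := ⟨fun c hc g => by
    rwa [Subgroup.mem_center_iff.1 (hCZ hc) g, mul_inv_cancel_right]⟩
  obtain ⟨e, he1, c, hc, e1⟩ := Subgroup.mem_sup_of_normal_right.1
    (h2.ge (Subgroup.mem_top (⟨x, hx⟩ : R)))
  obtain ⟨e', he1', c', hc', e2⟩ := Subgroup.mem_sup_of_normal_right.1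
    (h2.ge (Subgroup.mem_top (⟨y, hy⟩ : R)))
  have h5 : (⟨x, hx⟩ : R) * ⟨y, hy⟩ = ⁅e, e'⁆ * (⟨y, hy⟩ * ⟨x, hx⟩) := by
    have f1 := Subgroup.mem_center_iff.1 (hCZ hc)
    have f2 := Subgroup.mem_center_iff.1 (hCZ hc')
    rw [← e1, ← e2, commutatorElement_def, mul_assoc e c, ← f1, mul_assoc e' c' (e * c),
      ← mul_assoc c', ← f2 e]
    group
  have h6 : ⁅e, e'⁆ ∈ Subgroup.center R ∧ ⁅e, e'⁆ ^ r = 1 := by
    rcases h3 with rfl | h3
    · rw [Subgroup.mem_bot.1 he1]; simp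
    have h7 : ⁅(⟨e, he1⟩ : E), (⟨e', he1'⟩ : E)⁆ ∈ Subgroup.center E :=
      h3.1.2.2 ▸ Subgroup.commutator_mem_commutator (Subgroup.mem_top _) (Subgroup.mem_top _)
    refine ⟨key _ (fun d hd => congrArg Subtype.val (Subgroup.mem_center_iff.1 h7 ⟨d, hd⟩))
      fun d hd => Subgroup.mem_center_iff.1 (hCZ hd) _ |>.symm, ?_⟩
    have := pow_card_eq_one' (x := (⟨_, h7⟩ : Subgroup.center E))
    rw [h3.2] at this
    exact congrArg (fun z : Subgroup.center E => ((z : E) : R)) this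
  obtain ⟨d, hd⟩ := mem_scalars_of_comm he (x := (⁅e, e'⁆ : R)) fun y hy =>
    (congrArg Subtype.val (Subgroup.mem_center_iff.1 h6.1 ⟨y, hy⟩)).symm
  change scalarGL ι d = _ at hd
  refine ⟨d, scalarGL_injective (ι := ι) ?_, hd ▸ congrArg Subtype.val h5⟩
  rw [map_pow, hd, map_one]
  exact congrArg Subtype.val h6.2

theorem glLin_scalarGL (c : Fˣ) : glLin ι F (scalarGL ι c) = sc (ι → F) c :=
  LinearEquiv.ext fun v => by simp [Matrix.smul_mulVec]

theorem Cl2.two_ne {R : Subgroup (GL ι F)} (h : Cl2 2 R) : (2 : F) ≠ 0 := by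
  obtain ⟨c, h1, h2, -⟩ := h.exists_root
  intro h3
  obtain ⟨a, rfl⟩ := exists_sg_of_mul_self (c := c) (by rwa [← pow_two])
  rcases zmod2_cases a with rfl | rfl
  · exact h1 rfl
  · exact h1 (Units.ext (by simpa [neg_eq_iff_add_eq_zero, one_add_one_eq_two] using h3))

theorem Cl2.exists_sq {R : Subgroup (GL ι F)} (h : Cl2 2 R) {x : GL ι F} (hx : x ∈ R) :
    ∃ a, x * x = scalarGL ι (sg F a) := by
  have := h.nonempty
  obtain ⟨c, hc⟩ := h.pow_mem_scalars hx
  change scalarGL ι c = _ at hc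
  obtain ⟨a, rfl⟩ := exists_sg_of_mul_self (c := c) (scalarGL_injective (ι := ι) (by
    rw [map_mul, hc, map_one, ← pow_add]; exact h.pow x hx))
  exact ⟨a, by rw [hc, pow_two]⟩

theorem Cl2.pData {R : Subgroup (GL ι F)} (h : Cl2 2 R) {i : Fˣ} (hi : i * i = -1) :
    PData i (R.map (glLin ι F).toMonoidHom) where
  i_sq := hi
  two := Cl2.two_ne h
  nontriv := have := h.nonempty; inferInstance
  comm := by
    rintro _ ⟨x, hx, rfl⟩ _ ⟨y, hy, rfl⟩
    obtain ⟨c, hc, e⟩ := h.comm x hx y hy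
    obtain ⟨a, rfl⟩ := exists_sg_of_mul_self (c := c) (by rwa [← pow_two])
    exact ⟨a, by simpa [glLin_scalarGL] using congrArg (glLin ι F) e⟩
  sq := by
    rintro _ ⟨x, hx, rfl⟩
    obtain ⟨a, e⟩ := Cl2.exists_sq h hx
    exact ⟨a, by simpa [glLin_scalarGL] using congrArg (glLin ι F) e⟩
  span f := by
    have h1 : LinearMap.toMatrix' f ∈ Submodule.span F (matrixSet R) := by
      rw [← env_toSubmodule, h.env_top]; trivial
    have := Submodule.mem_map_of_mem (f := (Matrix.toLin' : Matrix ι ι F ≃ₗ[F] _).toLinearMap) h1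
    rw [Submodule.map_span, LinearEquiv.coe_coe, Matrix.toLin'_toMatrix'] at this
    refine Submodule.span_mono ?_ this
    rintro _ ⟨_, ⟨x, hx, rfl⟩, rfl⟩
    exact ⟨_, ⟨x, hx, rfl⟩, glLin_toLinearMap x⟩

theorem mem_normalizer_iff_glLin (R : Subgroup (GL ι F)) (g : GL ι F) : g ∈ subgroupNormalizer R ↔
    glLin ι F g ∈ Subgroup.normalizer (R.map (glLin ι F).toMonoidHom : Set _) := by
  have : ∀ x, glLin ι F x ∈ R.map (glLin ι F).toMonoidHom ↔ x ∈ R := fun x =>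
    Subgroup.mem_map_iff_mem (f := (glLin ι F).toMonoidHom) (glLin ι F).injective
  rw [subgroupNormalizer, Subgroup.mem_normalizer_iff, Subgroup.mem_normalizer_iff,
    (glLin ι F).surjective.forall]
  simp only [← map_inv, ← map_mul, this]

theorem Cl2.exists_i [Finite F] {R : Subgroup (GL ι F)} (h : Cl2 2 R)
    (hZ : Nat.card (Subgroup.center R) = 4) : ∃ i : Fˣ, i * i = -1 ∧ scalarGL ι i ∈ R := by
  obtain ⟨c, hc, ho⟩ := h.exists_generator
  rw [hZ] at ho
  obtain ⟨a, ha⟩ := exists_sg_of_mul_self (c := c * c) (by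
    rw [← pow_orderOf_eq_one c, ho]; simp only [pow_succ, pow_zero, one_mul, mul_assoc])
  rcases zmod2_cases a with rfl | rfl
  · have := Nat.le_of_dvd two_pos (ho ▸ orderOf_dvd_of_pow_eq_one (x := c) (n := 2) (by
      rw [pow_two, ha]; rfl))
    omega
  · exact ⟨c, ha, hc⟩

/-- The Pauli system of a symplectic-type group with centre of order four. -/
theorem Cl2.exists_pauli [Finite F] {R : Subgroup (GL ι F)} (h : Cl2 2 R)
    (hZ : Nat.card (Subgroup.center R) = 4) {m : ℕ} (hm : Fintype.card ι = 2 ^ m) :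
    ∃ (W : Type u) (_ : AddCommGroup W) (_ : Module (ZMod 2) W) (_ : Finite W)
      (P : Pauli F (ι → F) W), finrank (ZMod 2) W = 2 * m ∧
      (∀ g, g ∈ subgroupNormalizer R ↔ glLin ι F g ∈ P.N) ∧ ∀ u, ∃ x ∈ R, glLin ι F x = P.ρ u := by
  obtain ⟨i, hi, hiR⟩ := Cl2.exists_i h hZ
  have : Finite (R.map (glLin ι F).toMonoidHom) := by
    have := eg_finite_linearEquiv (K := F) (V := ι → F)
    infer_instance
  obtain ⟨W, _, _, _, P, rfl, hP⟩ := (Cl2.pData h hi).exists_pauli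
  have h1 : sc (ι → F) P.i ∈ R.map (glLin ι F).toMonoidHom := ⟨_, hiR, glLin_scalarGL _⟩
  refine ⟨W, inferInstance, inferInstance, inferInstance, P, ?_, fun g => ?_, hP.ρ_mem h1⟩
  · have := P.finrank_sq
    rw [finrank_fintype_fun_eq_card, hm, ← pow_mul'] at this
    exact (Nat.pow_right_injective le_rfl this).symm
  · rw [mem_normalizer_iff_glLin, hP.normalizer_eq h1]

theorem card_center_of_linearData [Fintype F] (hn : 3 ≤ Fintype.card ι) {R : Subgroup (GL ι F)}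
    (hR : IsLinearSymplecticTypeData 2 R) : Nat.card (Subgroup.center R) = 4 := by
  obtain ⟨p, e, -, -, h | h | h⟩ := hR.field
  · exact absurd h.1 (by decide)
  · exact h.2.2.1
  · omega

/-- Class six in the linear groups, from a statement about Pauli systems. -/
theorem isMaximalIn_SL_of_pauli [Fintype F] {R : Subgroup (GL ι F)}
    (hR : IsLinearSymplecticTypeData 2 R) {m : ℕ} (hn : Fintype.card ι = 2 ^ m) (hm : 2 ≤ m)
    (H : ∀ (W : Type u) [AddCommGroup W] [Module (ZMod 2) W] [Finite W] (P : Pauli F (ι → F) W),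
      finrank (ZMod 2) W = 2 * m → ∀ X, P.R ≤ X → P.N ⊓ SLV F (ι → F) ≤ X →
        X ≤ P.N ∨ SLV F (ι → F) ≤ X) :
    IsMaximalIn (specialLinear ι F) (subgroupNormalizer R ⊓ specialLinear ι F) := by
  have : 2 ^ 2 ≤ 2 ^ m := Nat.pow_le_pow_right two_pos hm
  obtain ⟨W, _, _, _, P, hW, hN, -⟩ := Cl2.exists_pauli
    (cl2_of_symplecticType (by omega) hR.symplecticType hR.absIrred)
    (card_center_of_linearData (by omega) hR) hn
  exact isMaximalIn_specialLinear_of hN (P.isMaximalIn_SLV hW hm (H W P hW))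

theorem isMaximalIn_SL_of_PL [Fintype F] (H : PL.{u, u, u} F 2) {R : Subgroup (GL ι F)}
    (hR : IsLinearSymplecticTypeData 2 R) {m : ℕ} (hn : Fintype.card ι = 2 ^ m) (hm : 3 ≤ m) :
    IsMaximalIn (specialLinear ι F) (subgroupNormalizer R ⊓ specialLinear ι F) :=
  isMaximalIn_SL_of_pauli hR hn (by omega) fun W _ _ _ P hW X h1 h2 =>
    H.of_two (by omega) _ W P hW X ⟨h1, fun u => h2 ⟨P.s_mem_N u, P.s_mem_SLV hW hm u⟩⟩

theorem isMaximalIn_SL_four [Fintype F]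
    (H : ∀ (W : Type u) [AddCommGroup W] [Module (ZMod 2) W] [Finite W] (P : Pauli F (ι → F) W),
      finrank (ZMod 2) W = 4 → ∀ X, P.H2 {u | u ≠ 0} X → X ≤ P.N ∨ SLV F (ι → F) ≤ X)
    {R : Subgroup (GL ι F)} (hR : IsLinearSymplecticTypeData 2 R) (hn : Fintype.card ι = 4) :
    IsMaximalIn (specialLinear ι F) (subgroupNormalizer R ⊓ specialLinear ι F) :=
  isMaximalIn_SL_of_pauli hR (m := 2) hn le_rfl fun W _ _ _ P hW X h1 h2 =>
    H W P hW X ⟨h1, fun a ha b hb => h2 ⟨P.N.mul_mem (P.s_mem_N a) (P.N.inv_mem (P.s_mem_N b)),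
      MonoidHom.mem_ker.2 <| by
      rw [map_mul, map_inv, P.det_s (m := 1) hW ha, P.det_s (m := 1) hW hb,
        mul_inv_cancel]⟩⟩

variable [Fintype F] {q n : ℕ}

theorem mem_SU_iff_glLin (hF : Fintype.card F = q ^ 2) (g : GL (Fin n) F) :
    g ∈ GU n F q ⊓ specialLinear (Fin n) F ↔ glLin (Fin n) F g ∈ SUV (hermSesq hF n) := by
  rw [mem_SUV, Subgroup.mem_inf, mem_specialLinear_iff_glLin]
  exact and_congr ⟨fun h u v => h v u, fun h u v => h v u⟩ Iff.rfl

omit [Fintype F] in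
theorem pow_eq_neg_of_mod {i : F} (hi : i * i = -1) (hq : q % 4 = 3) : i ^ q = -i := by
  rw [← Nat.div_add_mod q 4, hq, pow_add, pow_mul,
    show i ^ 4 = 1 by linear_combination (i * i - 1) * hi, one_pow]
  linear_combination i * hi

/-- Class six in the unitary groups, from a statement about Pauli systems. -/
theorem isMaximalIn_SU_of_pauli (hF : Fintype.card F = q ^ 2) (hq : q % 4 = 3)
    {R : Subgroup (GL (Fin n) F)} (hR : IsSymplecticTypeGroup 2 R)
    (hirr : ActsAbsolutelyIrreducibly (matrixSet R)) (hRU : R ≤ GU n F q)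
    (hZ : Nat.card (Subgroup.center R) = 4) {m : ℕ} (hn : n = 2 ^ m) (hm : 2 ≤ m)
    (H : ∀ (W : Type u) [AddCommGroup W] [Module (ZMod 2) W] [Finite W]
      (P : Pauli F (Fin n → F) W), (∀ u, P.ρ u ∈ isomGroup (hermSesq hF n)) →
      frobq hF P.i = -P.i → finrank (ZMod 2) W = 2 * m → ∀ X ≤ simG (hermSesq hF n), P.R ≤ X →
      P.N ⊓ SUV (hermSesq hF n) ≤ X → X ≤ P.N ∨ SUV (hermSesq hF n) ≤ X) :
    IsMaximalIn (GU n F q ⊓ specialLinear (Fin n) F)
      (subgroupNormalizer R ⊓ (GU n F q ⊓ specialLinear (Fin n) F)) := by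
  have : 2 ^ 2 ≤ 2 ^ m := Nat.pow_le_pow_right two_pos hm
  obtain ⟨W, _, _, _, P, hW, hN, hρ⟩ := Cl2.exists_pauli
    (cl2_of_symplecticType (by simp; omega) hR hirr) hZ (m := m) (by simpa using hn)
  have h1 : ∀ u, P.ρ u ∈ isomGroup (hermSesq hF n) := fun u => by
    obtain ⟨x, hx, e⟩ := hρ u
    exact e ▸ fun a b => hRU hx b a
  have h2 : frobq hF P.i = -P.i := pow_eq_neg_of_mod P.i_mul_i hq
  exact isMaximalIn_of_mulEquiv (glLin (Fin n) F) (mem_SU_iff_glLin hF)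
    (H' := P.N ⊓ SUV (hermSesq hF n)) (fun g => and_congr (hN g) (mem_SU_iff_glLin hF g))
    (P.isMaximalIn_SUV (herm_hermSesq hF n) h1 h2 hW hm (H W P h1 h2 hW))

theorem isMaximalIn_SU_of_PU (hF : Fintype.card F = q ^ 2) (hq : q % 4 = 3)
    (H : PU.{u, u, u} (frobq hF) 2) {R : Subgroup (GL (Fin n) F)} (hR : IsSymplecticTypeGroup 2 R)
    (hirr : ActsAbsolutelyIrreducibly (matrixSet R)) (hRU : R ≤ GU n F q)
    (hZ : Nat.card (Subgroup.center R) = 4) {m : ℕ} (hn : n = 2 ^ m) (hm : 3 ≤ m) :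
    IsMaximalIn (GU n F q ⊓ specialLinear (Fin n) F)
      (subgroupNormalizer R ⊓ (GU n F q ⊓ specialLinear (Fin n) F)) :=
  isMaximalIn_SU_of_pauli hF hq hR hirr hRU hZ hn (by omega) fun W _ _ _ P h1 h2 hW X h3 h4 h5 =>
    H.of_two (by omega) _ W P _ (herm_hermSesq hF n) h1 h2 hW X h3 ⟨h4, fun u => h5 ⟨P.s_mem_N u,
      mem_SUV.2 ⟨Pauli.s_mem_isomGroup h1 h2 u, P.s_mem_SLV hW hm u⟩⟩⟩

theorem isMaximalIn_SU_four (hF : Fintype.card F = q ^ 2) (hq : q % 4 = 3)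
    (H : ∀ (W : Type u) [AddCommGroup W] [Module (ZMod 2) W] [Finite W]
      (P : Pauli F (Fin 4 → F) W), (∀ u, P.ρ u ∈ isomGroup (hermSesq hF 4)) →
      frobq hF P.i = -P.i → finrank (ZMod 2) W = 4 → ∀ X ≤ simG (hermSesq hF 4),
      P.H2 {u | u ≠ 0} X → X ≤ P.N ∨ SUV (hermSesq hF 4) ≤ X)
    {R : Subgroup (GL (Fin 4) F)} (hR : IsSymplecticTypeGroup 2 R)
    (hirr : ActsAbsolutelyIrreducibly (matrixSet R)) (hRU : R ≤ GU 4 F q)
    (hZ : Nat.card (Subgroup.center R) = 4) :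
    IsMaximalIn (GU 4 F q ⊓ specialLinear (Fin 4) F)
      (subgroupNormalizer R ⊓ (GU 4 F q ⊓ specialLinear (Fin 4) F)) :=
  isMaximalIn_SU_of_pauli hF hq hR hirr hRU hZ (m := 2) rfl le_rfl fun W _ _ _ P h1 h2 hW X h3 h4 h5 =>
    H W P h1 h2 hW X h3 ⟨h4, fun a ha b hb => h5 ⟨P.N.mul_mem (P.s_mem_N a) (P.N.inv_mem (P.s_mem_N b)),
      mem_SUV.2 ⟨mul_mem (Pauli.s_mem_isomGroup h1 h2 a) (inv_mem (Pauli.s_mem_isomGroup h1 h2 b)), by
        rw [map_mul, map_inv, P.det_s (m := 1) hW ha, P.det_s (m := 1) hW hb, mul_inv_cancel]⟩⟩⟩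

end Cfsg.Lib.Class.C6
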