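import Cfsg.Agent.Class.C6.Res
import Cfsg.Agent.Class.SLTv

/-!
# Overgroups of a Pauli normaliser inducing the special linear group on an eigenspace
-/

namespace Cfsg.Lib.Class.C6

open Module Submodule

variable {K V W : Type*} [Field K] [AddCommGroup V] [Module K V] [AddCommGroup W]
  [Module (ZMod 2) W]

theorem exists_dual_kill {S : Submodule K V} {x : V} (hx : x ∉ S) (c : K) :
    ∃ φ : Dual K V, (∀ s ∈ S, φ s = 0) ∧ φ x = c := by
  obtain ⟨f, h1, h2⟩ := LinearMap.exists_extend_of_notMem (0 : S →ₗ[K] K) hx c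
  exact ⟨f, fun s hs => congrArg (fun g : S →ₗ[K] K => g ⟨s, hs⟩) h1, h2⟩

theorem exists_dual_kill_one {b x : V} (hx : x ∉ span K {b}) (c : K) :
    ∃ φ : Dual K V, φ b = 0 ∧ φ x = c := by
  obtain ⟨φ, h1, h2⟩ := exists_dual_kill hx c
  exact ⟨φ, h1 b (mem_span_singleton_self b), h2⟩

theorem exists_mem_ker_notMem [FiniteDimensional K V] {S : Submodule K V} (h3 : 3 ≤ finrank K S)
    (φ : Dual K V) (b : V) : ∃ w ∈ S, φ w = 0 ∧ w ∉ span K {b} := by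
  by_contra! h
  have h1 : S ⊓ LinearMap.ker φ ≤ span K {b} := fun w hw => h w hw.1 hw.2
  have h2 := Submodule.finrank_mono h1
  have h4 : finrank K (span K ({b} : Set V)) ≤ 1 := by
    simpa using finrank_span_le_card (R := K) ({b} : Set V)
  have h5 := (φ.domRestrict S).finrank_range_add_finrank_ker
  have h6 : finrank K (LinearMap.range (φ.domRestrict S)) ≤ 1 := by
    simpa using Submodule.finrank_le (LinearMap.range (φ.domRestrict S))
  have h7 : finrank K (LinearMap.ker (φ.domRestrict S)) = finrank K ↥(S ⊓ LinearMap.ker φ) := by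
    rw [LinearMap.ker_domRestrict, ← Submodule.finrank_map_subtype_eq, Submodule.map_comap_subtype]
  omega

theorem tvIn_conj_norm [FiniteDimensional K V] {Y : Subgroup (V ≃ₗ[K] V)}
    (hY : ∀ k ∈ SLV K V, ∀ y ∈ Y, k * y * k⁻¹ ∈ Y) {a b : V} {φ ψ : Dual K V} (h : TvIn Y a φ)
    (h0 : ψ b = 0) : TvIn Y (a + ψ a • b) (φ - φ b • ψ) := by
  obtain ⟨-, k, hk, e⟩ := tvIn_SLV h0
  obtain ⟨h1, g, hg, e'⟩ := h
  refine ⟨by simp [h1, h0, mul_comm], _, hY k hk g hg, fun x => ?_⟩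
  obtain ⟨x, rfl⟩ := k.surjective x
  rw [LinearEquiv.mul_apply, LinearEquiv.mul_apply, inv_apply_apply, e', map_add, map_smul, e a]
  congr 2
  simp only [e, map_add, map_smul, LinearMap.sub_apply, LinearMap.smul_apply, h0, smul_eq_mul]
  ring

/-- A subgroup normalised by `SL` that contains a transvection contains `SL`. -/
theorem SLV_le_of_norm [FiniteDimensional K V] (h3 : 3 ≤ finrank K V) {Y : Subgroup (V ≃ₗ[K] V)}
    (hY : ∀ k ∈ SLV K V, ∀ y ∈ Y, k * y * k⁻¹ ∈ Y) {a : V} {φ : Dual K V} (h : TvIn Y a φ)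
    (ha : a ≠ 0) (hφ : φ ≠ 0) : SLV K V ≤ Y := by
  have h3' : 3 ≤ finrank K (⊤ : Submodule K V) := by rwa [finrank_top]
  have l1 : ∀ {a b : V} {φ : Dual K V}, TvIn Y a φ → φ b = 0 → a ∉ span K {b} → TvIn Y b φ := by
    intro a b φ h h0 h1
    obtain ⟨ψ, h2, h4⟩ := exists_dual_kill_one h1 1
    have := tvIn_conj_norm hY h h2
    rw [h0, zero_smul, sub_zero, h4, one_smul] at this
    have := this.sub_left h
    rwa [add_sub_cancel_left] at this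
  have l2 : ∀ {a b : V} {φ : Dual K V}, TvIn Y a φ → φ b = 0 → a ≠ 0 → TvIn Y b φ := by
    intro a b φ h h0 h1
    by_cases h2 : a ∈ span K {b}
    · obtain ⟨x, -, h4, h5⟩ := exists_mem_ker_notMem h3' φ b
      refine l1 (l1 h h4 fun h6 => h5 ?_) h0 h5
      obtain ⟨c, rfl⟩ := mem_span_singleton.1 h6
      have := smul_mem _ c⁻¹ h2
      rwa [smul_smul, inv_mul_cancel₀ (by rintro rfl; simp at h1), one_smul] at this
    · exact l1 h h0 h2
  have r1 : ∀ {a b : V} {φ ψ : Dual K V}, TvIn Y a φ → ψ a = 0 → ψ b = 0 → φ b ≠ 0 →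
      TvIn Y a ψ := by
    intro a b φ ψ h h0 h1 h2
    have h4 : ψ ((φ b)⁻¹ • b) = 0 := by simp [h1]
    have := tvIn_conj_norm hY h h4
    rw [h0, zero_smul, add_zero, map_smul, smul_eq_mul, inv_mul_cancel₀ h2, one_smul] at this
    have := h.sub_right this
    rwa [sub_sub_cancel] at this
  have r2 : ∀ {a : V} {φ ψ : Dual K V}, TvIn Y a φ → ψ a = 0 → φ ≠ 0 → TvIn Y a ψ := by
    intro a φ ψ h h0 h1
    by_cases h2 : ∃ b, ψ b = 0 ∧ φ b ≠ 0
    · obtain ⟨b, h2, h4⟩ := h2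
      exact r1 h h0 h2 h4
    push Not at h2
    obtain ⟨b, hb⟩ : ∃ b, φ b ≠ 0 := by
      by_contra! hb
      exact h1 (LinearMap.ext hb)
    obtain ⟨x, -, h4, h5⟩ := exists_mem_ker_notMem h3' ψ a
    obtain ⟨χ, h6, h7⟩ := exists_dual_kill (S := span K {a, b}) (x := x) (fun h6 => by
      obtain ⟨c, d, rfl⟩ := mem_span_pair.1 h6
      have := h2 _ h4
      simp only [map_add, map_smul, h.1, smul_eq_mul, mul_zero, zero_add, mul_eq_zero, hb,
        or_false] at this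
      exact h5 (by simpa [this] using smul_mem _ c (mem_span_singleton_self a))) 1
    exact r1 (r1 h (h6 a (subset_span (by simp))) (h6 b (subset_span (by simp))) hb) h0 h4
      (by simp [h7])
  refine SLV_le_of_tvIn _ fun b ψ h0 => ?_
  obtain ⟨x, hx, h4, h5⟩ := exists_mem_ker_notMem
    (S := ⊤) h3' φ (0 : V)
  by_cases hψ : ∃ x, x ≠ 0 ∧ φ x = 0 ∧ ψ x = 0
  · obtain ⟨x, h1, h2, h4⟩ := hψ
    exact l2 (r2 (l2 h h2 ha) h4 hφ) h0 h1
  · exfalso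
    obtain ⟨y, -, h6, h7⟩ := exists_mem_ker_notMem (S := ⊤) h3' φ x
    refine hψ ⟨ψ x • y - ψ y • x, fun e => h7 ?_, by simp [h4, h6], by simp [mul_comm]⟩
    have hx0 : ψ x ≠ 0 := fun e' => hψ ⟨x, by simpa using h5, h4, e'⟩
    rw [sub_eq_zero] at e
    have := smul_mem _ ((ψ x)⁻¹ * ψ y) (mem_span_singleton_self (R := K) x)
    rwa [mul_smul, ← e, smul_smul, inv_mul_cancel₀ hx0, one_smul] at this

namespace Pauli

variable (P : Pauli K V W)

/-- the group induced on an eigenspace of `ρ u` by the pointwise stabiliser in `X` of the other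
eigenspace -/
def kerX (X : Subgroup (V ≃ₗ[K] V)) (u : W) (ε : ZMod 2) :
    Subgroup (P.Ve u ε ≃ₗ[K] P.Ve u ε) where
  carrier := {k | ∃ g ∈ X, (∀ v, (k v : V) = g v) ∧ ∀ v ∈ P.Ve u (ε + 1), g v = v}
  one_mem' := ⟨1, one_mem _, fun _ => rfl, fun _ _ => rfl⟩
  mul_mem' := by
    rintro a b ⟨g, hg, e, f⟩ ⟨g', hg', e', f'⟩
    exact ⟨g * g', mul_mem hg hg', fun v => by
      rw [LinearEquiv.mul_apply, LinearEquiv.mul_apply, e, e'], fun v hv => by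
      rw [LinearEquiv.mul_apply, f' v hv, f v hv]⟩
  inv_mem' := by
    rintro a ⟨g, hg, e, f⟩
    refine ⟨g⁻¹, inv_mem hg, fun v => g.injective ?_, fun v hv => g.injective ?_⟩
    · rw [← e, apply_inv_apply, apply_inv_apply]
    · rw [apply_inv_apply, f v hv]

variable {P} {X : Subgroup (V ≃ₗ[K] V)}

theorem conj_mem_kerX {u : W} {ε : ZMod 2} {k d : P.Ve u ε ≃ₗ[K] P.Ve u ε}
    (hk : k ∈ P.resX X u ε) (hd : d ∈ P.kerX X u ε) : k * d * k⁻¹ ∈ P.kerX X u ε := by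
  obtain ⟨g, hg, hc, e⟩ := hk
  obtain ⟨f, hf, e', h⟩ := hd
  refine ⟨g * f * g⁻¹, mul_mem (mul_mem hg hf) (inv_mem hg), fun v => ?_, fun v hv => ?_⟩
  · obtain ⟨v, rfl⟩ := k.surjective v
    simp only [LinearEquiv.mul_apply, inv_apply_apply, e, e']
  · rw [LinearEquiv.mul_apply, LinearEquiv.mul_apply, h _ (map_mem_Ve hc.inv_left hv),
      apply_inv_apply]

theorem s_mul_inv_pos {a b : W} {v : V} (h : P.ρ b v = P.ρ a v) (hab : P.β a b = 0) :
    (P.s a * (P.s b)⁻¹) v = v := by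
  rw [(P.commute_s_s hab).inv_right.eq, LinearEquiv.mul_apply, P.s_apply a, ← h, ← P.s_apply,
    inv_apply_apply]

theorem s_mul_inv_neg {a b : W} {v : V} (h : P.ρ b v = -P.ρ a v) :
    (P.s a * (P.s b)⁻¹) v = -(P.i : K) • P.ρ a v := by
  rw [LinearEquiv.mul_apply, s_inv_apply, h, s_apply]
  simp only [map_add, map_smul, map_neg, ρ_ρ]
  match_scalars
  · ring
  · linear_combination (-P.α_sub) + (P.α' - P.α) * P.α_add

/-- an element of `X` that is trivial on one eigenspace of `ρ u` and `-i ρ a` on the other -/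
theorem exists_ker_elt (hR : P.R ≤ X) {u y a : W} (hy : P.β u y = 1) (hu : P.β u a = 0)
    (hya : P.β y a = 0) (hX : P.s a * (P.s (a + u))⁻¹ ∈ X) (ε : ZMod 2) :
    ∃ g ∈ X, (∀ v ∈ P.Ve u ε, g v = -(P.i : K) • P.ρ a v) ∧ ∀ v ∈ P.Ve u (ε + 1), g v = v := by
  obtain ⟨e, he⟩ := P.mul_of_β_zero (u := a) (v := u) (by rw [P.β_comm, hu])
  have h1 : ∀ δ, ∀ v ∈ P.Ve u δ, P.ρ (a + u) v = (sg K (e + δ) : K) • P.ρ a v := by
    intro δ v hv
    have := congrArg (fun g : V ≃ₗ[K] V => g v) he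
    simp only [LinearEquiv.mul_apply, sc_apply, P.mem_Ve.1 hv, map_smul] at this
    rw [sg_add, Units.val_mul, mul_smul, this, smul_smul, sg_val_mul_self, one_smul]
  have h2 : ∀ v ∈ P.Ve u e, (P.s a * (P.s (a + u))⁻¹) v = v := fun v hv =>
    s_mul_inv_pos (by rw [h1 e v hv, zmod2_add_self]; simp)
      (by rw [P.β_add_right, P.alt, P.β_comm, hu, add_zero])
  have h3 : ∀ v ∈ P.Ve u (e + 1), (P.s a * (P.s (a + u))⁻¹) v = -(P.i : K) • P.ρ a v :=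
    fun v hv => s_mul_inv_neg (by rw [h1 _ v hv, ← add_assoc, zmod2_add_self]; simp)
  by_cases hε : ε = e + 1
  · subst hε
    exact ⟨_, hX, h3, by rwa [add_assoc, zmod2_add_self, add_zero]⟩
  obtain rfl : ε = e := (by decide : ∀ ε e : ZMod 2, ¬ε = e + 1 → ε = e) ε e hε
  refine ⟨P.ρ y * (P.s a * (P.s (a + u))⁻¹) * P.ρ y,
    mul_mem (mul_mem (hR (P.ρ_mem_R y)) hX) (hR (P.ρ_mem_R y)), fun v hv => ?_, fun v hv => ?_⟩
  · rw [LinearEquiv.mul_apply, LinearEquiv.mul_apply, h3 _ (hy ▸ ρ_mem_Ve hv y), map_smul,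
      P.ρ_ρ_comm y a, hya, ρ_ρ]
    simp
  · have := ρ_mem_Ve hv y
    rw [hy, add_assoc, zmod2_add_self, add_zero] at this
    rw [LinearEquiv.mul_apply, LinearEquiv.mul_apply, h2 _ this, ρ_ρ]

theorem mem_kerX_of (hR : P.R ≤ X) {u y : W} (hy : P.β u y = 1) (a : P.W1 u y)
    (hX : P.s a * (P.s (a + u))⁻¹ ∈ X) (ε : ZMod 2) :
    sc _ (-P.i) * (P.res hy ε).ρ a ∈ P.kerX X u ε := by
  obtain ⟨g, hg, h1, h2⟩ := exists_ker_elt hR hy a.2.1 a.2.2 hX ε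
  exact ⟨g, hg, fun v => by rw [h1 v v.2]; rfl, h2⟩

theorem SLV_le_of_norm_of_mem [FiniteDimensional K V] (h3 : 3 ≤ finrank K V)
    (hX : ∀ k ∈ SLV K V, ∀ y ∈ X, k * y * k⁻¹ ∈ X) {a : W} (ha : a ≠ 0)
    (h : sc V (-P.i) * P.ρ a ∈ X) : SLV K V ≤ X := by
  obtain ⟨w, hw, hw0⟩ := P.exists_ne_Ve ha 0
  obtain ⟨w', hw', hw0'⟩ := P.exists_ne_Ve ha 1
  rw [mem_Ve_zero] at hw
  rw [mem_Ve_one] at hw'
  obtain ⟨ξ, -, hξ⟩ := exists_dual_kill (K := K) (S := ⊥) (x := w') (by simpa using hw0') 1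
  set φ : Dual K V := ξ - ξ ∘ₗ (P.ρ a : V →ₗ[K] V) with hφ
  have h0 : φ w = 0 := by simp [hφ, hw]
  have h1 : ∀ x, φ (P.ρ a x) = -φ x := fun x => by simp [hφ]
  obtain ⟨-, t, ht, e⟩ := tvIn_SLV h0
  have e' : ∀ x, t⁻¹ x = x - φ x • w := fun x => t.injective (by
    rw [apply_inv_apply, e]; simp [h0])
  refine SLV_le_of_norm h3 hX (a := w) (φ := (2 : K) • φ)
    ⟨by simp [h0], _, mul_mem (hX t ht _ h) (inv_mem h), fun x => ?_⟩ hw0 fun h2 => ?_
  · have hi := P.i_mul_i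
    rw [mul_inv_rev, P.ρ_inv, ← map_inv]
    simp only [LinearEquiv.mul_apply, sc_apply, e', e, map_sub, map_smul, h1, ρ_ρ, hw, h0,
      LinearMap.smul_apply, Units.val_neg, Units.val_inv_eq_inv_val, smul_eq_mul]
    match_scalars <;> field_simp
    ring
  · have := congrArg (fun f : Dual K V => f w') h2
    simp only [hφ, LinearMap.smul_apply, LinearMap.sub_apply, LinearMap.comp_apply,
      LinearEquiv.coe_coe, hw', map_neg, hξ, smul_eq_mul, LinearMap.zero_apply] at this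
    exact mul_ne_zero P.two P.two (by linear_combination this)

theorem tvIn_of_kerX {u : W} {ε : ZMod 2} [FiniteDimensional K V]
    (h : SLV K (P.Ve u ε) ≤ P.kerX X u ε) {a : V} (ha : a ∈ P.Ve u ε) {φ : Dual K V}
    (hφ : ∀ v ∈ P.Ve u (ε + 1), φ v = 0) (h0 : φ a = 0) : TvIn X a φ := by
  obtain ⟨-, k, hk, e⟩ := tvIn_SLV (a := (⟨a, ha⟩ : P.Ve u ε)) (φ := φ.domRestrict _) h0
  obtain ⟨g, hg, e1, e2⟩ := h hk
  obtain ⟨-, t, -, et⟩ := tvIn_SLV h0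
  refine ⟨h0, g, hg, fun x => ?_⟩
  rw [← et, P.ext_Ve u (g := g) (h := t) fun δ v hv => ?_]
  by_cases hδ : δ = ε + 1
  · subst hδ
    rw [et, e2 v hv, hφ v hv, zero_smul, add_zero]
  · obtain rfl : δ = ε := (by decide : ∀ ε e : ZMod 2, ¬ε = e + 1 → ε = e) δ ε hδ
    rw [et, ← e1 ⟨v, hv⟩, e]
    rfl

theorem exists_dual_Ve {u : W} {ε : ZMod 2} {b w : V} (hb : b ∈ P.Ve u ε) (hw : w ∈ P.Ve u ε)
    (h : w ∉ Submodule.span K {b}) (c : K) :
    ∃ φ : Dual K V, (∀ v ∈ P.Ve u (ε + 1), φ v = 0) ∧ φ b = 0 ∧ φ w = c := by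
  obtain ⟨φ, h1, h2⟩ := exists_dual_kill_one h c
  refine ⟨φ ∘ₗ (P.Ve u ε).subtype ∘ₗ P.proj u ε, fun v hv => ?_, ?_, ?_⟩
  · simp [P.proj_of_mem' hv]
  · simp [P.proj_of_mem hb, h1]
  · simp [P.proj_of_mem hw, h2]

/-- `SL(V₀) × SL(V₁)` together with `s y` generates a group containing `SL(V)`. -/
theorem SLV_le_of_kerX [FiniteDimensional K V] {u y : W} (hy : P.β u y = 1) (hs : P.s y ∈ X)
    (h3 : ∀ ε, 3 ≤ finrank K (P.Ve u ε)) (h : ∀ ε, SLV K (P.Ve u ε) ≤ P.kerX X u ε) :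
    SLV K V ≤ X := by
  have hε : ∀ ε : ZMod 2, ε + 1 + 1 = ε := by decide
  have cross : ∀ ε, ∀ b ∈ P.Ve u ε, ∀ χ : Dual K V, (∀ v ∈ P.Ve u ε, χ v = 0) → TvIn X b χ := by
    intro ε b hb χ hχ
    set Φ : Dual K V := χ ∘ₗ (P.ρ y : V →ₗ[K] V) with hΦ
    have hΦ' : ∀ v ∈ P.Ve u (ε + 1), Φ v = 0 := fun v hv => hχ _ (by
      have := ρ_mem_Ve hv y
      rwa [hy, hε] at this)
    have key : ∀ b ∈ P.Ve u ε, Φ b = 0 → TvIn X b χ := by
      intro b hb h0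
      obtain ⟨w, hw, h1, h2⟩ := exists_mem_ker_notMem (h3 ε) Φ b
      obtain ⟨Ψ, h4, h5, h6⟩ := exists_dual_Ve hb hw h2 (P.α⁻¹ * P.α⁻¹)
      have h7 := (tvIn_of_kerX (h ε) hw hΦ' h1).conj hs (ψ := P.α' • Φ + P.α • χ) fun x => by
        simp only [hΦ, s_apply, LinearMap.add_apply, LinearMap.smul_apply, LinearMap.comp_apply,
          LinearEquiv.coe_coe, map_add, map_smul, ρ_ρ, smul_eq_mul]
        linear_combination χ (P.ρ y x) * P.two_α_mul + χ x * P.α_sq_add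
      have h8 := h7.comm (tvIn_of_kerX (h ε) hb h4 h5) (by simp [h0, hχ b hb])
      have h9 := h8.sub_right (ψ := P.α' • Φ) (tvIn_of_kerX (h ε) (smul_mem _ _ hb)
        (fun v hv => by simp [hΦ' v hv]) (by simp [h0]))
      rw [add_sub_cancel_left, ← TvIn.smul_iff, smul_smul, s_apply, map_add, map_smul, map_smul,
        h4 (P.ρ y w) (hy ▸ ρ_mem_Ve hw y), h6] at h9
      have := P.α_ne_zero
      convert h9
      rw [show P.α * (P.α • (P.α⁻¹ * P.α⁻¹) + P.α' • (0 : K)) = 1 by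
        simp only [smul_eq_mul]; field_simp; simp, one_smul]
    obtain ⟨w, hw, h1, h2⟩ := exists_mem_ker_notMem (h3 ε) Φ b
    obtain ⟨Ψ, h4, h5, h6⟩ := exists_dual_Ve hb hw h2 1
    have := (key w hw h1).comm (tvIn_of_kerX (h ε) hb h4 h5) (hχ b hb)
    rwa [h6, one_smul] at this
  have left : ∀ ε, ∀ a ∈ P.Ve u ε, ∀ χ : Dual K V, χ a = 0 → TvIn X a χ := by
    intro ε a ha χ h0
    let χ' : Dual K V := χ ∘ₗ (P.Ve u ε).subtype ∘ₗ P.proj u ε
    have := (tvIn_of_kerX (h ε) ha (φ := χ') (fun v hv => by simp [χ', P.proj_of_mem' hv])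
      (by simp [χ', P.proj_of_mem ha, h0])).add_right
      (cross ε a ha (χ - χ') fun v hv => by simp [χ', P.proj_of_mem hv])
    rwa [add_sub_cancel] at this
  refine SLV_le_of_tvIn _ fun v χ h0 => ?_
  obtain ⟨a, ha, b, hb, rfl⟩ := P.exists_add_Ve u v
  obtain ⟨w, hw, h1, h2⟩ := exists_mem_ker_notMem (h3 0) χ a
  obtain ⟨Ψ, h4, h5, h6⟩ := exists_dual_Ve ha hw h2 1
  have := (left 0 w hw χ h1).comm ((left 0 a ha Ψ h5).add_left
    (left 1 b hb Ψ (h4 b (by rwa [zero_add])))) h0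
  rwa [h6, one_smul] at this

theorem le_resX_of {u y : W} (hy : P.β u y = 1) (hR : P.R ≤ X) [FiniteDimensional K V]
    (h : SLV K (P.Ve u 0) ≤ P.resX X u 0) (ε : ZMod 2) : SLV K (P.Ve u ε) ≤ P.resX X u ε := by
  rcases zmod2_cases ε with rfl | rfl
  · exact h
  refine SLV_le_of_tvIn _ fun a φ h0 => ?_
  have ha : P.ρ y a ∈ P.Ve u 0 := by simpa [hy, zmod2_add_self] using ρ_mem_Ve a.2 y
  let f : P.Ve u 0 →ₗ[K] P.Ve u 1 := ((P.ρ y : V →ₗ[K] V).domRestrict _).codRestrict _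
    fun v => by simpa [hy] using ρ_mem_Ve v.2 y
  obtain ⟨-, k, hk, e⟩ := tvIn_SLV (a := (⟨_, ha⟩ : P.Ve u 0)) (φ := φ ∘ₗ f) (by
    rw [← h0, LinearMap.comp_apply]; congr 1; exact Subtype.ext (P.ρ_ρ y a))
  obtain ⟨g, hg, hc, e'⟩ := h hk
  obtain ⟨-, t, -, et⟩ := tvIn_SLV h0
  refine ⟨h0, t, ⟨P.ρ y * g * P.ρ y, mul_mem (mul_mem (hR (P.ρ_mem_R y)) hg) (hR (P.ρ_mem_R y)),
    LinearEquiv.ext fun v => ?_, fun v => ?_⟩, et⟩
  · simp only [LinearEquiv.mul_apply]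
    rw [P.ρ_ρ_comm y u, map_smul, commute_apply hc, map_smul, P.ρ_ρ_comm u y (g _), P.β_comm y u]
  · have hv : P.ρ y v ∈ P.Ve u 0 := by simpa [hy, zmod2_add_self] using ρ_mem_Ve v.2 y
    rw [LinearEquiv.mul_apply, LinearEquiv.mul_apply, ← e' ⟨_, hv⟩, e, et]
    have : f ⟨_, hv⟩ = v := Subtype.ext (P.ρ_ρ y v)
    simp [this]

/-- (α) for the linear groups. -/
theorem H1.SLV_le [FiniteDimensional K V] [Finite W] (h : P.H1 X) (hW : 6 ≤ finrank (ZMod 2) W)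
    {u y : W} (hy : P.β u y = 1) (hS : SLV K (P.Ve u 0) ≤ P.resX X u 0) : SLV K V ≤ X := by
  have h1 := P.finrank_W1 hy
  have h3 : ∀ ε, 3 ≤ finrank K (P.Ve u ε) := fun ε =>
    le_trans (by norm_num) ((P.res hy ε).pow_le_finrank (m := 2) (by omega))
  have : Nontrivial (P.W1 u y) := Module.nontrivial_of_finrank_pos (R := ZMod 2) (by omega)
  obtain ⟨a, ha⟩ := exists_ne (0 : P.W1 u y)
  refine SLV_le_of_kerX hy (h.2 y) h3 fun ε => ?_
  exact SLV_le_of_norm_of_mem (P := P.res hy ε) (h3 ε)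
    (fun k hk d hd => conj_mem_kerX (le_resX_of hy h.1 hS ε hk) hd) ha
    (mem_kerX_of h.1 hy a (mul_mem (h.2 _) (inv_mem (h.2 _))) ε)

end Pauli

end Cfsg.Lib.Class.C6
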