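import Cfsg.Agent.Class.C6.AlphaL
import Cfsg.Agent.Class.HermMaxND

/-!
# Overgroups of a Pauli normaliser inducing the special unitary group on an eigenspace
-/

namespace Cfsg.Lib.Class.C6

open Module Form

variable {K V W : Type*} [Field K] [AddCommGroup V] [Module K V] [AddCommGroup W]
  [Module (ZMod 2) W] {σ : K →+* K} {B : V →ₛₗ[σ] V →ₗ[K] K}

/-- the special unitary group inside the general linear group -/
noncomputable abbrev SUV (B : V →ₛₗ[σ] V →ₗ[K] K) : Subgroup (V ≃ₗ[K] V) :=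
  (sIsom B).map (isomGroup B).subtype

theorem mem_SUV {g : V ≃ₗ[K] V} : g ∈ SUV B ↔ g ∈ isomGroup B ∧ LinearEquiv.det g = 1 :=
  ⟨by rintro ⟨g, hg, rfl⟩; exact ⟨g.2, hg⟩, fun h => ⟨⟨g, h.1⟩, h.2, rfl⟩⟩

theorem coe_mem_SUV {g : isomGroup B} (hg : g ∈ sIsom B) : (g : V ≃ₗ[K] V) ∈ SUV B := ⟨g, hg, rfl⟩

/-- A subgroup normalised by `SU` that contains a non-scalar isometry contains `SU`. -/
theorem SUV_le_of_norm [Finite K] [FiniteDimensional K V] (h : Herm B) (hn : 4 ≤ finrank K V)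
    {Y : Subgroup (V ≃ₗ[K] V)} (hY : ∀ k ∈ SUV B, ∀ y ∈ Y, k * y * k⁻¹ ∈ Y) {d : V ≃ₗ[K] V}
    (hd : d ∈ Y) (hdB : d ∈ isomGroup B) (hns : ¬ ∃ a : K, ∀ v, d v = a • v) : SUV B ≤ Y := by
  let N : Subgroup (sIsom B) := Y.comap ((isomGroup B).subtype.comp (sIsom B).subtype)
  have hN : N.Normal := ⟨fun n hn g => hY _ (coe_mem_SUV g.2) _ hn⟩
  rcases h.normal_le_center_or_eq_top (by omega) (by omega) N hN with hc | hc
  swap
  · rintro _ ⟨g, hg, rfl⟩
    exact (hc.ge (Subgroup.mem_top _) : (⟨g, hg⟩ : sIsom B) ∈ N)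
  refine absurd (h.exists_eq_smul_of_isotropic (by omega) (d : V →ₗ[K] V) fun z hz => ?_) hns
  obtain ⟨δ, hδ0, hδ⟩ := h.exists_trace_zero
  by_cases hz0 : z = 0
  · exact ⟨0, by simp [hz0]⟩
  let t := h.transv z hz δ hδ
  have ht : t ∈ sIsom B := h.transv_mem_sIsom ..
  let D : isomGroup B := ⟨d, hdB⟩
  have h1 : t * D * t⁻¹ * D⁻¹ ∈ sIsom B := by
    rw [mul_assoc, mul_assoc, ← mul_assoc D]
    exact mul_mem ht ((sIsom_normal B).conj_mem _ (inv_mem ht) D)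
  obtain ⟨a, ha⟩ := (h.mem_center_sIsom_iff (by omega)).1 (hc (x := ⟨_, h1⟩)
    (mul_mem (hY _ (coe_mem_SUV ht) _ hd) (inv_mem hd)))
  have h2 : ∀ x, d x + (δ * B z (d x)) • z = a • (d x + (δ * B z x) • d z) := fun x => by
    have := ha (d ((t : V ≃ₗ[K] V) x))
    change (t : V ≃ₗ[K] V) (d ((t : V ≃ₗ[K] V)⁻¹ (d⁻¹ (d ((t : V ≃ₗ[K] V) x))))) = _ at this
    rwa [inv_apply_apply, inv_apply_apply, h.transv_apply, h.transv_apply, map_add, map_smul] at this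
  obtain ⟨x, -, hx, hx0⟩ := exists_mem_kerL_notMem (F := K) (⊤ : Submodule K V)
    [B z, B z ∘ₗ (d : V →ₗ[K] V)] [] (by rw [finrank_top]; simp; omega)
  have h3 : B z x = 0 := hx _ (by simp)
  have h4 : B z (d x) = 0 := hx (B z ∘ₗ (d : V →ₗ[K] V)) (by simp)
  have h5 : a = 1 := by
    have := h2 x
    simp only [h3, h4, mul_zero, zero_smul, add_zero] at this
    by_contra h5
    refine ne_zero_of_notMem_spanL hx0 (d.map_eq_zero_iff.1 ?_)
    rw [← sub_eq_zero, ← one_smul K (d x), smul_smul, mul_one, ← sub_smul] at this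
    exact (smul_eq_zero.1 this).resolve_left (sub_ne_zero.2 (Ne.symm h5))
  obtain ⟨x, hx⟩ := h.exists_ne hz0
  have := h2 x
  rw [h5, one_smul, add_right_inj] at this
  refine ⟨(δ * B z x)⁻¹ * (δ * B z (d x)), ?_⟩
  rw [mul_smul, this, smul_smul, inv_mul_cancel₀ (mul_ne_zero hδ0 hx), one_smul]
  rfl

theorem addSubgroup_eq_top_of_SUV [Finite K] [FiniteDimensional K V] (h : Herm B)
    (hn : 3 ≤ finrank K V) {A : AddSubgroup V} (hA : ∀ g ∈ SUV B, ∀ x ∈ A, g x ∈ A) {i : V}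
    (hi : i ∈ A) (hi0 : i ≠ 0) (x : V) : x ∈ A := by
  refine h.addSubgroup_eq_top (fun g x hx => ?_) hi hi0 x
  obtain ⟨d, hd, hdd⟩ := h.exists_nonisotropic_orth_of_lt (W := Submodule.span K {x}) (by
    have := finrank_span_singleton_le (F := K) x
    omega)
  obtain ⟨μ, hμ, hm⟩ := h.exists_mul_qrefl_mem hdd g
  have := hA _ (coe_mem_SUV hm) x hx
  rwa [isom_mul_apply, h.qrefl_apply_of_orth hdd μ hμ (h.comm (mem_orth_span_singleton.1 hd))]
    at this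

namespace Pauli

variable {P : Pauli K V W} {X : Subgroup (V ≃ₗ[K] V)}

theorem orth_Ve (hρ : ∀ u, P.ρ u ∈ isomGroup B) {u : W} {ε : ZMod 2} {a b : V} (ha : a ∈ P.Ve u ε)
    (hb : b ∈ P.Ve u (ε + 1)) : B a b = 0 := by
  have := mem_isomGroup.1 (hρ u) a b
  rw [P.mem_Ve.1 ha, P.mem_Ve.1 hb] at this
  refine (mul_eq_zero.1 (?_ : 2 * B a b = 0)).resolve_left P.two
  rcases zmod2_cases ε with rfl | rfl <;>
    simp only [zero_add, zmod2_add_self, sg_zero, sg_one, Units.val_one, Units.val_neg, one_smul,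
      neg_smul, map_neg, LinearMap.neg_apply] at this <;> linear_combination -this

theorem orth_Ve' (hρ : ∀ u, P.ρ u ∈ isomGroup B) {u : W} {ε : ZMod 2} {a b : V}
    (ha : a ∈ P.Ve u (ε + 1)) (hb : b ∈ P.Ve u ε) : B a b = 0 :=
  orth_Ve hρ ha (by rwa [add_assoc, zmod2_add_self, add_zero])

theorem apply_proj (hρ : ∀ u, P.ρ u ∈ isomGroup B) {u : W} {ε : ZMod 2} {a : V} (ha : a ∈ P.Ve u ε)
    (v : V) : B a (P.proj u ε v) = B a v := by
  conv_rhs => rw [← P.proj_add_proj u v, map_add]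
  rcases zmod2_cases ε with rfl | rfl
  · rw [orth_Ve hρ ha (b := P.proj u 1 v) (by simp), add_zero]
  · rw [orth_Ve' hρ (ε := 0) (by simpa using ha) (P.proj u 0 v).2, zero_add]

theorem nondegOn_Ve (h : Herm B) (hρ : ∀ u, P.ρ u ∈ isomGroup B) (u : W) (ε : ZMod 2) :
    NondegOn B (P.Ve u ε) := fun a ha e =>
  h.sep a fun v => by rw [← apply_proj hρ ha, e _ (P.proj u ε v).2]

theorem map_α (hi : σ P.i = -P.i) : σ P.α = P.α' := by
  rw [α, α', map_div₀, map_add, map_one, map_ofNat, hi, sub_eq_add_neg]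

theorem map_α' (hi : σ P.i = -P.i) : σ P.α' = P.α := by
  rw [α, α', map_div₀, map_sub, map_one, map_ofNat, hi, sub_neg_eq_add]

theorem s_mem_isomGroup (hρ : ∀ u, P.ρ u ∈ isomGroup B) (hi : σ P.i = -P.i) (u : W) :
    P.s u ∈ isomGroup B := fun x y => by
  have h1 := mem_isomGroup.1 (hρ u) x y
  have h2 := mem_isomGroup.1 (hρ u) x (P.ρ u y)
  rw [ρ_ρ] at h2
  simp only [s_apply, map_add, map_smulₛₗ, LinearMap.add_apply, LinearMap.smul_apply, smul_eq_mul,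
    RingHom.id_apply, map_α hi, map_α' hi, h1, h2]
  linear_combination B x y * P.two_α_mul + B x (P.ρ u y) * P.α_sq_add

theorem sc_mem_isomGroup {c : Kˣ} (hc : σ c * c = 1) : sc V c ∈ isomGroup B := fun x y => by
  simp only [sc_apply, map_smulₛₗ, LinearMap.smul_apply, smul_eq_mul, RingHom.id_apply]
  linear_combination B x y * hc

theorem res_ρ_mem_isomGroup (hρ : ∀ u, P.ρ u ∈ isomGroup B) {u y : W} (hy : P.β u y = 1)
    (ε : ZMod 2) (w : P.W1 u y) : (P.res hy ε).ρ w ∈ isomGroup (restr B (P.Ve u ε)) :=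
  fun a b => hρ w a b

theorem resX_le_simG (hX : X ≤ simG B) (u : W) (ε : ZMod 2) :
    P.resX X u ε ≤ simG (restr B (P.Ve u ε)) := by
  rintro k ⟨g, hg, -, e⟩
  obtain ⟨c, hc⟩ := hX hg
  exact ⟨c, fun a b => by rw [restr_apply, restr_apply, e, e, hc]⟩

variable (P) in
/-- `ρ y` exchanges the two eigenspaces of `ρ u`. -/
def swapE {u y : W} (hy : P.β u y = 1) : P.Ve u 0 ≃ₗ[K] P.Ve u 1 where
  toFun v := ⟨P.ρ y v, by simpa [hy] using ρ_mem_Ve v.2 y⟩
  invFun v := ⟨P.ρ y v, by simpa [hy, zmod2_add_self] using ρ_mem_Ve v.2 y⟩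
  map_add' a b := Subtype.ext (by simp)
  map_smul' c a := Subtype.ext (by simp)
  left_inv v := Subtype.ext (P.ρ_ρ y v)
  right_inv v := Subtype.ext (P.ρ_ρ y v)

theorem autCongr_mem_resX (hR : P.R ≤ X) {u y : W} (hy : P.β u y = 1)
    {k : P.Ve u 0 ≃ₗ[K] P.Ve u 0} (hk : k ∈ P.resX X u 0) :
    autCongr (P.swapE hy) k ∈ P.resX X u 1 := by
  obtain ⟨g, hg, hc, e⟩ := hk
  refine ⟨P.ρ y * g * P.ρ y, mul_mem (mul_mem (hR (P.ρ_mem_R y)) hg) (hR (P.ρ_mem_R y)),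
    LinearEquiv.ext fun v => ?_, fun v => congrArg (P.ρ y) (e _)⟩
  simp only [LinearEquiv.mul_apply]
  rw [P.ρ_ρ_comm y u, map_smul, commute_apply hc, map_smul, P.ρ_ρ_comm u y (g _), P.β_comm y u]

theorem SUV_le_resX (hρ : ∀ u, P.ρ u ∈ isomGroup B) (hR : P.R ≤ X) {u y : W} (hy : P.β u y = 1)
    (h : SUV (restr B (P.Ve u 0)) ≤ P.resX X u 0) (ε : ZMod 2) :
    SUV (restr B (P.Ve u ε)) ≤ P.resX X u ε := by
  rcases zmod2_cases ε with rfl | rfl
  · exact h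
  intro k hk
  obtain ⟨k, rfl⟩ := (autCongr (P.swapE hy)).surjective k
  rw [mem_SUV, det_autCongr] at hk
  refine autCongr_mem_resX hR hy (h (mem_SUV.2 ⟨fun a b => ?_, hk.2⟩))
  have := hk.1 (P.swapE hy a) (P.swapE hy b)
  simp only [autCongr_apply, LinearEquiv.symm_apply_apply] at this
  exact (hρ y _ _).symm.trans (this.trans (hρ y _ _))

theorem SUV_le_of_norm_of_mem [Finite K] [FiniteDimensional K V] (h : Herm B)
    (hρ : ∀ u, P.ρ u ∈ isomGroup B) (hi : σ P.i = -P.i) (hn : 4 ≤ finrank K V)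
    (hX : ∀ k ∈ SUV B, ∀ y ∈ X, k * y * k⁻¹ ∈ X) {a : W} (ha : a ≠ 0)
    (hd : sc V (-P.i) * P.ρ a ∈ X) : SUV B ≤ X := by
  refine SUV_le_of_norm h hn hX hd (mul_mem (sc_mem_isomGroup ?_) (hρ a)) ?_
  · rw [Units.val_neg, map_neg, hi]
    linear_combination -P.i_mul_i
  · rintro ⟨c, hc⟩
    refine ha (P.nondeg a fun w => P.β_eq_zero_of_commute (LinearEquiv.ext fun v => ?_))
    have e : ∀ v, P.ρ a v = (P.i * c) • v := fun v => by
      rw [mul_smul, ← hc, LinearEquiv.mul_apply, sc_apply, smul_smul, Units.val_neg, mul_neg,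
        P.i_mul_i, neg_neg, one_smul]
    rw [LinearEquiv.mul_apply, LinearEquiv.mul_apply, e, e, map_smul]

theorem eq_of_kerX {u : W} {ε : ZMod 2} {k : P.Ve u ε ≃ₗ[K] P.Ve u ε} (hk : k ∈ P.kerX X u ε)
    {g : V ≃ₗ[K] V} (h1 : ∀ v, (k v : V) = g v) (h2 : ∀ v ∈ P.Ve u (ε + 1), g v = v) : g ∈ X := by
  obtain ⟨f, hf, e1, e2⟩ := hk
  rwa [P.ext_Ve u (g := g) (h := f) fun δ v hv => ?_]
  by_cases hδ : δ = ε + 1
  · subst hδ
    rw [e2 v hv, h2 v hv]
  · obtain rfl : δ = ε := (by decide : ∀ ε e : ZMod 2, ¬ε = e + 1 → ε = e) δ ε hδ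
    rw [← e1 ⟨v, hv⟩, h1]

/-- `SU(V₀) × SU(V₁)` together with `s y` generates a group containing `SU(V)`. -/
theorem SUV_le_of_kerX [Finite K] [FiniteDimensional K V] (h : Herm B)
    (hρ : ∀ u, P.ρ u ∈ isomGroup B) (hi : σ P.i = -P.i) {u y : W} (hy : P.β u y = 1)
    (hs : P.s y ∈ X) (h4 : ∀ ε, 4 ≤ finrank K (P.Ve u ε))
    (hk : ∀ ε, SUV (restr B (P.Ve u ε)) ≤ P.kerX X u ε) : SUV B ≤ X := by
  obtain ⟨δ, hδ0, hδ⟩ := h.exists_trace_zero
  have hn : 4 ≤ finrank K V := (h4 0).trans (Submodule.finrank_le _)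
  have h0 := h.restrict (nondegOn_Ve h hρ u 0)
  have h1 := h.restrict (nondegOn_Ve h hρ u 1)
  let M : Subgroup (isomGroup B) := X.subgroupOf (isomGroup B)
  have o01 : ∀ a ∈ P.Ve u 0, ∀ b ∈ P.Ve u (0 + 1), B a b = 0 := fun a ha b hb => orth_Ve hρ ha hb
  have full : ∀ z ∈ P.Ve u 0, B z z = 0 → z ≠ 0 → h.Full M z := by
    intro z hz0 hz hz1
    have hE : ∀ w ∈ P.Ve u 0, B z w = 0 → w ∈ h.eichSub M hz := fun w hw hzw =>
      h.mem_eichSub_of_forall hz hzw fun b hb =>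
        eq_of_kerX (hk 0 (coe_mem_SUV (h0.eich_mem_sIsom (u := ⟨z, hz0⟩) (w := ⟨w, hw⟩) hz hzw b hb)))
          (fun v => (congrArg Subtype.val (h0.eich_apply (u := ⟨z, hz0⟩) (w := ⟨w, hw⟩) hz hzw b hb
            v)).trans (h.eich_apply hz hzw b hb v).symm)
          fun v hv => by simp [Herm.eich_apply, o01 z hz0 v hv, o01 w hw v hv]
    obtain ⟨z', hz0', h2, h3, hz'⟩ := h.exists_iso_in (P.Ve u 0) [B z] [z] (h4 0)
    replace h2 : B z z' = 0 := h2 _ (by simp)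
    have ht : h.transv z' hz' δ hδ ∈ M :=
      eq_of_kerX (hk 0 (coe_mem_SUV (h0.transv_mem_sIsom ⟨z', hz0'⟩ hz' δ hδ)))
        (fun v => (congrArg Subtype.val (h0.transv_apply ⟨z', hz0'⟩ hz' δ hδ v)).trans
          (h.transv_apply z' hz' δ hδ v).symm)
        fun v hv => by simp [Herm.transv_apply, o01 z' hz0' v hv]
    let S : isomGroup B := ⟨P.s y, s_mem_isomGroup hρ hi y⟩
    have hv : B (P.s y z') (P.s y z') = 0 := (isom_apply S z' z').trans hz'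
    have ht' : h.transv (P.s y z') hv δ hδ ∈ M := by
      rw [← h.conj_transv S z' hz']
      exact mul_mem (mul_mem (hs : S ∈ M) ht) (inv_mem (hs : S ∈ M))
    have hy' : P.ρ y z' ∈ P.Ve u (0 + 1) := hy ▸ ρ_mem_Ve hz0' y
    have e : ∀ w ∈ P.Ve u 0, B (P.s y z') w = P.α' * B z' w := fun w hw => by
      simp [s_apply, map_α hi, h.comm (o01 w hw _ hy')]
    obtain ⟨x, hx1, hx2⟩ := h.exists_orth_of_notMem h3
    have h5 : B z (P.proj u 0 x) = 0 := by
      rw [apply_proj hρ hz0]; exact h.comm (hx1 z (mem_spanL_of_mem (by simp)))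
    have h6 : B z' (P.proj u 0 x) ≠ 0 := by
      rw [apply_proj hρ hz0']; exact h.ne_comm hx2
    have h7 := h.apply_mem_eichSub ht' (hz' := hz) (by simp [Herm.transv_apply, e z hz0, h.comm h2])
      (hE _ (P.proj u 0 x).2 h5)
    rw [Herm.transv_apply, e _ (P.proj u 0 x).2, s_apply, smul_add, ← add_assoc,
      (h.eichSub M hz).add_mem_cancel_left (add_mem (hE _ (P.proj u 0 x).2 h5)
        (hE _ (Submodule.smul_mem _ _ (Submodule.smul_mem _ _ hz0')) (by simp [h2])))] at h7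
    have h8 := addSubgroup_eq_top_of_SUV h1 (le_trans (by norm_num) (h4 1))
      (A := (h.eichSub M hz).comap (P.Ve u 1).subtype.toAddMonoidHom) (fun g hg v hv => by
        obtain ⟨f, hf, e1, e2⟩ := hk 1 hg
        have hg' := (mem_SUV.1 hg).1
        have e3 : ∀ a ∈ P.Ve u 0, f a = a := fun a ha => e2 a (by rwa [zmod2_add_self])
        have hfB : f ∈ isomGroup B := fun a b => by
          rw [← P.proj_add_proj u a, ← P.proj_add_proj u b]
          have := hg' (P.proj u 1 a) (P.proj u 1 b)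
          have o : ∀ (a : P.Ve u 0) (b : P.Ve u 1), B a b = 0 := fun a b => o01 a a.2 b (by simp)
          simp only [restr_apply] at this
          simp only [map_add, LinearMap.add_apply, e3 _ (P.proj u 0 _).2, ← e1, o,
            h.comm (o _ _), this]
        have := h.apply_mem_eichSub (M := M) (g := ⟨f, hfB⟩) hf (hz' := hz) (e3 z hz0) hv
        rwa [AddSubgroup.mem_comap, LinearMap.toAddMonoidHom_coe, Submodule.subtype_apply, e1])
      (i := ⟨_, Submodule.smul_mem _ _ (Submodule.smul_mem _ _ (by simpa using hy'))⟩) h7 (by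
        have : z' ≠ 0 := ne_zero_of_notMem_spanL h3
        simp [hδ0, h6, P.α'_ne_zero, this])
    refine h.full_of_forall (by omega) hz fun w hw => ⟨0, ?_⟩
    rw [zero_smul, add_zero, ← P.proj_add_proj u w]
    exact add_mem (hE _ (P.proj u 0 w).2 (by rwa [apply_proj hρ hz0])) (h8 (P.proj u 1 w))
  obtain ⟨z, hz0, hz1, hz⟩ := h.exists_isotropic_mem (nondegOn_Ve h hρ u 0) (by have := h4 0; omega)
  obtain ⟨x, hx⟩ := h.exists_ne hz1
  obtain ⟨f, hf0, hf, hzf⟩ := h.exists_partner_mem hz0 (P.proj u 0 x).2 hz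
    (by rwa [apply_proj hρ hz0])
  have := h.sIsom_le_of_full hn (full z hz0 hz hz1) (full f hf0 hf (by rintro rfl; simp at hzf))
    (by rw [hzf]; exact one_ne_zero)
  rintro _ ⟨g, hg, rfl⟩
  exact this hg

/-- (α) for the unitary groups. -/
theorem H1.SUV_le [Finite K] [FiniteDimensional K V] [Finite W] (hH : P.H1 X) (h : Herm B)
    (hρ : ∀ u, P.ρ u ∈ isomGroup B) (hi : σ P.i = -P.i) (hW : 6 ≤ finrank (ZMod 2) W)
    {u y : W} (hy : P.β u y = 1) (hS : SUV (restr B (P.Ve u 0)) ≤ P.resX X u 0) : SUV B ≤ X := by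
  have h1 := P.finrank_W1 hy
  have h4 : ∀ ε, 4 ≤ finrank K (P.Ve u ε) := fun ε =>
    (P.res hy ε).pow_le_finrank (m := 2) (by omega)
  have : Nontrivial (P.W1 u y) := Module.nontrivial_of_finrank_pos (R := ZMod 2) (by omega)
  obtain ⟨a, ha⟩ := exists_ne (0 : P.W1 u y)
  refine SUV_le_of_kerX h hρ hi hy (hH.2 y) h4 fun ε => ?_
  exact SUV_le_of_norm_of_mem (P := P.res hy ε) (h.restrict (nondegOn_Ve h hρ u ε))
    (res_ρ_mem_isomGroup hρ hy ε) hi (h4 ε)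
    (fun k hk d hd => conj_mem_kerX (SUV_le_resX hρ hH.1 hy hS ε hk) hd) ha
    (mem_kerX_of hH.1 hy a (mul_mem (hH.2 _) (inv_mem (hH.2 _))) ε)

end Pauli

end Cfsg.Lib.Class.C6
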