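import Cfsg.Agent.Class.C6.Pauli

/-!
# Eigenspaces of a Pauli system, the local hypothesis `Loc` and step (β)

If every element of `X` centralising some `ρ u` acts on the eigenspaces of `ρ u` as an element
normalising the restricted Pauli group, then these centralisers normalise `R`.
-/

namespace Cfsg.Lib.Class.C6

open Module

variable {K V W : Type*} [Field K] [AddCommGroup V] [Module K V] [AddCommGroup W]
  [Module (ZMod 2) W]

theorem commute_apply {g h : V ≃ₗ[K] V} (e : Commute g h) (v : V) : g (h v) = h (g v) :=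
  congrArg (fun k : V ≃ₗ[K] V => k v) e.eq

theorem apply_inv_apply (g : V ≃ₗ[K] V) (v : V) : g (g⁻¹ v) = v := g.apply_symm_apply v

theorem inv_apply_apply (g : V ≃ₗ[K] V) (v : V) : g⁻¹ (g v) = v := g.symm_apply_apply v

namespace Pauli

variable (P : Pauli K V W)

/-- the eigenspace of `ρ u` for the eigenvalue `(-1)^ε` -/
def Ve (u : W) (ε : ZMod 2) : Submodule K V where
  carrier := {v | P.ρ u v = (sg K ε : K) • v}
  add_mem' {a b} ha hb := by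
    simp only [Set.mem_ofPred_eq] at ha hb ⊢
    rw [map_add, ha, hb, smul_add]
  zero_mem' := by simp
  smul_mem' c v hv := by
    simp only [Set.mem_ofPred_eq] at hv ⊢
    rw [map_smul, hv, smul_comm]

theorem mem_Ve {u : W} {ε : ZMod 2} {v : V} : v ∈ P.Ve u ε ↔ P.ρ u v = (sg K ε : K) • v := Iff.rfl

theorem mem_Ve_zero {u : W} {v : V} : v ∈ P.Ve u 0 ↔ P.ρ u v = v := by simp [mem_Ve]

theorem mem_Ve_one {u : W} {v : V} : v ∈ P.Ve u 1 ↔ P.ρ u v = -v := by simp [mem_Ve]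

variable {P}

theorem ρ_mem_Ve {u : W} {ε : ZMod 2} {v : V} (hv : v ∈ P.Ve u ε) (w : W) :
    P.ρ w v ∈ P.Ve u (ε + P.β u w) := by
  rw [mem_Ve] at hv ⊢
  rw [P.ρ_ρ_comm, hv, map_smul, smul_smul, sg_add, Units.val_mul, mul_comm]

theorem ρ_mem_Ve' {u w : W} {ε : ZMod 2} {v : V} (hv : v ∈ P.Ve u ε) (h : P.β u w = 0) :
    P.ρ w v ∈ P.Ve u ε := by
  have := ρ_mem_Ve hv w
  rwa [h, add_zero] at this

theorem map_mem_Ve {u : W} {ε : ZMod 2} {v : V} {g : V ≃ₗ[K] V} (hg : Commute g (P.ρ u))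
    (hv : v ∈ P.Ve u ε) : g v ∈ P.Ve u ε := by
  rw [mem_Ve] at hv ⊢
  rw [← commute_apply hg, hv, map_smul]

theorem eq_zero_of_mem_Ve {u : W} {ε : ZMod 2} {v : V} (h0 : v ∈ P.Ve u ε)
    (h1 : v ∈ P.Ve u (ε + 1)) : v = 0 := by
  rw [mem_Ve] at h0 h1
  rw [h0, sg_add, sg_one, mul_neg_one, Units.val_neg, neg_smul] at h1
  have : ((2 : K) * sg K ε) • v = 0 := by
    rw [mul_smul, two_smul]; exact add_eq_zero_iff_eq_neg.2 h1
  exact (smul_eq_zero.1 this).resolve_left (mul_ne_zero P.two (sg K ε).ne_zero)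

variable (P)

theorem add_smul_ρ_mem_Ve (u : W) (ε : ZMod 2) (v : V) :
    v + (sg K ε : K) • P.ρ u v ∈ P.Ve u ε := by
  rw [mem_Ve, map_add, map_smul, ρ_ρ, smul_add, smul_smul, sg_val_mul_self, one_smul, add_comm]

theorem exists_add_Ve (u : W) (v : V) : ∃ a ∈ P.Ve u 0, ∃ b ∈ P.Ve u 1, v = a + b := by
  refine ⟨(2 : K)⁻¹ • _, Submodule.smul_mem _ _ (P.add_smul_ρ_mem_Ve u 0 v), (2 : K)⁻¹ • _,
    Submodule.smul_mem _ _ (P.add_smul_ρ_mem_Ve u 1 v), ?_⟩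
  have := P.two
  simp only [sg_zero, sg_one, Units.val_one, Units.val_neg]
  match_scalars <;> field_simp <;> ring

theorem ext_Ve (u : W) {g h : V ≃ₗ[K] V} (e : ∀ ε, ∀ v ∈ P.Ve u ε, g v = h v) : g = h := by
  ext v
  obtain ⟨a, ha, b, hb, rfl⟩ := P.exists_add_Ve u v
  rw [map_add, map_add, e 0 a ha, e 1 b hb]

theorem exists_ne_Ve_of {S : Submodule K V} {u y : W} (hu : ∀ v ∈ S, P.ρ u v ∈ S)
    (hy : ∀ v ∈ S, P.ρ y v ∈ S) (huy : P.β u y = 1) {v : V} (hv : v ∈ S) (h0 : v ≠ 0)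
    (ε : ZMod 2) : ∃ z ∈ S, z ∈ P.Ve u ε ∧ z ≠ 0 := by
  have key : ∃ δ, ∃ z ∈ S, z ∈ P.Ve u δ ∧ z ≠ 0 := by
    by_cases h : v + (sg K 0 : K) • P.ρ u v = 0
    · refine ⟨1, v, hv, ?_, h0⟩
      rw [mem_Ve_one]
      rw [sg_zero, Units.val_one, one_smul] at h
      exact eq_neg_of_add_eq_zero_right h
    · exact ⟨0, _, S.add_mem hv (S.smul_mem _ (hu v hv)), P.add_smul_ρ_mem_Ve u 0 v, h⟩
  obtain ⟨δ, z, hz, hz', hz0⟩ := key
  by_cases e : δ = ε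
  · exact ⟨z, hz, e ▸ hz', hz0⟩
  · refine ⟨P.ρ y z, hy z hz, ?_, (P.ρ y).map_ne_zero_iff.2 hz0⟩
    have := ρ_mem_Ve hz' y
    rw [huy] at this
    have e' : δ + 1 = ε := (by decide : ∀ a b : ZMod 2, a ≠ b → a + 1 = b) δ ε e
    rwa [e'] at this

theorem exists_ne_Ve {u : W} (hu : u ≠ 0) (ε : ZMod 2) : ∃ z ∈ P.Ve u ε, z ≠ 0 := by
  obtain ⟨y, hy⟩ := P.exists_β_eq_one hu
  have := P.nontriv
  obtain ⟨v, hv⟩ := exists_ne (0 : V)
  obtain ⟨z, -, h⟩ := P.exists_ne_Ve_of (S := ⊤) (fun _ _ => trivial) (fun _ _ => trivial) hy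
    trivial hv ε
  exact ⟨z, h⟩

theorem exists_ne_Ve₂ [Finite W] {u c : W} (hu : u ≠ 0) (hc : c ≠ 0) (huc : u ≠ c)
    (h : P.β u c = 0) (ε δ : ZMod 2) : ∃ z ∈ P.Ve u ε, z ∈ P.Ve c δ ∧ z ≠ 0 := by
  obtain ⟨y, hy, hy'⟩ := P.exists_β_two hc huc.symm
  obtain ⟨v, hv, h0⟩ := P.exists_ne_Ve hu ε
  exact P.exists_ne_Ve_of (fun v hv => ρ_mem_Ve' hv h)
    (fun v hv => ρ_mem_Ve' hv (by rw [P.β_comm, hy'])) (by rw [P.β_comm, hy]) hv h0 δ

theorem schur_of (f : V →ₗ[K] V) {u y : W} (hy : P.β u y = 1)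
    (h1 : ∀ w, P.β u w = 0 → ∀ v, f (P.ρ w v) = P.ρ w (f v))
    (h2 : ∀ v, f (P.ρ y v) = P.ρ y (f v)) : ∃ c : K, ∀ v, f v = c • v := by
  refine P.schur f fun w v => ?_
  rcases zmod2_cases (P.β u w) with h | h
  · exact h1 w h v
  · obtain ⟨c, hc⟩ := P.mul y (y + w)
    rw [self_add_add] at hc
    have e : ∀ v, P.ρ w v = ((c⁻¹ : Kˣ) : K) • P.ρ y (P.ρ (y + w) v) := fun v => by
      rw [← LinearEquiv.mul_apply, hc, LinearEquiv.mul_apply, sc_apply, smul_smul, Units.inv_mul,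
        one_smul]
    rw [e, e, map_smul, h2, h1 _ (by rw [P.β_add_right, hy, h]; rfl)]

/-- an element commuting with all `ρ w`, `w ⊥ u`, is scalar on the eigenspaces of `ρ u` -/
theorem scalar_on_Ve {k : V ≃ₗ[K] V} {u : W} (hu : u ≠ 0)
    (h : ∀ w, P.β u w = 0 → Commute k (P.ρ w)) (ε : ZMod 2) :
    ∃ c : K, ∀ v ∈ P.Ve u ε, k v = c • v := by
  obtain ⟨y, hy⟩ := P.exists_β_eq_one hu
  let p : V →ₗ[K] V := (k : V →ₗ[K] V) ∘ₗ (LinearMap.id + (sg K ε : K) • (P.ρ u : V →ₗ[K] V))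
  have hp : ∀ v, p v = k (v + (sg K ε : K) • P.ρ u v) := fun v => rfl
  have hpw : ∀ w, P.β u w = 0 → ∀ v, p (P.ρ w v) = P.ρ w (p v) := fun w hw v => by
    rw [hp, hp, ← commute_apply (h w hw), map_add (P.ρ w), map_smul,
      commute_apply (P.commute_ρ hw)]
  obtain ⟨c, hc⟩ := P.schur_of (p + (P.ρ y : V →ₗ[K] V) ∘ₗ p ∘ₗ (P.ρ y : V →ₗ[K] V)) hy
    (fun w hw v => by
      simp only [LinearMap.add_apply, LinearMap.comp_apply, LinearEquiv.coe_coe, map_add]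
      rw [hpw w hw, P.ρ_ρ_comm y w v, map_smul, hpw w hw, map_smul, P.ρ_ρ_comm y w, smul_smul,
        sg_val_mul_self, one_smul])
    (fun v => by
      simp only [LinearMap.add_apply, LinearMap.comp_apply, LinearEquiv.coe_coe, map_add, ρ_ρ]
      rw [add_comm])
  refine ⟨(2 : K)⁻¹ * c, fun v hv => ?_⟩
  have e := hc v
  simp only [LinearMap.add_apply, LinearMap.comp_apply, LinearEquiv.coe_coe] at e
  have h1 := ρ_mem_Ve hv y
  rw [hy, mem_Ve] at h1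
  rw [mem_Ve] at hv
  rw [hp, hp, hv, h1, smul_smul, smul_smul, sg_val_mul_self, sg_add, sg_one, mul_neg_one,
    Units.val_neg, mul_neg, sg_val_mul_self, one_smul, neg_smul, one_smul, add_neg_cancel, map_zero,
    map_zero, add_zero, map_add, ← two_smul K] at e
  rw [mul_smul, ← e, smul_smul, inv_mul_cancel₀ P.two, one_smul]

theorem mem_R_of_scalar {k : V ≃ₗ[K] V} {u : W} (hu : u ≠ 0) {a b : K}
    (ha : ∀ v ∈ P.Ve u 0, k v = a • v) (hb : ∀ v ∈ P.Ve u 1, k v = b • v) (h : a * a = b * b) :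
    k ∈ P.R := by
  obtain ⟨z, hz, hz0⟩ := P.exists_ne_Ve hu 0
  have ha0 : a ≠ 0 := by
    rintro rfl
    exact hz0 (k.map_eq_zero_iff.1 (by rw [ha z hz, zero_smul]))
  rcases mul_self_eq_mul_self_iff.1 h with rfl | rfl
  · refine ⟨Units.mk0 a ha0, 0, P.ext_Ve u fun ε v hv => ?_⟩
    rw [P.zero, mul_one, sc_apply]
    rcases zmod2_cases ε with rfl | rfl
    · exact ha v hv
    · exact hb v hv
  · refine ⟨Units.mk0 _ ha0, u, P.ext_Ve u fun ε v hv => ?_⟩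
    rw [LinearEquiv.mul_apply, sc_apply]
    rcases zmod2_cases ε with rfl | rfl
    · rw [P.mem_Ve_zero.1 hv]; exact ha v hv
    · rw [P.mem_Ve_one.1 hv, hb v hv]; simp

theorem exists_perp_notMem [Finite W] {k : ℕ} (a : Fin k → W) (T : Submodule (ZMod 2) W)
    (h : k + finrank (ZMod 2) T < finrank (ZMod 2) W) : ∃ c, (∀ j, P.β (a j) c = 0) ∧ c ∉ T := by
  let f : W →ₗ[ZMod 2] (Fin k → ZMod 2) := LinearMap.pi fun j => P.β (a j)
  have h1 := f.finrank_range_add_finrank_ker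
  have h2 : finrank (ZMod 2) (LinearMap.range f) ≤ k := by
    simpa using Submodule.finrank_le (LinearMap.range f)
  have h3 : ¬ LinearMap.ker f ≤ T := fun hle => by
    have := Submodule.finrank_mono hle
    omega
  obtain ⟨c, hc, hcT⟩ := SetLike.not_le_iff_exists.1 h3
  exact ⟨c, fun j => congrFun (LinearMap.mem_ker.1 hc) j, hcT⟩

theorem _root_.Cfsg.Lib.Class.C6.finrank_span_pair_le (u d : W) :
    finrank (ZMod 2) (Submodule.span (ZMod 2) {u, d}) ≤ 2 := by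
  have := finrank_range_le_card (R := ZMod 2) ![u, d]
  rw [Set.finrank, Matrix.range_cons, Matrix.range_cons, Matrix.range_empty, Set.union_empty,
    Set.singleton_union] at this
  simpa using this

theorem exists_perp_ne [Finite W] {k : ℕ} (a : Fin k → W) (u d : W)
    (h : k + 2 < finrank (ZMod 2) W) :
    ∃ c, (∀ j, P.β (a j) c = 0) ∧ c ≠ 0 ∧ c ≠ u ∧ c ≠ d ∧ c ≠ u + d := by
  obtain ⟨c, hc, hT⟩ := P.exists_perp_notMem a (Submodule.span (ZMod 2) {u, d})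
    (by have := finrank_span_pair_le u d; omega)
  have hu : u ∈ Submodule.span (ZMod 2) {u, d} := Submodule.subset_span (by simp)
  have hd : d ∈ Submodule.span (ZMod 2) {u, d} := Submodule.subset_span (by simp)
  refine ⟨c, hc, ?_, ?_, ?_, ?_⟩ <;> rintro rfl
  exacts [hT (zero_mem _), hT hu, hT hd, hT (add_mem hu hd)]

/-- the local hypothesis: on the fixed space of `ρ u` the centraliser of `ρ u` in `X`
normalises the restricted Pauli group -/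
def Loc (X : Subgroup (V ≃ₗ[K] V)) : Prop :=
  ∀ u ≠ 0, ∀ g ∈ X, Commute g (P.ρ u) → ∀ w, P.β u w = 0 →
    ∃ r ∈ P.R, ∀ v ∈ P.Ve u 0, g (P.ρ w v) = r (g v)

variable {P} {X : Subgroup (V ≃ₗ[K] V)}

theorem Loc.all (h : P.Loc X) (hR : P.R ≤ X) {u : W} (hu : u ≠ 0) {g : V ≃ₗ[K] V} (hg : g ∈ X)
    (hc : Commute g (P.ρ u)) {w : W} (hw : P.β u w = 0) (ε : ZMod 2) :
    ∃ r ∈ P.R, ∀ v ∈ P.Ve u ε, g (P.ρ w v) = r (g v) := by
  rcases zmod2_cases ε with rfl | rfl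
  · exact h u hu g hg hc w hw
  · obtain ⟨y, hy⟩ := P.exists_β_eq_one hu
    have hc' : Commute (P.ρ y * g * P.ρ y) (P.ρ u) := by
      ext v
      simp only [LinearEquiv.mul_apply]
      rw [P.ρ_ρ_comm y u, map_smul, commute_apply hc, map_smul, P.ρ_ρ_comm y u, smul_smul,
        sg_val_mul_self, one_smul]
    obtain ⟨r, hr, e⟩ := h u hu _ (mul_mem (mul_mem (hR (P.ρ_mem_R y)) hg) (hR (P.ρ_mem_R y))) hc'
      w hw
    refine ⟨sc V (sg K (P.β y w)) * (P.ρ y * r * P.ρ y), mul_mem (P.sc_mem_R _)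
      (mul_mem (mul_mem (P.ρ_mem_R y) hr) (P.ρ_mem_R y)), fun v hv => ?_⟩
    have hv' : P.ρ y v ∈ P.Ve u 0 := by
      have := ρ_mem_Ve hv y
      rwa [hy] at this
    have := e _ hv'
    simp only [LinearEquiv.mul_apply, ρ_ρ] at this
    rw [P.ρ_ρ_comm y w, ρ_ρ, map_smul, map_smul] at this
    simp only [LinearEquiv.mul_apply, sc_apply]
    rw [← this, map_smul, ρ_ρ, smul_smul, sg_val_mul_self, one_smul]

theorem Loc.exists_sg (h : P.Loc X) (hR : P.R ≤ X) {u : W} (hu : u ≠ 0) {g : V ≃ₗ[K] V}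
    (hg : g ∈ X) (hc : Commute g (P.ρ u)) {w : W} (hw : P.β u w = 0) (ε : ZMod 2) :
    ∃ a t, P.β u t = 0 ∧ ∀ v ∈ P.Ve u ε, g (P.ρ w v) = (sg K a : K) • P.ρ t (g v) := by
  obtain ⟨_, ⟨c, t, rfl⟩, e⟩ := h.all hR hu hg hc hw ε
  simp only [LinearEquiv.mul_apply, sc_apply] at e
  obtain ⟨z, hz, hz0⟩ := P.exists_ne_Ve hu ε
  have ht : P.β u t = 0 := by
    refine zmod2_eq_zero fun ht => hz0 ?_
    have h1 : g (P.ρ w z) ∈ P.Ve u ε := map_mem_Ve hc (ρ_mem_Ve' hz hw)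
    have h2 : g (P.ρ w z) ∈ P.Ve u (ε + 1) := by
      rw [e z hz, ← ht]
      exact Submodule.smul_mem _ _ (ρ_mem_Ve (map_mem_Ve hc hz) t)
    exact (P.ρ w).map_eq_zero_iff.1 (g.map_eq_zero_iff.1 (eq_zero_of_mem_Ve h1 h2))
  have hcc : c * c = 1 := by
    have := e _ (ρ_mem_Ve' hz hw)
    rw [ρ_ρ, e z hz, map_smul, ρ_ρ, smul_smul] at this
    refine Units.ext (smul_left_injective K (g.map_ne_zero_iff.2 hz0) ?_)
    simpa using this.symm
  obtain ⟨a, rfl⟩ := exists_sg_of_mul_self hcc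
  exact ⟨a, t, ht, e⟩

/-- an element which is scalar on one eigenspace of `ρ u` and commutes with `ρ c` -/
theorem Loc.rule [Finite W] (h : P.Loc X) {u c : W} (hu : u ≠ 0) (hc : c ≠ 0) (huc : u ≠ c)
    {k : V ≃ₗ[K] V} (hk : k ∈ X) (hkc : Commute k (P.ρ c)) {l : K}
    (hl : ∀ v ∈ P.Ve u 0, k v = l • v) {z : W} (hzu : P.β u z = 0) (hzc : P.β c z = 0) :
    ∃ a, ∀ x ∈ P.Ve u 1, x ∈ P.Ve c 0 → k (P.ρ z x) = (sg K a : K) • P.ρ z (k x) := by
  obtain ⟨y, hy, hy'⟩ := P.exists_β_two hu huc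
  obtain ⟨_, ⟨d, t, rfl⟩, e⟩ := h c hc k hk hkc y (by rw [P.β_comm, hy'])
  simp only [LinearEquiv.mul_apply, sc_apply] at e
  have key : ∀ x ∈ P.Ve u 1, x ∈ P.Ve c 0 →
      k x = (((d⁻¹ : Kˣ) : K) * l) • P.ρ t (P.ρ y x) := fun x hx hx' => by
    have h1 : P.ρ y x ∈ P.Ve u 0 := by
      have := ρ_mem_Ve hx y
      rwa [P.β_comm, hy] at this
    have h2 := e x hx'
    rw [hl _ h1] at h2
    rw [mul_smul, ← map_smul, h2, map_smul, ρ_ρ, smul_smul, Units.inv_mul, one_smul]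
  refine ⟨P.β t z + P.β y z, fun x hx hx' => ?_⟩
  rw [key _ (ρ_mem_Ve' hx hzu) (ρ_mem_Ve' hx' hzc), key x hx hx', P.ρ_ρ_comm y z, map_smul,
    P.ρ_ρ_comm t z, map_smul, sg_add, Units.val_mul]
  simp only [smul_smul]
  ring_nf

theorem nrm_inv [Finite W] {u : W} {g : V ≃ₗ[K] V} (hc : Commute g (P.ρ u))
    (hn : ∀ w, P.β u w = 0 → g * P.ρ w * g⁻¹ ∈ P.R) (w : W) (hw : P.β u w = 0) :
    g⁻¹ * P.ρ w * g ∈ P.R := by
  have hu : g * P.ρ u * g⁻¹ = sc V 1 * P.ρ u := by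
    rw [hc.eq, mul_inv_cancel_right, map_one, one_mul]
  have : ∀ w : {w // P.β u w = 0}, ∃ (c : Kˣ) (t : {w // P.β u w = 0}),
      g * P.ρ w * g⁻¹ = sc V c * P.ρ t := fun w => by
    obtain ⟨c, t, ht⟩ := hn w w.2
    exact ⟨c, ⟨t, (P.β_of_conj hu ht).trans w.2⟩, ht⟩
  choose c f hf using this
  have hinj : Function.Injective f := fun a b e =>
    Subtype.ext (P.eq_of_conj (hf a) (by rw [e]; exact hf b))
  obtain ⟨a, ha⟩ := Finite.surjective_of_injective hinj ⟨w, hw⟩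
  have e := hf a
  rw [ha] at e
  refine ⟨(c a)⁻¹, a, ?_⟩
  have e' : P.ρ w = sc V (c a)⁻¹ * (g * P.ρ a * g⁻¹) := by
    rw [e, map_inv, inv_mul_cancel_left]
  rw [e', ← conj_sc_mul]
  group

theorem Loc.mem_N_of_two [Finite W] (h : P.Loc X) (hR : P.R ≤ X) {u c : W} (hu : u ≠ 0)
    (hc : c ≠ 0) (huc : u ≠ c) (hβ : P.β u c = 0) {g : V ≃ₗ[K] V} (hg : g ∈ X)
    (hgu : Commute g (P.ρ u)) (hgc : Commute g (P.ρ c))
    (hn : ∀ w, P.β u w = 0 → g * P.ρ w * g⁻¹ ∈ P.R) : g ∈ P.N := by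
  obtain ⟨y, hy, hy'⟩ := P.exists_β_two hu huc
  obtain ⟨y2, hy2⟩ := P.exists_commute_sub (LinearMap.ker (P.β u)) (g := g * P.ρ y * g⁻¹)
    fun w hw => by
      obtain ⟨d, t, ht⟩ := nrm_inv hgu hn w hw
      refine ⟨sg K (P.β y t), ?_⟩
      have e : P.ρ w = g * (sc V d * P.ρ t) * g⁻¹ := by rw [← ht]; group
      calc g * P.ρ y * g⁻¹ * P.ρ w * (g * P.ρ y * g⁻¹)⁻¹
          = g * (P.ρ y * (g⁻¹ * P.ρ w * g) * (P.ρ y)⁻¹) * g⁻¹ := by group
        _ = _ := by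
          rw [ht, conj_sc_mul, P.conj_ρ, ← mul_assoc (sc V d), sc_comm _ (sc V d), mul_assoc (sc V _),
            conj_sc_mul, ← e]
  have hyc : Commute (g * P.ρ y * g⁻¹) (P.ρ c) :=
    (hgc.mul_left (P.commute_ρ hy')).mul_left hgc.inv_left
  have hk : ∀ w, P.β u w = 0 → Commute (P.ρ y2 * (g * P.ρ y * g⁻¹)) (P.ρ w) := hy2
  have h2c : P.β y2 c = 0 := by
    refine P.β_eq_zero_of_commute ?_
    have := (hk c hβ).mul_left hyc.inv_left
    rwa [mul_inv_cancel_right] at this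
  obtain ⟨a, t, ht, e⟩ := h.exists_sg hR hc hg hgc (w := y) (by rw [P.β_comm, hy']) 0
  have e1 : ∀ v ∈ P.Ve c 0, (P.ρ y2 * (g * P.ρ y * g⁻¹)) v = (sg K a : K) • P.ρ y2 (P.ρ t v) :=
    fun v hv => by
      simp only [LinearEquiv.mul_apply]
      rw [e _ (map_mem_Ve hgc.inv_left hv), apply_inv_apply, map_smul]
  have key : ∀ ε, ∀ l : K, (∀ v ∈ P.Ve u ε, (P.ρ y2 * (g * P.ρ y * g⁻¹)) v = l • v) →
      l * l = sg K (P.β t y2) := fun ε l hl => by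
    obtain ⟨z, hz, hz', hz0⟩ := P.exists_ne_Ve₂ hu hc huc hβ ε 0
    have h1 := e1 _ (map_mem_Ve (hk c hβ) hz')
    rw [hl _ (map_mem_Ve (hk u (P.alt u)) hz), hl z hz, smul_smul, ← hl z hz, e1 z hz', map_smul,
      map_smul, smul_smul, sg_val_mul_self, one_smul, P.ρ_ρ_comm t y2, map_smul, ρ_ρ, ρ_ρ] at h1
    exact smul_left_injective K hz0 h1
  obtain ⟨l0, hl0⟩ := P.scalar_on_Ve hu hk 0
  obtain ⟨l1, hl1⟩ := P.scalar_on_Ve hu hk 1
  have hkR := P.mem_R_of_scalar hu hl0 hl1 ((key 0 l0 hl0).trans (key 1 l1 hl1).symm)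
  have hyR : g * P.ρ y * g⁻¹ ∈ P.R := (P.R.mul_mem_cancel_left (P.ρ_mem_R y2)).1 hkR
  refine P.mem_N_of_forall fun w => ?_
  rcases zmod2_cases (P.β u w) with hw | hw
  · exact hn w hw
  · obtain ⟨d, hd⟩ := P.mul y (y + w)
    rw [self_add_add] at hd
    have : P.ρ w = sc V d⁻¹ * (P.ρ y * P.ρ (y + w)) := by rw [hd, map_inv, inv_mul_cancel_left]
    rw [this, conj_sc_mul, show g * (P.ρ y * P.ρ (y + w)) * g⁻¹ =
      g * P.ρ y * g⁻¹ * (g * P.ρ (y + w) * g⁻¹) by group]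
    exact mul_mem (P.sc_mem_R _) (mul_mem hyR (hn _ (by rw [P.β_add_right, hw, P.β_comm, hy]; rfl)))

theorem Loc.mem_N_of_fix [Finite W] (h : P.Loc X) (hR : P.R ≤ X) {u c : W} (hu : u ≠ 0)
    (hc : c ≠ 0) (huc : u ≠ c) (hβ : P.β u c = 0) {g : V ≃ₗ[K] V} (hg : g ∈ X)
    (hgu : Commute g (P.ρ u)) {d : Kˣ} (hgc : g * P.ρ c * g⁻¹ = sc V d * P.ρ c)
    (hn : ∀ w, P.β u w = 0 → g * P.ρ w * g⁻¹ ∈ P.R) : g ∈ P.N := by
  obtain ⟨a, c', ha⟩ := P.exists_sg_of_conj_mem (hn c hβ)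
  obtain ⟨rfl, -⟩ := P.eq_of_sc_ρ (hgc.symm.trans ha)
  rcases zmod2_cases a with rfl | rfl
  · refine h.mem_N_of_two hR hu hc huc hβ hg hgu ?_ hn
    rw [sg_zero, map_one, one_mul] at ha
    exact mul_inv_eq_iff_eq_mul.1 ha
  · obtain ⟨y, hy, hy'⟩ := P.exists_β_two hc huc.symm
    refine (P.N.mul_mem_cancel_left (P.R_le_N (P.ρ_mem_R y))).1 ?_
    refine h.mem_N_of_two hR hu hc huc hβ (mul_mem (hR (P.ρ_mem_R y)) hg)
      ((P.commute_ρ hy').mul_left hgu) ?_ fun w hw => ?_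
    · refine mul_inv_eq_iff_eq_mul.1 ?_
      rw [show P.ρ y * g * P.ρ c * (P.ρ y * g)⁻¹ = P.ρ y * (g * P.ρ c * g⁻¹) * (P.ρ y)⁻¹ by group,
        ha, conj_sc_mul, P.conj_ρ, hy, ← mul_assoc, ← map_mul, sg_mul_self, map_one, one_mul]
    · rw [show P.ρ y * g * P.ρ w * (P.ρ y * g)⁻¹ = P.ρ y * (g * P.ρ w * g⁻¹) * (P.ρ y)⁻¹ by group]
      exact P.conj_mem_R (P.R_le_N (P.ρ_mem_R y)) (hn w hw)

/-- if the vectors induced on the two eigenspaces agree modulo `u`, then `g ρ w g⁻¹ ∈ R` -/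
theorem conj_mem_R_of_Ve {u w t0 t1 : W} (hu : u ≠ 0) {g : V ≃ₗ[K] V} (hc : Commute g (P.ρ u))
    {a0 a1 : ZMod 2} (ht0 : P.β u t0 = 0)
    (e0 : ∀ v ∈ P.Ve u 0, g (P.ρ w v) = (sg K a0 : K) • P.ρ t0 (g v))
    (e1 : ∀ v ∈ P.Ve u 1, g (P.ρ w v) = (sg K a1 : K) • P.ρ t1 (g v))
    (ht : t0 + t1 = 0 ∨ t0 + t1 = u) : g * P.ρ w * g⁻¹ ∈ P.R := by
  refine (P.R.mul_mem_cancel_left (P.ρ_mem_R t0)).1 ?_
  have hβ : P.β t0 t1 = 0 := by
    have : t1 = t0 + (t0 + t1) := (self_add_add _ _).symm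
    rw [this, P.β_add_right, P.alt, zero_add]
    rcases ht with h | h <;> rw [h]
    · exact P.β_zero_right _
    · rw [P.β_comm, ht0]
  obtain ⟨b, hb⟩ := P.mul_of_β_zero hβ
  obtain ⟨ε, hε⟩ : ∃ ε, ∀ v ∈ P.Ve u 1, P.ρ (t0 + t1) v = (sg K ε : K) • v := by
    rcases ht with h | h <;> rw [h]
    · exact ⟨0, fun v _ => by simp [P.zero]⟩
    · exact ⟨1, fun v hv => hv⟩
  refine P.mem_R_of_scalar hu (a := sg K a0) (b := sg K (a1 + b + ε)) (fun v hv => ?_)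
    (fun v hv => ?_) (by rw [sg_val_mul_self, sg_val_mul_self])
  · simp only [LinearEquiv.mul_apply]
    rw [e0 _ (map_mem_Ve hc.inv_left hv), apply_inv_apply, map_smul, ρ_ρ]
  · simp only [LinearEquiv.mul_apply]
    rw [e1 _ (map_mem_Ve hc.inv_left hv), apply_inv_apply, map_smul, ← LinearEquiv.mul_apply, hb,
      LinearEquiv.mul_apply, sc_apply, hε v hv, smul_smul, smul_smul, sg_add, sg_add, Units.val_mul,
      Units.val_mul]

theorem eq_zero_of_sg (P : Pauli K V W) {p q : K} (hp : p ≠ 0) (hq : q ≠ 0) {x : V} {r : V ≃ₗ[K] V} {a : ZMod 2}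
    (h : p • x - q • r x = (sg K a : K) • (p • x + q • r x)) : x = 0 := by
  rcases zmod2_cases a with rfl | rfl
  · rw [sg_zero, Units.val_one, one_smul] at h
    have : (2 * q) • r x = 0 := by
      linear_combination (norm := module) -h
    exact r.map_eq_zero_iff.1 ((smul_eq_zero.1 this).resolve_left (mul_ne_zero P.two hq))
  · rw [sg_one, Units.val_neg, Units.val_one, neg_smul, one_smul] at h
    have : (2 * p) • x = 0 := by
      linear_combination (norm := module) h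
    exact (smul_eq_zero.1 this).resolve_left (mul_ne_zero P.two hp)

/-- on an eigenspace of `ρ u`, the conjugate of `s w` -/
theorem conj_s_apply {u w t : W} {ε a : ZMod 2} {g : V ≃ₗ[K] V} (hc : Commute g (P.ρ u))
    (e : ∀ v ∈ P.Ve u ε, g (P.ρ w v) = (sg K a : K) • P.ρ t (g v)) {v : V} (hv : v ∈ P.Ve u ε) :
    (g * P.s w * g⁻¹) v = P.α • v + (P.α' * sg K a) • P.ρ t v := by
  simp only [LinearEquiv.mul_apply, s_apply, map_add, map_smul]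
  rw [e _ (map_mem_Ve hc.inv_left hv), apply_inv_apply, smul_smul]

/-- a power `A` of `s t` which cancels `α + α' (± ρ t)` -/
theorem exists_cancel (P : Pauli K V W) (t : W) (a : ZMod 2) :
    ∃ (A : V ≃ₗ[K] V) (p q l : K), (A = P.s t ∨ A = (P.s t)⁻¹) ∧ p ≠ 0 ∧ q ≠ 0 ∧
      (∀ v, A v = p • v + q • P.ρ t v) ∧ ∀ v, A (P.α • v + (P.α' * sg K a) • P.ρ t v) = l • v := by
  rcases zmod2_cases a with rfl | rfl
  · refine ⟨_, _, _, 1, Or.inr rfl, P.α'_ne_zero, P.α_ne_zero, P.s_inv_apply t, fun v => ?_⟩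
    rw [sg_zero, Units.val_one, mul_one, ← s_apply, inv_apply_apply, one_smul]
  · refine ⟨_, _, _, P.i, Or.inl rfl, P.α_ne_zero, P.α'_ne_zero, P.s_apply t, fun v => ?_⟩
    simp only [s_apply, map_add, map_smul, ρ_ρ, sg_one, Units.val_neg, Units.val_one]
    match_scalars
    · linear_combination (P.α + P.α') * P.α_sub + P.i * P.α_add
    · ring

theorem Loc.nrm_of_H1 [Finite W] (h : P.Loc X) (hH : P.H1 X) (hW : 6 ≤ finrank (ZMod 2) W)
    {u : W} (hu : u ≠ 0) {g : V ≃ₗ[K] V} (hg : g ∈ X) (hc : Commute g (P.ρ u)) (w : W)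
    (hw : P.β u w = 0) : g * P.ρ w * g⁻¹ ∈ P.R := by
  obtain ⟨a0, t0, ht0, e0⟩ := h.exists_sg hH.1 hu hg hc hw 0
  obtain ⟨a1, t1, ht1, e1⟩ := h.exists_sg hH.1 hu hg hc hw 1
  refine conj_mem_R_of_Ve hu hc ht0 e0 e1 ?_
  by_contra hne
  push Not at hne
  obtain ⟨c, hc', hc0, hcu, hcd, hcud⟩ := P.exists_perp_ne ![u, t0, t1] u (t0 + t1) (by omega)
  have huc : P.β u c = 0 := hc' 0
  have h0c : P.β t0 c = 0 := hc' 1
  have h1c : P.β t1 c = 0 := hc' 2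
  obtain ⟨A, p, q, l, hA, hp, hq, hA1, hA2⟩ := P.exists_cancel t0 a0
  have hAX : A ∈ X := by
    rcases hA with rfl | rfl
    exacts [hH.2 _, inv_mem (hH.2 _)]
  have hAz : ∀ z, P.β z t0 = 0 → Commute A (P.ρ z) := fun z hz => by
    rcases hA with rfl | rfl
    exacts [(P.commute_ρ_s hz).symm, (P.commute_ρ_s hz).symm.inv_left]
  have hhc : Commute (g * P.s w * g⁻¹) (P.ρ c) := by
    refine P.ext_Ve u fun ε v hv => ?_
    rw [LinearEquiv.mul_apply _ (P.ρ c), LinearEquiv.mul_apply (P.ρ c)]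
    rcases zmod2_cases ε with rfl | rfl
    · rw [conj_s_apply hc e0 hv, conj_s_apply hc e0 (ρ_mem_Ve' hv huc), map_add, map_smul,
        map_smul, commute_apply (P.commute_ρ h0c)]
    · rw [conj_s_apply hc e1 hv, conj_s_apply hc e1 (ρ_mem_Ve' hv huc), map_add, map_smul,
        map_smul, commute_apply (P.commute_ρ h1c)]
  obtain ⟨z, hz, hzu, hzc⟩ := P.exists_β_three (a := t0 + t1) (u := u) (c := c) hne.1 hne.2
    hcd.symm (fun e => hcud (by rw [e, self_add_add]))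
  rw [P.β_comm] at hzu hzc
  obtain ⟨a, ha⟩ := h.rule hu hc0 hcu.symm (k := A * (g * P.s w * g⁻¹))
    (mul_mem hAX (mul_mem (mul_mem hg (hH.2 w)) (inv_mem hg)))
    ((hAz c (by rw [P.β_comm, h0c])).mul_left hhc) (l := l)
    (fun v hv => by rw [LinearEquiv.mul_apply, conj_s_apply hc e0 hv, hA2]) hzu hzc
  obtain ⟨x, hx, hx', hx0⟩ := P.exists_ne_Ve₂ hu hc0 hcu.symm huc 1 0
  have e := ha x hx hx'
  rw [LinearEquiv.mul_apply A, LinearEquiv.mul_apply A, conj_s_apply hc e1 (ρ_mem_Ve' hx hzu),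
    P.ρ_ρ_comm t1 z] at e
  rw [P.β_add_right] at hz
  rcases zmod2_cases (P.β z t0) with hz0 | hz0
  · rw [hz0, zero_add] at hz
    rw [P.β_comm t1, hz, conj_s_apply hc e1 hx, ← commute_apply (hAz z hz0), ← map_smul A,
      ← map_smul (P.ρ z) (sg K a : K), sg_one, Units.val_neg, Units.val_one, neg_smul, one_smul,
      smul_neg, ← sub_eq_add_neg, ← map_smul, ← map_smul, ← map_sub] at e
    exact hx0 (P.eq_zero_of_sg P.α_ne_zero (mul_ne_zero P.α'_ne_zero (sg K a1).ne_zero)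
      ((P.ρ z).injective (A.injective e)))
  · have hz1 : P.β z t1 = 0 := by
      rw [hz0] at hz; revert hz; generalize P.β z t1 = b; revert b; decide
    rw [P.β_comm t1, hz1, sg_zero, Units.val_one, one_smul, ← map_smul, ← map_smul, ← map_add,
      ← conj_s_apply hc e1 hx, hA1, hA1, P.ρ_ρ_comm t0 z, P.β_comm t0, hz0, sg_one, Units.val_neg,
      Units.val_one, neg_smul, one_smul, smul_neg, ← sub_eq_add_neg, ← map_smul (P.ρ z),
      ← map_smul (P.ρ z), ← map_sub, ← map_smul (P.ρ z)] at e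
    exact hx0 ((g * P.s w * g⁻¹).map_eq_zero_iff.1 (P.eq_zero_of_sg hp hq ((P.ρ z).injective e)))

theorem H1.exists_move [Finite W] (hH : P.H1 X) {u c c' : W} (hc : P.β u c = 0)
    (hc' : P.β u c' = 0) (h0 : c ≠ 0) (h1 : c ≠ u) (h0' : c' ≠ 0) (h1' : c' ≠ u) :
    ∃ e : P.N, e.1 ∈ X ∧ Commute e.1 (P.ρ u) ∧ P.act e c' = c := by
  have one : ∀ {c c' d : W}, P.β c c' = 1 → d = c + c' → P.β u d = 0 →
      ∃ e : P.N, e.1 ∈ X ∧ Commute e.1 (P.ρ u) ∧ P.act e c' = c := fun {c c' d} e hd hu =>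
    ⟨⟨P.s d, P.s_mem_N d⟩, hH.2 d, (P.commute_ρ_s hu).symm, by
      rw [P.act_s, hd, P.β_add_right, P.alt, add_zero, P.β_comm, e, one_smul, add_comm c c',
        self_add_add]⟩
  obtain ⟨d, hdu, hdc, hdc'⟩ : ∃ d, P.β d u = 0 ∧ P.β d c = 1 ∧ P.β d c' = 1 := by
    obtain ⟨y, hy, hyu⟩ := P.exists_β_two h0 h1
    obtain ⟨y', hy', hyu'⟩ := P.exists_β_two h0' h1'
    rcases zmod2_cases (P.β y c') with e | e
    · rcases zmod2_cases (P.β y' c) with e' | e'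
      · exact ⟨y + y', by rw [P.β_add_left, hyu, hyu', add_zero],
          by rw [P.β_add_left, hy, e', add_zero], by rw [P.β_add_left, hy', e, zero_add]⟩
      · exact ⟨y', hyu', e', hy'⟩
    · exact ⟨y, hyu, hy, e⟩
  rw [P.β_comm] at hdu
  obtain ⟨e1, h1, h1u, h1a⟩ := one hdc' rfl (by rw [P.β_add_right, hdu, hc', add_zero])
  obtain ⟨e2, h2, h2u, h2a⟩ := one (c := c) (c' := d) (by rw [P.β_comm, hdc]) rfl
    (by rw [P.β_add_right, hdu, hc, add_zero])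
  exact ⟨e2 * e1, mul_mem h2 h1, h2u.mul_left h1u, by
    rw [map_mul, LinearEquiv.mul_apply, h1a, h2a]⟩

/-- reduction of `g ∈ N` to moving one vector back -/
theorem Loc.mem_N_of_move [Finite W] (h : P.Loc X) (hR : P.R ≤ X) {u c c' : W} (hu : u ≠ 0)
    (hc : c ≠ 0) (huc : u ≠ c) (hβ : P.β u c = 0) {g : V ≃ₗ[K] V} (hg : g ∈ X)
    (hgu : Commute g (P.ρ u)) {d : Kˣ} (hgc : g * P.ρ c * g⁻¹ = sc V d * P.ρ c')
    (hn : ∀ w, P.β u w = 0 → g * P.ρ w * g⁻¹ ∈ P.R) {e : P.N} (he : e.1 ∈ X)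
    (heu : Commute e.1 (P.ρ u)) (hec : P.act e c' = c) : g ∈ P.N := by
  refine (P.N.mul_mem_cancel_left e.2).1 ?_
  obtain ⟨a, ha⟩ := P.act_spec e c'
  rw [hec] at ha
  refine h.mem_N_of_fix hR hu hc huc hβ (mul_mem he hg) (heu.mul_left hgu) (d := d * sg K a) ?_
    fun w hw => ?_
  · rw [show e.1 * g * P.ρ c * (e.1 * g)⁻¹ = e.1 * (g * P.ρ c * g⁻¹) * e.1⁻¹ by group, hgc,
      conj_sc_mul, ha, map_mul, mul_assoc]
  · rw [show e.1 * g * P.ρ w * (e.1 * g)⁻¹ = e.1 * (g * P.ρ w * g⁻¹) * e.1⁻¹ by group]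
    exact P.conj_mem_R e.2 (hn w hw)

theorem conj_vec_ne {u c c' : W} {g : V ≃ₗ[K] V} (hgu : Commute g (P.ρ u)) {d : Kˣ}
    (hgc : g * P.ρ c * g⁻¹ = sc V d * P.ρ c') (hβ : P.β u c = 0) (hc : c ≠ 0) (huc : c ≠ u) :
    P.β u c' = 0 ∧ c' ≠ 0 ∧ c' ≠ u := by
  have hu : g * P.ρ u * g⁻¹ = sc V 1 * P.ρ u := by
    rw [hgu.eq, mul_inv_cancel_right, map_one, one_mul]
  have h0 : g * P.ρ 0 * g⁻¹ = sc V 1 * P.ρ 0 := by simp [P.zero]
  refine ⟨(P.β_of_conj hu hgc).trans hβ, ?_, ?_⟩ <;> rintro rfl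
  exacts [hc (P.eq_of_conj hgc h0), huc (P.eq_of_conj hgc hu)]

/-- step (β) under hypothesis (H1) -/
theorem Loc.centN_of_H1 [Finite W] (h : P.Loc X) (hH : P.H1 X) (hW : 6 ≤ finrank (ZMod 2) W) :
    P.CentN X := by
  intro u hu g hg hc
  have hn := h.nrm_of_H1 hH hW hu hg hc
  obtain ⟨c, hc', hc0, hcu, -⟩ := P.exists_perp_ne ![u] u u (by omega)
  have huc : P.β u c = 0 := hc' 0
  obtain ⟨d, c', hd⟩ := hn c huc
  obtain ⟨h1, h2, h3⟩ := conj_vec_ne hc hd huc hc0 hcu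
  obtain ⟨e, he, heu, hec⟩ := hH.exists_move huc h1 hc0 hcu h2 h3
  exact h.mem_N_of_move hH.1 hu hc0 hcu.symm huc hg hc hd hn he heu hec

end Pauli

end Cfsg.Lib.Class.C6
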