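import Cfsg.Agent.Class.C6.Step

/-!
# From absolutely irreducible 2-groups of class two to Pauli systems
-/

namespace Cfsg.Lib.Class.C6

open Module Form Cfsg.Geo

universe v

variable {K : Type*} {V : Type v} {W : Type*} [Field K] [AddCommGroup V] [Module K V]
  [AddCommGroup W] [Module (ZMod 2) W]

/-- An absolutely irreducible group whose squares and commutators are `± 1`. -/
structure PData (i : Kˣ) (R : Subgroup (V ≃ₗ[K] V)) : Prop where
  i_sq : i * i = -1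
  two : (2 : K) ≠ 0
  nontriv : Nontrivial V
  comm : ∀ x ∈ R, ∀ y ∈ R, ∃ a, x * y = sc V (sg K a) * (y * x)
  sq : ∀ x ∈ R, ∃ a, x * x = sc V (sg K a)
  span : ∀ f : V →ₗ[K] V,
    f ∈ Submodule.span K ((fun g : V ≃ₗ[K] V => (g : V →ₗ[K] V)) '' (R : Set (V ≃ₗ[K] V)))

/-- The Pauli system `P` comes from the group `R`. -/
structure Pauli.Over (P : Pauli K V W) (R : Subgroup (V ≃ₗ[K] V)) : Prop where
  lift : ∀ u, ∃ x ∈ R, P.ρ u = x ∨ P.ρ u = sc V P.i * x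
  le : R ≤ P.R
  sq : ∀ x ∈ R, ∃ a, x * x = sc V (sg K a)

namespace PData

variable {i : Kˣ} {R : Subgroup (V ≃ₗ[K] V)}

/-- the group modulo scalars, written additively -/
def Q (_ : PData i R) : Type v := Additive (R ⧸ Pauli.Zs R)

variable (h : PData i R)

instance : AddCommGroup h.Q :=
  { (inferInstance : AddGroup (Additive (R ⧸ Pauli.Zs R))) with
    add_comm := fun a b => by
      obtain ⟨x, rfl⟩ := QuotientGroup.mk_surjective (s := Pauli.Zs R) a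
      obtain ⟨y, rfl⟩ := QuotientGroup.mk_surjective (s := Pauli.Zs R) b
      obtain ⟨a, ha⟩ := h.comm x x.2 y y.2
      exact (Pauli.mk_eq_iff R (g := x * y) (h := y * x)).2 ⟨_, ha⟩ }

/-- the class of an element -/
def cls (x : R) : h.Q := Additive.ofMul (x : R ⧸ Pauli.Zs R)

theorem cls_mul (x y : R) : h.cls (x * y) = h.cls x + h.cls y := rfl

theorem cls_one : h.cls 1 = 0 := rfl

theorem cls_surjective : Function.Surjective h.cls := QuotientGroup.mk_surjective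

theorem cls_eq_iff {x y : R} : h.cls x = h.cls y ↔ ∃ c, x.1 = sc V c * y.1 := Pauli.mk_eq_iff R

instance : Module (ZMod 2) h.Q := AddCommGroup.zmodModule fun a => by
  obtain ⟨x, rfl⟩ := h.cls_surjective a
  obtain ⟨a, ha⟩ := h.sq x x.2
  rw [two_nsmul, ← cls_mul, ← cls_one, cls_eq_iff]
  exact ⟨_, ha.trans (mul_one _).symm⟩

instance [Finite R] : Finite h.Q := Finite.of_surjective _ h.cls_surjective

theorem exists_lift : ∃ ρ : h.Q → V ≃ₗ[K] V, ρ 0 = 1 ∧ ∀ u, ρ u * ρ u = 1 ∧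
    ∃ x : R, h.cls x = u ∧ (ρ u = x ∨ ρ u = sc V i * x) := by
  classical
  have : ∀ u : h.Q, ∃ g : V ≃ₗ[K] V, (u = 0 → g = 1) ∧ g * g = 1 ∧
      ∃ x : R, h.cls x = u ∧ (g = x ∨ g = sc V i * x) := by
    intro u
    by_cases hu : u = 0
    · exact ⟨1, fun _ => rfl, mul_one _, 1, hu.symm, Or.inl rfl⟩
    obtain ⟨x, rfl⟩ := h.cls_surjective u
    obtain ⟨a, ha⟩ := h.sq x x.2
    rcases zmod2_cases a with rfl | rfl
    · exact ⟨x, fun e => absurd e hu, by simpa using ha, x, rfl, Or.inl rfl⟩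
    · exact ⟨sc V i * x, fun e => absurd e hu,
        by rw [sc_mul_sc_mul, ha, h.i_sq, sg_one, ← map_mul]; simp, x, rfl, Or.inr rfl⟩
  choose ρ h1 h2 using this
  exact ⟨ρ, h1 0 rfl, h2⟩

include h in
theorem exists_pauli [Finite R] : ∃ (W : Type v) (_ : AddCommGroup W) (_ : Module (ZMod 2) W)
    (_ : Finite W) (P : Pauli K V W), P.i = i ∧ P.Over R := by
  obtain ⟨ρ, h0, hρ⟩ := h.exists_lift
  have := h.nontriv
  have h1 : ∀ u, ∃ (x : R) (c : Kˣ), h.cls x = u ∧ ρ u = sc V c * x := fun u => by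
    obtain ⟨-, x, hx, e | e⟩ := hρ u
    · exact ⟨x, 1, hx, by simpa using e⟩
    · exact ⟨x, i, hx, e⟩
  have h2 : ∀ x : R, ∃ c, x.1 = sc V c * ρ (h.cls x) := fun x => by
    obtain ⟨y, c, hy, e⟩ := h1 (h.cls x)
    obtain ⟨d, hd⟩ := h.cls_eq_iff.1 hy.symm
    exact ⟨d * c⁻¹, by rw [e, ← mul_assoc, ← map_mul, inv_mul_cancel_right, hd]⟩
  have hm : ∀ u v, ∃ c : Kˣ, ρ u * ρ v = sc V c * ρ (u + v) := fun u v => by
    obtain ⟨x, c, rfl, e⟩ := h1 u
    obtain ⟨y, d, rfl, e'⟩ := h1 v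
    obtain ⟨f, hf⟩ := h2 (x * y)
    exact ⟨c * d * f, by
      rw [e, e', sc_mul_sc_mul, ← cls_mul, map_mul _ (c * d), mul_assoc, ← hf]; rfl⟩
  have hc : ∀ u v, ∃ a, ρ u * ρ v = sc V (sg K a) * (ρ v * ρ u) := fun u v => by
    obtain ⟨x, c, rfl, e⟩ := h1 u
    obtain ⟨y, d, rfl, e'⟩ := h1 v
    obtain ⟨a, ha⟩ := h.comm x x.2 y y.2
    exact ⟨a, by rw [e, e', sc_mul_sc_mul, sc_mul_sc_mul, ha, ← mul_assoc, ← mul_assoc,
      ← mul_assoc, ← map_mul, ← map_mul, mul_comm (sg K a), mul_comm d, mul_assoc]⟩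
  choose b hb using hc
  have hu : ∀ {u v a}, ρ u * ρ v = sc V (sg K a) * (ρ v * ρ u) → b u v = a := fun {u v a} e =>
    sg_injective h.two (sc_injective (V := V) (mul_right_cancel ((hb u v).symm.trans e)))
  have hr : ∀ u v w, b u (v + w) = b u v + b u w := fun u v w => hu (by
    obtain ⟨c, hc⟩ := hm v w
    refine mul_left_cancel (a := sc V c) ?_
    rw [← mul_assoc, ← sc_comm, mul_assoc, ← hc, ← mul_assoc, hb, mul_assoc, mul_assoc, hb u w,
      ← mul_assoc (sc V c), ← sc_comm c, mul_assoc, ← mul_assoc (sc V c), ← hc, sg_add, map_mul,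
      ← mul_assoc (ρ v), sc_comm]
    simp only [mul_assoc])
  have hs : ∀ u v, b u v = b v u := fun u v => hu (by
    rw [hb v u, ← mul_assoc, ← map_mul, sg_mul_self, map_one, one_mul])
  have hspan : ∀ f : V →ₗ[K] V, f ∈ Submodule.span K (Set.range fun u => (ρ u : V →ₗ[K] V)) :=
    fun f => Submodule.span_le.2 (by
      rintro _ ⟨x, hx, rfl⟩
      obtain ⟨c, hc⟩ := h2 ⟨x, hx⟩
      have e : (x : V →ₗ[K] V) = (c : K) • (ρ (h.cls ⟨x, hx⟩) : V →ₗ[K] V) :=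
        LinearMap.ext fun v => congrArg (fun g : V ≃ₗ[K] V => g v) hc
      change (x : V →ₗ[K] V) ∈ _
      rw [e]
      exact Submodule.smul_mem _ _ (Submodule.subset_span ⟨_, rfl⟩)) (h.span f)
  let P : Pauli K V h.Q :=
    { β := egLin (fun u => egLin (b u) (hr u)) fun u v => LinearMap.ext fun w => by
        change b (u + v) w = b u w + b v w
        rw [hs, hr, hs w, hs w]
      alt := fun u => hu (a := 0) (by simp)
      nondeg := fun u hu' => by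
        have : (ρ u : V →ₗ[K] V) ∈ Set.center (End K V) := by
          rw [Semigroup.mem_center_iff]
          intro g
          induction hspan g using Submodule.span_induction with
          | mem x hx =>
            obtain ⟨v, rfl⟩ := hx
            ext x
            have := hb u v
            rw [show b u v = 0 from hu' v, sg_zero, map_one, one_mul] at this
            exact (congrArg (fun g : V ≃ₗ[K] V => g x) this).symm
          | zero => simp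
          | add x y _ _ hx hy => rw [add_mul, mul_add, hx, hy]
          | smul a x _ hx => rw [smul_mul_assoc, mul_smul_comm, hx]
        obtain ⟨c, hc1, hc⟩ := Module.End.mem_center_iff.1 this
        have hc' : ∀ v, ρ u v = c • v := fun v => congrArg (fun g : V →ₗ[K] V => g v) hc
        obtain ⟨v, hv⟩ := exists_ne (0 : V)
        have hc0 : c ≠ 0 := by
          rintro rfl
          exact hv ((ρ u).map_eq_zero_iff.1 (by simpa using hc' v))
        obtain ⟨x, rfl⟩ := h.cls_surjective u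
        obtain ⟨d, hd⟩ := h2 x
        rw [← h.cls_one, cls_eq_iff]
        exact ⟨d * Units.mk0 c hc0, by
          rw [hd, map_mul]; exact LinearEquiv.ext fun v => congrArg ((d : K) • ·) (hc' v)⟩
      i := i
      i_sq := h.i_sq
      two := h.two
      ρ := ρ
      zero := h0
      sq := fun u => (hρ u).1
      mul := hm
      comm := hb
      span := hspan
      nontriv := this }
  refine ⟨h.Q, inferInstance, inferInstance, inferInstance, P, rfl, fun u => ?_, fun x hx => ?_,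
    h.sq⟩
  · obtain ⟨-, x, -, e⟩ := hρ u
    exact ⟨x, x.2, e⟩
  · obtain ⟨c, hc⟩ := h2 ⟨x, hx⟩
    exact ⟨c, _, hc⟩

end PData

/-- scalar multiples of the elements of `M` -/
def scMul (M : Subgroup (V ≃ₗ[K] V)) : Subgroup (V ≃ₗ[K] V) where
  carrier := {g | ∃ c, ∃ m ∈ M, g = sc V c * m}
  one_mem' := ⟨1, 1, one_mem _, by simp⟩
  mul_mem' := by
    rintro _ _ ⟨c, m, hm, rfl⟩ ⟨d, n, hn, rfl⟩
    exact ⟨c * d, m * n, mul_mem hm hn, sc_mul_sc_mul ..⟩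
  inv_mem' := by
    rintro _ ⟨c, m, hm, rfl⟩
    exact ⟨c⁻¹, m⁻¹, inv_mem hm, by rw [mul_inv_rev, ← map_inv, sc_comm]⟩

theorem le_scMul (M : Subgroup (V ≃ₗ[K] V)) : M ≤ scMul M := fun m hm => ⟨1, m, hm, by simp⟩

theorem conj_mem_of_scMul {M : Subgroup (V ≃ₗ[K] V)} {k y : V ≃ₗ[K] V} (hk : k ∈ scMul M)
    (hy : y ∈ M) : k * y * k⁻¹ ∈ M := by
  obtain ⟨c, m, hm, rfl⟩ := hk
  rw [mul_inv_rev, show sc V c * m * y * (m⁻¹ * (sc V c)⁻¹) = sc V c * (m * y * m⁻¹) * (sc V c)⁻¹ by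
    group, ← sc_comm, mul_inv_cancel_right]
  exact mul_mem (mul_mem hm hy) (inv_mem hm)

theorem det_sc [FiniteDimensional K V] (c : Kˣ) : LinearEquiv.det (sc V c) = c ^ finrank K V :=
  Units.ext (by rw [det_of_forall_eq_smul (sc_apply c), Units.val_pow_eq_pow_val])

namespace Pauli

variable {P : Pauli K V W} {R : Subgroup (V ≃ₗ[K] V)}

theorem Over.exists_eq (h : P.Over R) {g : V ≃ₗ[K] V} (hg : g ∈ P.R) :
    ∃ c, ∃ x ∈ R, g = sc V c * x := by
  obtain ⟨c, u, rfl⟩ := hg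
  obtain ⟨x, hx, e | e⟩ := h.lift u
  · exact ⟨c, x, hx, by rw [e]⟩
  · exact ⟨c * P.i, x, hx, by rw [e, map_mul, mul_assoc]⟩

theorem Over.R_eq (h : P.Over R) : P.R = scMul R :=
  le_antisymm (fun _ hg => h.exists_eq hg)
    (by rintro _ ⟨c, x, hx, rfl⟩; exact mul_mem (P.sc_mem_R c) (h.le hx))

theorem Over.normalizer_le (h : P.Over R) : Subgroup.normalizer (R : Set (V ≃ₗ[K] V)) ≤ P.N := by
  have key : ∀ g ∈ Subgroup.normalizer (R : Set (V ≃ₗ[K] V)), ∀ r ∈ P.R, g * r * g⁻¹ ∈ P.R := by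
    intro g hg r hr
    obtain ⟨c, x, hx, rfl⟩ := h.exists_eq hr
    rw [conj_sc_mul]
    exact mul_mem (P.sc_mem_R c) (h.le ((Subgroup.mem_normalizer_iff.1 hg x).1 hx))
  intro g hg
  refine Subgroup.mem_normalizer_iff.2 fun r => ⟨key g hg r, fun hr => ?_⟩
  simpa [mul_assoc] using key _ (inv_mem hg) _ hr

theorem Over.mem_of_sq (h : P.Over R) (hi : sc V P.i ∈ R) {g : V ≃ₗ[K] V} (hg : g ∈ P.R) {a : ZMod 2}
    (ha : g * g = sc V (sg K a)) : g ∈ R := by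
  obtain ⟨c, x, hx, rfl⟩ := h.exists_eq hg
  obtain ⟨b, hb⟩ := h.sq x hx
  rw [sc_mul_sc_mul, hb, ← map_mul] at ha
  have h1 : c * c = sg K (a + b) := by
    rw [sg_add, ← P.sc_inj ha, mul_assoc (c * c), sg_mul_self, mul_one]
  have h2 : sc V (-1 : Kˣ) ∈ R := by rw [← P.i_sq, map_mul]; exact mul_mem hi hi
  have h3 : ∀ d : Kˣ, d * d = 1 → sc V d ∈ R := fun d hd => by
    obtain ⟨e, rfl⟩ := exists_sg_of_mul_self hd
    rcases zmod2_cases e with rfl | rfl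
    · simp
    · exact h2
  refine mul_mem ?_ hx
  rcases zmod2_cases (a + b) with e | e <;> rw [e] at h1
  · exact h3 c h1
  · have := mul_mem (h3 (c * P.i⁻¹) (by
      rw [mul_mul_mul_comm, h1, ← mul_inv, P.i_sq, sg_one, mul_inv_cancel])) hi
    rwa [← map_mul, inv_mul_cancel_right] at this

theorem Over.normalizer_eq (h : P.Over R) (hi : sc V P.i ∈ R) :
    Subgroup.normalizer (R : Set (V ≃ₗ[K] V)) = P.N := by
  have key : ∀ g ∈ P.N, ∀ r ∈ R, g * r * g⁻¹ ∈ R := by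
    intro g hg r hr
    obtain ⟨a, ha⟩ := h.sq r hr
    exact h.mem_of_sq hi (P.conj_mem_R hg (h.le hr)) (a := a) (by
      rw [← conj_sc _ g, ← ha]; group)
  refine le_antisymm h.normalizer_le fun g hg => ?_
  refine Subgroup.mem_normalizer_iff.2 fun r => ⟨key g hg r, fun hr => ?_⟩
  simpa [mul_assoc] using key _ (inv_mem hg) _ hr

theorem Over.ρ_mem (h : P.Over R) (hi : sc V P.i ∈ R) (u : W) : P.ρ u ∈ R :=
  h.mem_of_sq hi (P.ρ_mem_R u) (a := 0) (by simp [P.sq])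

variable (P) [FiniteDimensional K V]

theorem det_of_Ve {u : W} (hu : u ≠ 0) {g : V ≃ₗ[K] V} {a b : K} (ha : ∀ v ∈ P.Ve u 0, g v = a • v)
    (hb : ∀ v ∈ P.Ve u 1, g v = b • v) :
    (LinearEquiv.det g : K) = (a * b) ^ finrank K (P.Ve u 0) := by
  let e := Submodule.prodEquivOfIsCompl _ _ (P.isCompl_Ve u)
  have : (g : V →ₗ[K] V) = (e : _ →ₗ[K] V) ∘ₗ
      ((a • LinearMap.id).prodMap (b • LinearMap.id)) ∘ₗ
        (e.symm : V →ₗ[K] P.Ve u 0 × P.Ve u 1) := by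
    ext v
    obtain ⟨⟨x, y⟩, rfl⟩ := e.surjective v
    simp [e, ha x x.2, hb y y.2]
  rw [LinearEquiv.coe_det, this, LinearMap.det_conj, LinearMap.det_prodMap, LinearMap.det_smul,
    LinearMap.det_smul, LinearMap.det_id, LinearMap.det_id, P.finrank_Ve_eq hu 1 0, mul_one, mul_one,
    mul_pow]

variable [Finite W] {m : ℕ}

theorem finrank_Ve (hW : finrank (ZMod 2) W = 2 * (m + 1)) {u : W} (hu : u ≠ 0) (ε : ZMod 2) :
    finrank K (P.Ve u ε) = 2 ^ m := by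
  have := P.two_mul_finrank_Ve hu ε
  rw [P.finrank_eq hW, pow_succ] at this
  omega

theorem ρ_mem_SLV (hW : finrank (ZMod 2) W = 2 * m) (hm : 2 ≤ m) (u : W) : P.ρ u ∈ SLV K V := by
  by_cases hu : u = 0
  · rw [hu, P.zero]; exact one_mem _
  obtain ⟨m, rfl⟩ := Nat.exists_eq_add_of_le' hm
  refine Units.ext ((P.det_of_Ve hu (a := 1) (b := -1) (fun v hv => by simpa [mem_Ve] using hv)
    fun v hv => by simpa [mem_Ve] using hv).trans ?_)
  rw [P.finrank_Ve (m := m + 1) hW hu, pow_succ', pow_mul]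
  simp

theorem det_s (hW : finrank (ZMod 2) W = 2 * (m + 1)) {u : W} (hu : u ≠ 0) :
    LinearEquiv.det (P.s u) = P.i ^ 2 ^ m := by
  refine Units.ext ((P.det_of_Ve hu (a := 1) (b := P.i) (fun v hv => ?_) fun v hv => ?_).trans ?_)
  · rw [s_apply, P.mem_Ve_zero.1 hv, ← add_smul, P.α_add]
  · rw [s_apply, P.mem_Ve_one.1 hv, smul_neg, ← sub_eq_add_neg, ← sub_smul, P.α_sub]
  · rw [P.finrank_Ve hW hu, one_mul, Units.val_pow_eq_pow_val]

omit [FiniteDimensional K V] [Finite W] in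
theorem i_pow_four : P.i ^ 4 = 1 := by
  rw [show 4 = 2 * 2 from rfl, pow_mul, pow_two P.i, P.i_sq]; simp

theorem s_mem_SLV (hW : finrank (ZMod 2) W = 2 * m) (hm : 3 ≤ m) (u : W) : P.s u ∈ SLV K V := by
  by_cases hu : u = 0
  · rw [hu, P.s_zero]; exact one_mem _
  obtain ⟨m, rfl⟩ := Nat.exists_eq_add_of_le' hm
  rw [MonoidHom.mem_ker, P.det_s (m := m + 2) hW hu, pow_add, mul_comm, pow_mul]
  exact (congrArg (· ^ 2 ^ m) P.i_pow_four).trans (one_pow _)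

theorem neg_i_ρ_mem_SLV (hW : finrank (ZMod 2) W = 2 * m) (hm : 2 ≤ m) (u : W) :
    sc V (-P.i) * P.ρ u ∈ SLV K V := by
  refine mul_mem ?_ (P.ρ_mem_SLV hW hm u)
  obtain ⟨m, rfl⟩ := Nat.exists_eq_add_of_le' hm
  rw [MonoidHom.mem_ker, det_sc, P.finrank_eq hW, pow_add, mul_comm, pow_mul,
    Even.neg_pow (by decide)]
  exact (congrArg (· ^ 2 ^ m) P.i_pow_four).trans (one_pow _)

omit [Finite W] [FiniteDimensional K V] in
theorem not_mem_R_of_tv {t : V ≃ₗ[K] V} {a : V} {φ : Dual K V} (ha : a ≠ 0)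
    (hφ : φ ≠ 0) (h0 : φ a = 0) (e : ∀ x, t x = x + φ x • a) : t ∉ P.R := by
  rintro ⟨c, u, rfl⟩
  have h1 : ∀ x, ((c * c : Kˣ) : K) • x = x + (2 * φ x) • a := fun x => by
    have := e ((sc V c * P.ρ u) x)
    rw [← LinearEquiv.mul_apply, sc_mul_sc_mul, P.sq, mul_one, sc_apply, e] at this
    rw [this, map_add, map_smul, h0, smul_zero, add_zero, add_assoc, ← add_smul, two_mul]
  have h2 := h1 a
  rw [h0, mul_zero, zero_smul, add_zero, ← sub_eq_zero, ← one_smul K a, smul_smul, mul_one,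
    ← sub_smul, smul_eq_zero, or_iff_left ha, sub_eq_zero] at h2
  refine hφ (LinearMap.ext fun x => ?_)
  simpa [h2, ha, P.two] using h1 x

omit [Finite W] in
theorem exists_ne_zero (hW : finrank (ZMod 2) W = 2 * m) (hm : 2 ≤ m) : ∃ a : W, a ≠ 0 :=
  have : Nontrivial W := Module.nontrivial_of_finrank_pos (R := ZMod 2) (by omega)
  exists_ne 0

theorem not_SLV_le_N (hW : finrank (ZMod 2) W = 2 * m) (hm : 2 ≤ m) : ¬ SLV K V ≤ P.N := by
  intro h
  have h4 : 4 ≤ finrank K V := P.pow_le_finrank (m := 2) (by omega)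
  obtain ⟨a, ha⟩ := exists_ne_zero hW hm
  have h1 := SLV_le_of_norm_of_mem (P := P) (X := P.R) (by omega)
    (fun k hk y hy => P.conj_mem_R (h hk) hy) ha ⟨_, _, rfl⟩
  obtain ⟨w, hw, hw0⟩ := P.exists_ne_Ve ha 0
  obtain ⟨w', hw', hw0'⟩ := P.exists_ne_Ve ha (0 + 1)
  obtain ⟨φ, h2, h3⟩ := exists_dual_kill (S := P.Ve a 0) (x := w')
    (fun h => hw0' (eq_zero_of_mem_Ve h hw')) 1
  obtain ⟨h0, t, ht, e⟩ := tvIn_SLV (h2 w hw)
  exact P.not_mem_R_of_tv hw0 (by rintro rfl; simp at h3) h0 e (h1 ht)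

theorem isMaximalIn_SLV (hW : finrank (ZMod 2) W = 2 * m) (hm : 2 ≤ m)
    (H : ∀ X, P.R ≤ X → P.N ⊓ SLV K V ≤ X → X ≤ P.N ∨ SLV K V ≤ X) :
    IsMaximalIn (SLV K V) (P.N ⊓ SLV K V) := by
  have h4 : 4 ≤ finrank K V := P.pow_le_finrank (m := 2) (by omega)
  obtain ⟨a, ha⟩ := exists_ne_zero hW hm
  refine isMaximalIn_of_forall inf_le_right (fun h => P.not_SLV_le_N hW hm (h.trans inf_le_left))
    fun M hM hMK g hg hgN => ?_
  rcases H (scMul M) (by
    rintro _ ⟨c, u, rfl⟩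
    exact ⟨c, _, hM ⟨P.R_le_N (P.ρ_mem_R u), P.ρ_mem_SLV hW hm u⟩, rfl⟩)
    (hM.trans (le_scMul M)) with h | h
  · exact absurd ⟨h (le_scMul M hg), hMK hg⟩ hgN
  · exact SLV_le_of_norm_of_mem (P := P) (by omega) (fun k hk y hy => conj_mem_of_scMul (h hk) hy) ha
      (hM ⟨P.R_le_N ⟨_, _, rfl⟩, P.neg_i_ρ_mem_SLV hW hm a⟩)

theorem isMaximalIn_SLV_of_PL (hW : finrank (ZMod 2) W = 2 * m) (hm : 3 ≤ m)
    (H : ∀ X, P.H1 X → X ≤ P.N ∨ SLV K V ≤ X) : IsMaximalIn (SLV K V) (P.N ⊓ SLV K V) :=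
  P.isMaximalIn_SLV hW (by omega) fun X h1 h2 =>
    H X ⟨h1, fun u => h2 ⟨P.s_mem_N u, P.s_mem_SLV hW hm u⟩⟩

variable {σ : K →+* K} {B : V →ₛₗ[σ] V →ₗ[K] K} [Finite K]

theorem not_SUV_le_N (h : Herm B) (hρ : ∀ u, P.ρ u ∈ isomGroup B) (hi : σ P.i = -P.i)
    (hW : finrank (ZMod 2) W = 2 * m) (hm : 2 ≤ m) : ¬ SUV B ≤ P.N := by
  intro hN
  have h4 : 4 ≤ finrank K V := P.pow_le_finrank (m := 2) (by omega)
  obtain ⟨a, ha⟩ := exists_ne_zero hW hm
  have h1 := SUV_le_of_norm_of_mem (P := P) (X := P.R) h hρ hi h4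
    (fun k hk y hy => P.conj_mem_R (hN hk) hy) ha ⟨_, _, rfl⟩
  obtain ⟨δ, hδ0, hδ⟩ := h.exists_trace_zero
  obtain ⟨z, hz0, hz⟩ := h.exists_isotropic (by omega)
  obtain ⟨x, hx⟩ := h.exists_ne hz0
  exact P.not_mem_R_of_tv hz0 (φ := δ • B z)
    (fun e => mul_ne_zero hδ0 hx (congrArg (fun f : Dual K V => f x) e)) (by simp [hz])
    (h.transv_apply z hz δ hδ) (h1 (coe_mem_SUV (h.transv_mem_sIsom ..)))

theorem isMaximalIn_SUV (h : Herm B) (hρ : ∀ u, P.ρ u ∈ isomGroup B) (hi : σ P.i = -P.i)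
    (hW : finrank (ZMod 2) W = 2 * m) (hm : 2 ≤ m)
    (H : ∀ X ≤ simG B, P.R ≤ X → P.N ⊓ SUV B ≤ X → X ≤ P.N ∨ SUV B ≤ X) :
    IsMaximalIn (SUV B) (P.N ⊓ SUV B) := by
  have h4 : 4 ≤ finrank K V := P.pow_le_finrank (m := 2) (by omega)
  obtain ⟨a, ha⟩ := exists_ne_zero hW hm
  refine isMaximalIn_of_forall inf_le_right
    (fun h' => P.not_SUV_le_N h hρ hi hW hm (h'.trans inf_le_left)) fun M hM hMK g hg hgN => ?_
  rcases H (scMul M) (by
    rintro _ ⟨c, k, hk, rfl⟩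
    refine ⟨Units.map (σ : K →* K) c * c, fun x y => ?_⟩
    simp only [LinearEquiv.mul_apply, sc_apply, map_smulₛₗ, LinearMap.smul_apply, smul_eq_mul,
      RingHom.id_apply, mem_isomGroup.1 (mem_SUV.1 (hMK hk)).1, Units.val_mul, Units.coe_map,
      MonoidHom.coe_coe]
    ring) (by
    rintro _ ⟨c, u, rfl⟩
    exact ⟨c, _, hM ⟨P.R_le_N (P.ρ_mem_R u), mem_SUV.2 ⟨hρ u, P.ρ_mem_SLV hW hm u⟩⟩, rfl⟩)
    (hM.trans (le_scMul M)) with h' | h'
  · exact absurd ⟨h' (le_scMul M hg), hMK hg⟩ hgN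
  · refine SUV_le_of_norm_of_mem (P := P) h hρ hi h4
      (fun k hk y hy => conj_mem_of_scMul (h' hk) hy) ha
      (hM ⟨P.R_le_N ⟨_, _, rfl⟩, mem_SUV.2 ⟨mul_mem (sc_mem_isomGroup ?_) (hρ a),
        P.neg_i_ρ_mem_SLV hW hm a⟩⟩)
    rw [Units.val_neg, map_neg, hi]
    linear_combination -P.i_mul_i

theorem isMaximalIn_SUV_of_PU (h : Herm B) (hρ : ∀ u, P.ρ u ∈ isomGroup B) (hi : σ P.i = -P.i)
    (hW : finrank (ZMod 2) W = 2 * m) (hm : 3 ≤ m)
    (H : ∀ X ≤ simG B, P.H1 X → X ≤ P.N ∨ SUV B ≤ X) : IsMaximalIn (SUV B) (P.N ⊓ SUV B) :=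
  P.isMaximalIn_SUV h hρ hi hW (by omega) fun X h0 h1 h2 =>
    H X h0 ⟨h1, fun u => h2 ⟨P.s_mem_N u,
      mem_SUV.2 ⟨s_mem_isomGroup hρ hi u, P.s_mem_SLV hW hm u⟩⟩⟩

end Pauli

end Cfsg.Lib.Class.C6
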