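import Cfsg.Agent.Class.C6.Pauli

/-!
# The endgame for `r = 2`

If a finite group `X` contains the Pauli group `R` and enough Clifford elements, and all
centralisers `C_X(ρ u)`, `u ≠ 0`, normalise `R`, then `X` normalises `R`.  The proof is elementary:
it takes place in `G = X / scalars`, where the image of `R` is a self-centralising elementary
abelian `2`-group `A = e(W)` (a *frame*).  (E1) two conjugate frames which meet are equal;
(E2) a conjugate frame `≠ A` meets `N(A)` trivially; (E3) dihedral arguments give `G = N(A)`.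
-/

namespace Cfsg.Lib.Class.C6

open Module

section Dihedral

variable {G : Type*} [Group G]

theorem dih_conj_pow {r t : G} (h : t * r = r⁻¹ * t) (j : ℕ) :
    r ^ j * t * (r ^ j)⁻¹ = r ^ (2 * j) * t := by
  have h1 : t * r⁻¹ = r * t := by
    calc t * r⁻¹ = r * (r⁻¹ * t) * r⁻¹ := by group
      _ = r * t := by rw [← h]; group
  have h2 : ∀ j : ℕ, t * (r ^ j)⁻¹ = r ^ j * t := by
    intro j
    induction j with
    | zero => simp
    | succ j ih =>
      rw [pow_succ' r j, mul_inv_rev, ← mul_assoc, ih, mul_assoc, h1, ← mul_assoc, ← pow_succ,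
        pow_succ' r j]
  rw [mul_assoc, h2, ← mul_assoc, ← pow_add, two_mul]

theorem dih_left {s u : G} (hs : s * s = 1) (hu : u * u = 1) :
    s * (s * u) = (s * u)⁻¹ * s := by
  rw [mul_inv_rev, inv_eq_of_mul_eq_one_right hs, inv_eq_of_mul_eq_one_right hu, ← mul_assoc, hs,
    mul_assoc, hs, one_mul, mul_one]

theorem dih_right {s u : G} (hs : s * s = 1) (hu : u * u = 1) :
    u * (s * u) = (s * u)⁻¹ * u := by
  rw [mul_inv_rev, inv_eq_of_mul_eq_one_right hs, inv_eq_of_mul_eq_one_right hu, mul_assoc]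

theorem dih_odd {s u : G} (hs : s * s = 1) (hu : u * u = 1) (h : Odd (orderOf (s * u))) :
    ∃ σ : G, σ * s * σ⁻¹ = u ∧ ∀ t, Commute t s → Commute t u → Commute t σ := by
  obtain ⟨k, hk⟩ := h
  refine ⟨(s * u) ^ k, ?_, fun t h1 h2 => (h1.mul_right h2).pow_right k⟩
  rw [dih_conj_pow (dih_left hs hu)]
  have h1 : (s * u) ^ (2 * k) * (s * u) = 1 := by rw [← pow_succ, ← hk, pow_orderOf_eq_one]
  calc (s * u) ^ (2 * k) * s = (s * u) ^ (2 * k) * (s * u) * u := by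
        rw [mul_assoc, mul_assoc, hu, mul_one]
    _ = u := by rw [h1, one_mul]

theorem dih_even [Finite G] {s u : G} (hs : s * s = 1) (hu : u * u = 1)
    (h : Even (orderOf (s * u))) :
    ∃ w : G, w ≠ 1 ∧ w * w = 1 ∧ Commute w s ∧ Commute w u ∧
      (((∃ j, j * s * j⁻¹ = w * s) ∧ ∃ j, j * u * j⁻¹ = w * u) ∨
        ((∃ j, j * u * j⁻¹ = w * s) ∧ ∃ j, j * s * j⁻¹ = w * u)) := by
  obtain ⟨m, hm⟩ := h
  set r := s * u with hr
  have hpos := orderOf_pos r
  have hww : r ^ m * r ^ m = 1 := by rw [← pow_add, ← hm, pow_orderOf_eq_one]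
  have hc : ∀ t, t * r = r⁻¹ * t → Commute (r ^ m) t := fun t ht => by
    have := dih_conj_pow ht m
    rw [two_mul, pow_add, hww, one_mul] at this
    exact mul_inv_eq_iff_eq_mul.1 this
  have hru : r * u = s := by rw [hr, mul_assoc, hu, mul_one]
  refine ⟨r ^ m, pow_ne_one_of_lt_orderOf (by omega) (by omega), hww, hc s (dih_left hs hu),
    hc u (dih_right hs hu), ?_⟩
  rcases Nat.even_or_odd' m with ⟨j, rfl | rfl⟩
  · exact Or.inl ⟨⟨r ^ j, dih_conj_pow (dih_left hs hu) j⟩, r ^ j, dih_conj_pow (dih_right hs hu) j⟩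
  · refine Or.inr ⟨⟨r ^ (j + 1), ?_⟩, r ^ j, ?_⟩
    · rw [dih_conj_pow (dih_right hs hu)]
      calc r ^ (2 * (j + 1)) * u = r ^ (2 * j + 1) * (r * u) := by
            rw [← mul_assoc, ← pow_succ]; rfl
        _ = _ := by rw [hru]
    · rw [dih_conj_pow (dih_left hs hu), pow_succ, mul_assoc, hru]

end Dihedral

variable {K V W : Type*} [Field K] [AddCommGroup V] [Module K V] [AddCommGroup W]
  [Module (ZMod 2) W]

/-- an additive map between `F₂`-spaces is linear -/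
def egLin {U : Type*} [AddCommGroup U] [Module (ZMod 2) U] (f : U → W)
    (h : ∀ a b, f (a + b) = f a + f b) : U →ₗ[ZMod 2] W where
  toFun := f
  map_add' := h
  map_smul' c u := by
    rcases zmod2_cases c with rfl | rfl
    · have := h 0 0
      rw [add_zero, add_self] at this
      simpa using this
    · simp

theorem eg_exists_notMem [Finite W] {S T : Submodule (ZMod 2) W}
    (h : finrank (ZMod 2) S < finrank (ZMod 2) T) : ∃ c ∈ T, c ∉ S := by
  by_contra hc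
  push Not at hc
  exact absurd (Submodule.finrank_mono (show T ≤ S from hc)) (by omega)

theorem eg_finrank_span_pair_le [Finite W] (a b : W) :
    finrank (ZMod 2) (Submodule.span (ZMod 2) ({a, b} : Set W)) ≤ 2 := by
  classical
  have := finrank_span_finset_le_card (R := ZMod 2) ({a, b} : Finset W)
  rw [Set.finrank, Finset.coe_pair] at this
  exact this.trans Finset.card_le_two

theorem eg_exists_ne_pair [Finite W] {T : Submodule (ZMod 2) W} (h : 3 ≤ finrank (ZMod 2) T)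
    (a b : W) : ∃ c ∈ T, c ≠ 0 ∧ c ≠ a ∧ c ≠ b ∧ c ≠ a + b := by
  obtain ⟨c, hc, hc'⟩ := eg_exists_notMem
    (S := Submodule.span (ZMod 2) ({a, b} : Set W)) (T := T) (by
      have := eg_finrank_span_pair_le a b; omega)
  have ha : a ∈ Submodule.span (ZMod 2) ({a, b} : Set W) := Submodule.subset_span (by simp)
  have hb : b ∈ Submodule.span (ZMod 2) ({a, b} : Set W) := Submodule.subset_span (by simp)
  refine ⟨c, hc, ?_, ?_, ?_, ?_⟩ <;> rintro rfl
  · exact hc' (zero_mem _)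
  · exact hc' ha
  · exact hc' hb
  · exact hc' (add_mem ha hb)

theorem eg_exists_ne_single [Finite W] {T : Submodule (ZMod 2) W} (h : 2 ≤ finrank (ZMod 2) T)
    (a : W) : ∃ c ∈ T, c ≠ 0 ∧ c ≠ a := by
  obtain ⟨c, hc, hc'⟩ := eg_exists_notMem
    (S := Submodule.span (ZMod 2) ({a} : Set W)) (T := T) (by
      have := finrank_span_le_card (R := ZMod 2) ({a} : Set W)
      simp only [Set.toFinset_singleton, Finset.card_singleton] at this
      omega)
  refine ⟨c, hc, ?_, ?_⟩ <;> rintro rfl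
  · exact hc' (zero_mem _)
  · exact hc' (Submodule.mem_span_singleton_self _)

namespace Pauli

variable (P : Pauli K V W)

theorem eg_nondeg : P.β.Nondegenerate :=
  ⟨fun u h => P.nondeg u h, fun u h => P.nondeg u fun v => by rw [P.β_comm]; exact h v⟩

theorem eg_finrank_orth [Finite W] (S : Submodule (ZMod 2) W) :
    finrank (ZMod 2) (P.β.orthogonal S) = finrank (ZMod 2) W - finrank (ZMod 2) S :=
  LinearMap.BilinForm.finrank_orthogonal P.eg_nondeg S

theorem eg_mem_orth {S : Submodule (ZMod 2) W} {v : W} :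
    v ∈ P.β.orthogonal S ↔ ∀ b ∈ S, P.β b v = 0 := Iff.rfl

theorem eg_exists_perp [Finite W] (h : 3 ≤ finrank (ZMod 2) W) (u : W) :
    ∃ c, c ≠ 0 ∧ c ≠ u ∧ P.β u c = 0 := by
  have h1 := P.eg_finrank_orth (Submodule.span (ZMod 2) {u})
  have h2 := finrank_span_le_card (R := ZMod 2) ({u} : Set W)
  simp only [Set.toFinset_singleton, Finset.card_singleton] at h2
  obtain ⟨c, hc, h0, hu⟩ := eg_exists_ne_single (T := P.β.orthogonal (Submodule.span (ZMod 2) {u}))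
    (by omega) u
  exact ⟨c, h0, hu, P.eg_mem_orth.1 hc u (Submodule.mem_span_singleton_self u)⟩

/-- two linear conditions leave room for a vector with `Q = 1` -/
theorem eg_exists_Q_eq_one [Finite W] (h : 5 ≤ finrank (ZMod 2) W) {Q : W → ZMod 2}
    (hQ : P.IsQuad Q) (a x d : W) :
    ∃ v, Q v = 1 ∧ P.β v x = P.β a x ∧ P.β v d = P.β a d := by
  have h1 := P.eg_finrank_orth (Submodule.span (ZMod 2) {x, d})
  have h2 := eg_finrank_span_pair_le x d
  obtain ⟨c, hc, h0, hx, hd, hxd⟩ := eg_exists_ne_pair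
    (T := P.β.orthogonal (Submodule.span (ZMod 2) {x, d})) (by omega) x d
  have hcx : P.β c x = 0 := by
    rw [P.β_comm]; exact P.eg_mem_orth.1 hc x (Submodule.subset_span (by simp))
  have hcd : P.β c d = 0 := by
    rw [P.β_comm]; exact P.eg_mem_orth.1 hc d (Submodule.subset_span (by simp))
  obtain ⟨y, hy, hyx, hyd⟩ := P.exists_β_three h0 hx hd hxd
  by_contra hn
  push Not at hn
  have key : ∀ v, P.β v x = P.β a x → P.β v d = P.β a d → Q v = 0 := fun v h1 h2 =>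
    zmod2_eq_zero fun h => hn v h h1 h2
  have q0 := key a rfl rfl
  have q1 := key (a + y) (by rw [P.β_add_left, hyx, add_zero]) (by rw [P.β_add_left, hyd, add_zero])
  have q2 := key (a + c) (by rw [P.β_add_left, hcx, add_zero]) (by rw [P.β_add_left, hcd, add_zero])
  have q3 := key (a + y + c) (by rw [P.β_add_left, P.β_add_left, hyx, hcx, add_zero, add_zero])
    (by rw [P.β_add_left, P.β_add_left, hyd, hcd, add_zero, add_zero])
  rw [hQ, q1, P.β_add_left, hy] at q3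
  rw [hQ, q0] at q2
  rw [← add_assoc, q2] at q3
  exact absurd q3 (by decide)

end Pauli

variable {G : Type*} [Group G]

/-- a frame: a self-centralising copy `e(W)` of the symplectic space `W` in `G` such that the
centralisers of its nontrivial elements normalise it -/
structure Fr (P : Pauli K V W) (e : W → G) : Prop where
  add : ∀ u v, e (u + v) = e u * e v
  inj : ∀ u, e u = 1 → u = 0
  cent : ∀ g, (∀ v, g * e v * g⁻¹ = e v) → ∃ u, g = e u
  norm : ∀ u ≠ 0, ∀ g, g * e u * g⁻¹ = e u → ∀ v, ∃ w, g * e v * g⁻¹ = e w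
  symp : ∀ g u v u' v', g * e u * g⁻¹ = e u' → g * e v * g⁻¹ = e v' → P.β u' v' = P.β u v

namespace Fr

variable {P : Pauli K V W} {e e' : W → G}

theorem zero (F : Fr P e) : e 0 = 1 := by
  have := F.add 0 0
  rw [add_zero] at this
  exact left_eq_mul.1 this

theorem sq (F : Fr P e) (u : W) : e u * e u = 1 := by rw [← F.add, add_self, F.zero]

theorem inv (F : Fr P e) (u : W) : (e u)⁻¹ = e u := inv_eq_of_mul_eq_one_right (F.sq u)

theorem comm (F : Fr P e) (u v : W) : e u * e v = e v * e u := by rw [← F.add, ← F.add, add_comm]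

theorem conj_self (F : Fr P e) (u v : W) : e u * e v * (e u)⁻¹ = e v := by
  rw [F.comm, mul_inv_cancel_right]

theorem injective (F : Fr P e) {u v : W} (h : e u = e v) : u = v :=
  add_eq_zero_iff'.1 (F.inj _ (by rw [F.add, h, F.sq]))

theorem conj (F : Fr P e) (k : G) : Fr P fun w => k * e w * k⁻¹ where
  add u v := by rw [F.add]; group
  inj u h := F.inj u (by
    have : e u = k⁻¹ * (k * e u * k⁻¹) * k := by group
    rw [this, h]; group)
  cent g h := by
    obtain ⟨u, hu⟩ := F.cent (k⁻¹ * g * k) fun v => by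
      have : k⁻¹ * g * k * e v * (k⁻¹ * g * k)⁻¹ = k⁻¹ * (g * (k * e v * k⁻¹) * g⁻¹) * k := by group
      rw [this, h]; group
    exact ⟨u, by rw [← hu]; group⟩
  norm u hu g h v := by
    obtain ⟨w, hw⟩ := F.norm u hu (k⁻¹ * g * k) (by
      have : k⁻¹ * g * k * e u * (k⁻¹ * g * k)⁻¹ = k⁻¹ * (g * (k * e u * k⁻¹) * g⁻¹) * k := by group
      rw [this, h]; group) v
    exact ⟨w, by rw [← hw]; group⟩
  symp g u v u' v' h h' := by
    refine F.symp (k⁻¹ * g * k) u v u' v' ?_ ?_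
    · have : k⁻¹ * g * k * e u * (k⁻¹ * g * k)⁻¹ = k⁻¹ * (g * (k * e u * k⁻¹) * g⁻¹) * k := by group
      rw [this, h]; group
    · have : k⁻¹ * g * k * e v * (k⁻¹ * g * k)⁻¹ = k⁻¹ * (g * (k * e v * k⁻¹) * g⁻¹) * k := by group
      rw [this, h']; group

/-- the normaliser of the frame -/
def M [Finite W] (F : Fr P e) : Subgroup G where
  carrier := {g | ∀ v, ∃ w, g * e v * g⁻¹ = e w}
  one_mem' v := ⟨v, by simp⟩
  mul_mem' := by
    intro g h hg hh v
    obtain ⟨w, hw⟩ := hh v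
    obtain ⟨w', hw'⟩ := hg w
    exact ⟨w', by rw [← hw', ← hw]; group⟩
  inv_mem' := by
    intro g hg v
    choose f hf using hg
    have hinj : Function.Injective f := fun a b h => F.injective (by
      have : g * e a * g⁻¹ = g * e b * g⁻¹ := by rw [hf, hf, h]
      exact mul_left_cancel (mul_right_cancel this))
    obtain ⟨w, rfl⟩ := Finite.surjective_of_injective hinj v
    exact ⟨w, by rw [← hf]; group⟩

variable [Finite W]

theorem mem_M (F : Fr P e) {g : G} : g ∈ F.M ↔ ∀ v, ∃ w, g * e v * g⁻¹ = e w := Iff.rfl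

theorem e_mem_M (F : Fr P e) (u : W) : e u ∈ F.M := fun v => ⟨v, F.conj_self u v⟩

theorem mem_M_of_fix (F : Fr P e) {u : W} (hu : u ≠ 0) {g : G} (h : g * e u * g⁻¹ = e u) :
    g ∈ F.M := F.norm u hu g h

theorem mem_M_of_commute (F : Fr P e) {u : W} (hu : u ≠ 0) {g : G} (h : Commute g (e u)) :
    g ∈ F.M := F.norm u hu g (by rw [h.eq, mul_inv_cancel_right])

theorem mem_conj_M (F : Fr P e) {k g : G} : g ∈ (F.conj k).M ↔ k⁻¹ * g * k ∈ F.M := by
  refine forall_congr' fun v => exists_congr fun w => ⟨fun h => ?_, fun h => ?_⟩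
  · have : k⁻¹ * g * k * e v * (k⁻¹ * g * k)⁻¹ = k⁻¹ * (g * (k * e v * k⁻¹) * g⁻¹) * k := by group
    rw [this, h]; group
  · change g * (k * e v * k⁻¹) * g⁻¹ = k * e w * k⁻¹
    rw [← h]; group

/-- the linear action of the normaliser -/
noncomputable def ac (F : Fr P e) {g : G} (hg : g ∈ F.M) : W →ₗ[ZMod 2] W :=
  egLin (fun v => (F.mem_M.1 hg v).choose) fun a b => F.injective (by
    have h1 := (F.mem_M.1 hg a).choose_spec
    have h2 := (F.mem_M.1 hg b).choose_spec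
    have h3 := (F.mem_M.1 hg (a + b)).choose_spec
    refine h3.symm.trans (Eq.trans ?_ (F.add _ _).symm)
    rw [← h1, ← h2, F.add]
    group)

theorem ac_spec (F : Fr P e) {g : G} (hg : g ∈ F.M) (v : W) : g * e v * g⁻¹ = e (F.ac hg v) :=
  (F.mem_M.1 hg v).choose_spec

theorem ac_eq (F : Fr P e) {g : G} (hg : g ∈ F.M) {v w : W} (h : g * e v * g⁻¹ = e w) :
    F.ac hg v = w := F.injective ((F.ac_spec hg v).symm.trans h)

theorem β_ac (F : Fr P e) {g : G} (hg : g ∈ F.M) (u v : W) :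
    P.β (F.ac hg u) (F.ac hg v) = P.β u v :=
  F.symp g u v _ _ (F.ac_spec hg u) (F.ac_spec hg v)

theorem β_ac_add (F : Fr P e) {g : G} (hg : g ∈ F.M) {b : W} (hb : g * e b * g⁻¹ = e b) (v : W) :
    P.β b (F.ac hg v + v) = 0 := by
  have := F.β_ac hg b v
  rw [F.ac_eq hg hb] at this
  rw [P.β_add_right, this, zmod2_add_self]

/-- the commutator of `e' w ∈ M` and `e v ∈ M'` lies in both frames -/
theorem exists_comm (F : Fr P e) (F' : Fr P e') {v w : W} (hw : e' w ∈ F.M) (hv : e v ∈ F'.M) :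
    ∃ y, e (F.ac hw v + v) = e' y := by
  refine ⟨w + F'.ac hv w, ?_⟩
  rw [F.add, ← F.ac_spec hw, F'.add, ← F'.ac_spec hv, F.inv, F'.inv]
  simp only [mul_assoc]

/-- hypothesis of (E1) -/
def HE1 (P : Pauli K V W) (e : W → G) : Prop :=
  ∀ x d, x ≠ 0 → d ≠ 0 → x ≠ d → P.β x d = 0 →
    ∃ h d', h * e x * h⁻¹ = e x ∧ h * e d * h⁻¹ = e d' ∧ P.β d' d = 1

/-- (E1) two frames which meet are equal -/
theorem E1 (hW : 3 ≤ finrank (ZMod 2) W) (F : Fr P e) (F' : Fr P e') (h1 : HE1 P e)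
    {x0 y0 : W} (hx0 : x0 ≠ 0) (h0 : e x0 = e' y0) (w : W) : ∃ u, e' w = e u := by
  have hy0 : y0 ≠ 0 := by rintro rfl; exact hx0 (F.inj _ (h0.trans F'.zero))
  have hM : ∀ w, e' w ∈ F.M := fun w => F.mem_M_of_fix hx0 (by rw [h0]; exact F'.conj_self _ _)
  have hM' : ∀ v, e v ∈ F'.M := fun v => F'.mem_M_of_fix hy0 (by rw [← h0]; exact F.conj_self _ _)
  have hD : ∀ v w, ∃ y, e (F.ac (hM w) v + v) = e' y := fun v w => F.exists_comm F' _ (hM' v)
  have hperp : ∀ v w b y, e b = e' y → P.β b (F.ac (hM w) v + v) = 0 := fun v w b y hb =>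
    F.β_ac_add _ (by rw [hb]; exact F'.conj_self _ _) v
  have htriv : ∀ w, (∀ v, F.ac (hM w) v = v) → ∃ u, e' w = e u := fun w h =>
    F.cent _ fun v => by rw [F.ac_spec (hM w), h]
  by_contra hw
  obtain ⟨v0, hv0⟩ : ∃ v, F.ac (hM w) v ≠ v := by
    by_contra h
    push Not at h
    exact hw (htriv w h)
  obtain ⟨d, hd⟩ : ∃ d, d = F.ac (hM w) v0 + v0 := ⟨_, rfl⟩
  have hd0 : d ≠ 0 := fun h => hv0 (add_eq_zero_iff'.1 (hd.symm.trans h))
  obtain ⟨yd, hyd⟩ := hD v0 w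
  rw [← hd] at hyd
  -- the intersection is `{0, d}`
  have hDD : ∀ x y, e x = e' y → x = 0 ∨ x = d := fun x y hxy => by
    by_contra hc
    push Not at hc
    obtain ⟨h, d', hhx, hhd, hβ⟩ := h1 x d hc.1 hd0 hc.2 (hd ▸ hperp v0 w x y hxy)
    have hy : y ≠ 0 := by rintro rfl; exact hc.1 (F.inj _ (hxy.trans F'.zero))
    have hh : h ∈ F'.M := F'.mem_M_of_fix hy (by rw [← hxy]; exact hhx)
    have := hperp v0 w d' _ (by rw [← hhd, hyd, F'.ac_spec hh])
    rw [← hd, hβ] at this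
    exact absurd this (by decide)
  -- a nontrivial action is the transvection in `d`
  have htr : ∀ w, (∃ v, F.ac (hM w) v ≠ v) → ∀ v, F.ac (hM w) v = v + P.β d v • d := by
    rintro w ⟨v1, hv1⟩
    have hc : ∀ v, F.ac (hM w) v = v ∨ F.ac (hM w) v = d + v := fun v => by
      obtain ⟨y, hy⟩ := hD v w
      rcases hDD _ y hy with h | h
      · exact Or.inl (add_eq_zero_iff'.1 h)
      · exact Or.inr (by rw [← h, add_add_self])
    have e1 := (hc v1).resolve_left hv1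
    have hA : ∀ v, F.ac (hM w) v = v → P.β d v = 0 := fun v hv => by
      have := F.β_ac (hM w) v1 v
      rw [e1, hv, P.β_add_left] at this
      exact add_eq_right.1 this
    have hB : ∀ v, F.ac (hM w) v = d + v → P.β d v = P.β d v1 := fun v hv => by
      have := F.β_ac (hM w) v1 v
      rw [e1, hv, P.β_add_left, P.β_add_right, P.β_add_right, P.alt, zero_add,
        ← add_assoc, add_eq_right, P.β_comm v1] at this
      exact add_eq_zero_iff'.1 this
    have hC : P.β d v1 = 1 := by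
      obtain ⟨z, hz⟩ := P.exists_β_eq_one hd0
      rcases hc z with h | h
      · rw [hA z h] at hz; exact absurd hz (by decide)
      · rw [← hB z h, hz]
    intro v
    rcases hc v with h | h
    · rw [hA v h, zero_smul, add_zero, h]
    · rw [hB v h, hC, one_smul, h, add_comm]
  have hall : ∀ z, z = 0 ∨ z = yd ∨ z = w ∨ z = yd + w := fun z => by
    have hin : ∀ z, (∀ v, F.ac (hM z) v = v) → z = 0 ∨ z = yd := fun z hz => by
      obtain ⟨u, hu⟩ := htriv z hz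
      rcases hDD u z hu.symm with rfl | rfl
      · exact Or.inl (F'.inj _ (hu.trans F.zero))
      · exact Or.inr (F'.injective (hu.trans hyd))
    by_cases hz : ∀ v, F.ac (hM z) v = v
    · rcases hin z hz with h | h
      · exact Or.inl h
      · exact Or.inr (Or.inl h)
    · push Not at hz
      rcases hin (z + w) (fun v => F.ac_eq _ (by
        have : e' (z + w) * e v * (e' (z + w))⁻¹ = e' z * (e' w * e v * (e' w)⁻¹) * (e' z)⁻¹ := by
          rw [F'.add]; group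
        rw [this, F.ac_spec (hM w), F.ac_spec (hM z), htr w ⟨v0, hv0⟩, htr z hz, P.β_add_right,
          map_smul, P.alt, smul_zero, add_zero, add_add_self])) with h | h
      · exact Or.inr (Or.inr (Or.inl (add_eq_zero_iff'.1 h)))
      · exact Or.inr (Or.inr (Or.inr (by rw [← h, add_add_self])))
  obtain ⟨c, -, c0, c1, c2, c3⟩ := eg_exists_ne_pair (T := (⊤ : Submodule (ZMod 2) W))
    (by rwa [finrank_top]) yd w
  rcases hall c with h | h | h | h <;> contradiction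

/-- the part of the frame `e` which normalises the frame `e'` -/
def S (F : Fr P e) (F' : Fr P e') : Submodule (ZMod 2) W where
  carrier := {v | e v ∈ F'.M}
  zero_mem' := by change e 0 ∈ F'.M; rw [F.zero]; exact one_mem _
  add_mem' := fun {a b} ha hb => by change e (a + b) ∈ F'.M; rw [F.add]; exact mul_mem ha hb
  smul_mem' c v hv := by
    rcases zmod2_cases c with rfl | rfl
    · change e ((0 : ZMod 2) • v) ∈ F'.M; rw [zero_smul, F.zero]; exact one_mem _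
    · change e ((1 : ZMod 2) • v) ∈ F'.M; rwa [one_smul]

theorem mem_S (F : Fr P e) (F' : Fr P e') {v : W} : v ∈ F.S F' ↔ e v ∈ F'.M := Iff.rfl

/-- the frames meet trivially -/
def Dis (e e' : W → G) : Prop := ∀ v w, e v = e' w → v = 0

omit [Finite W] in
theorem Dis.symm' (h : Dis e e') (F : Fr P e) (F' : Fr P e') :
    Dis e' e := fun w v hv => F'.inj _ (by rw [hv, h v w hv.symm, F.zero])

section E2

variable (F : Fr P e) (F' : Fr P e') (hd : Dis e e')
include F F' hd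

theorem ac_of_mem_S {w v : W} (hw : e' w ∈ F.M) (hv : v ∈ F.S F') : F.ac hw v = v := by
  obtain ⟨y, hy⟩ := F.exists_comm F' hw hv
  exact add_eq_zero_iff'.1 (hd _ _ hy)

theorem fix_of_mem_S {w v : W} (hw : e' w ∈ F.M) (hv : v ∈ F.S F') :
    e' w * e v * (e' w)⁻¹ = e v := by rw [F.ac_spec hw, F.ac_of_mem_S F' hd hw hv]

omit hd in
theorem mem_S_of_ac {w v : W} (hw : e' w ∈ F.M) (hw0 : w ≠ 0) (hv : F.ac hw v = v) :
    v ∈ F.S F' := by
  have h := F.ac_spec hw v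
  rw [hv, mul_inv_eq_iff_eq_mul] at h
  exact F'.mem_M_of_commute hw0 h.symm

theorem eq_zero_of_ac {w : W} (hw : e' w ∈ F.M) (h : ∀ v, F.ac hw v = v) : w = 0 := by
  obtain ⟨u, hu⟩ := F.cent (e' w) fun v => by rw [F.ac_spec hw, h]
  exact hd.symm' F F' _ _ hu

theorem ac_add_mem_orth {w : W} (hw : e' w ∈ F.M) (v : W) :
    F.ac hw v + v ∈ P.β.orthogonal (F.S F') :=
  P.eg_mem_orth.2 fun _ hb => F.β_ac_add hw (F.fix_of_mem_S F' hd hw hb) v

theorem ker_eq {w : W} (hw : e' w ∈ F.M) (hw0 : w ≠ 0) :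
    LinearMap.ker (F.ac hw + LinearMap.id) = F.S F' := by
  ext v
  rw [LinearMap.mem_ker, LinearMap.add_apply, LinearMap.id_apply, add_eq_zero_iff']
  exact ⟨F.mem_S_of_ac F' hw hw0, F.ac_of_mem_S F' hd hw⟩

omit hd in
theorem range_le {w : W} (hw : e' w ∈ F.M) (hw0 : w ≠ 0) :
    LinearMap.range (F.ac hw + LinearMap.id) ≤ F.S F' := by
  rintro _ ⟨v, rfl⟩
  refine F.mem_S_of_ac F' hw hw0 ?_
  have : F.ac hw (F.ac hw v) = v := F.ac_eq hw (by
    rw [← F.ac_spec hw]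
    calc e' w * (e' w * e v * (e' w)⁻¹) * (e' w)⁻¹
        = (e' w * e' w) * e v * (e' w * e' w)⁻¹ := by group
      _ = e v := by rw [F'.sq]; group)
  rw [LinearMap.add_apply, LinearMap.id_apply, map_add, this, add_comm]

theorem dim_le {w : W} (hw : e' w ∈ F.M) (hw0 : w ≠ 0) :
    finrank (ZMod 2) W ≤ 2 * finrank (ZMod 2) (F.S F') := by
  have h1 := LinearMap.finrank_range_add_finrank_ker (F.ac hw + LinearMap.id)
  rw [F.ker_eq F' hd hw hw0] at h1
  have h2 := Submodule.finrank_mono (F.range_le F' hw hw0)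
  omega

theorem exists_notMem_S {w : W} (hw : e' w ∈ F.M) (hw0 : w ≠ 0) : ∃ v, v ∉ F.S F' := by
  by_contra h
  push Not at h
  exact hw0 (F.eq_zero_of_ac F' hd hw fun v => F.ac_of_mem_S F' hd hw (h v))

theorem ac_add {a b : W} (ha : e' a ∈ F.M) (hb : e' b ∈ F.M) (hab : e' (a + b) ∈ F.M) (v : W) :
    F.ac hab v + v = F.ac ha v + v + (F.ac hb v + v) := by
  have h1 : F.ac hab v = F.ac ha (F.ac hb v) := F.ac_eq _ (by
    rw [← F.ac_spec ha, ← F.ac_spec hb, F'.add]; group)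
  have h2 : F.ac ha (F.ac hb v + v) = F.ac hb v + v := by
    by_cases hb0 : b = 0
    · subst hb0
      have : F.ac hb v = v := F.ac_eq _ (by rw [F'.zero]; group)
      rw [this, add_self, map_zero]
    · exact F.ac_of_mem_S F' hd ha (F.range_le F' hb hb0 ⟨v, rfl⟩)
  rw [h1, ← h2, map_add]
  calc _ = F.ac ha (F.ac hb v) + v + (F.ac ha v + F.ac ha v) := by rw [add_self, add_zero]
    _ = _ := by abel

/-- the map `w ↦ [e' w, e v]` -/
noncomputable def phi (v : W) : F'.S F →ₗ[ZMod 2] W :=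
  egLin (fun w => F.ac ((F'.mem_S F).1 w.2) v + v) fun _ _ => F.ac_add F' hd _ _ _ v

theorem phi_apply (v : W) (w : F'.S F) : F.phi F' hd v w = F.ac ((F'.mem_S F).1 w.2) v + v := rfl

theorem finrank_range_phi {v : W} (hv : v ∉ F.S F') :
    finrank (ZMod 2) (LinearMap.range (F.phi F' hd v)) = finrank (ZMod 2) (F'.S F) := by
  refine LinearMap.finrank_range_of_inj ((injective_iff_map_eq_zero _).2 fun w hw => ?_)
  by_contra h0
  exact hv (F.mem_S_of_ac F' _ (fun h => h0 (Subtype.ext h)) (add_eq_zero_iff'.1 hw))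

theorem range_phi_le (v : W) : LinearMap.range (F.phi F' hd v) ≤ P.β.orthogonal (F.S F') := by
  rintro _ ⟨w, rfl⟩
  exact F.ac_add_mem_orth F' hd _ v

theorem dim_eq {w : W} (hw : e' w ∈ F.M) (hw0 : w ≠ 0) :
    2 * finrank (ZMod 2) (F.S F') = finrank (ZMod 2) W ∧
      2 * finrank (ZMod 2) (F'.S F) = finrank (ZMod 2) W := by
  have h1 := F.dim_le F' hd hw hw0
  obtain ⟨v, hv⟩ := F.exists_notMem_S F' hd hw hw0
  have h2 := F.finrank_range_phi F' hd hv
  have h3 := Submodule.finrank_mono (F.range_phi_le F' hd v)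
  rw [P.eg_finrank_orth, h2] at h3
  have h4 := Submodule.finrank_le (F.S F')
  have hpos : 0 < finrank (ZMod 2) W := by
    have : Nontrivial W := ⟨⟨w, 0, hw0⟩⟩
    exact finrank_pos
  obtain ⟨b, hb, hb0⟩ := eg_exists_notMem (S := ⊥) (T := F.S F') (by
    rw [finrank_bot]; omega)
  have h5 := F'.dim_le F (hd.symm' F F') hb (by simpa using hb0)
  omega

theorem orth_eq {w : W} (hw : e' w ∈ F.M) (hw0 : w ≠ 0) : P.β.orthogonal (F.S F') = F.S F' := by
  have h1 := LinearMap.finrank_range_add_finrank_ker (F.ac hw + LinearMap.id)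
  rw [F.ker_eq F' hd hw hw0] at h1
  have h2 := (F.dim_eq F' hd hw hw0).1
  have h3 := P.eg_finrank_orth (F.S F')
  have e1 : LinearMap.range (F.ac hw + LinearMap.id) = F.S F' :=
    Submodule.eq_of_le_of_finrank_eq (F.range_le F' hw hw0) (by omega)
  have e2 : LinearMap.range (F.ac hw + LinearMap.id) = P.β.orthogonal (F.S F') :=
    Submodule.eq_of_le_of_finrank_eq (by
      rintro _ ⟨v, rfl⟩
      exact F.ac_add_mem_orth F' hd hw v) (by omega)
  rw [← e2, e1]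

theorem exists_ac_add {w : W} (hw : e' w ∈ F.M) (hw0 : w ≠ 0) {b : W} (hb : b ∈ F.S F') :
    ∃ v, F.ac hw v + v = b := by
  have h1 := LinearMap.finrank_range_add_finrank_ker (F.ac hw + LinearMap.id)
  rw [F.ker_eq F' hd hw hw0] at h1
  have h2 := (F.dim_eq F' hd hw hw0).1
  have e1 : LinearMap.range (F.ac hw + LinearMap.id) = F.S F' :=
    Submodule.eq_of_le_of_finrank_eq (F.range_le F' hw hw0) (by omega)
  rw [← e1] at hb
  exact hb

theorem exists_conj_eq {w : W} (hw : e' w ∈ F.M) (hw0 : w ≠ 0) {v b : W} (hv : v ∉ F.S F')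
    (hb : b ∈ F.S F') : ∃ z, e' z * e v * (e' z)⁻¹ = e (b + v) := by
  have h2 := F.dim_eq F' hd hw hw0
  have h3 := P.eg_finrank_orth (F.S F')
  have e2 : LinearMap.range (F.phi F' hd v) = P.β.orthogonal (F.S F') :=
    Submodule.eq_of_le_of_finrank_eq (F.range_phi_le F' hd v) (by
      rw [F.finrank_range_phi F' hd hv]; omega)
  rw [← F.orth_eq F' hd hw hw0, ← e2] at hb
  obtain ⟨z, hz⟩ := hb
  exact ⟨z, by rw [F.ac_spec ((F'.mem_S F).1 z.2), ← hz, phi_apply, add_add_self]⟩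

/-- (E2) when a quadratic form is invariant under fusion -/
theorem E2Q (hW : 3 ≤ finrank (ZMod 2) W) {Q : W → ZMod 2} (hQ : P.IsQuad Q)
    (hq : ∀ g u v, g * e u * g⁻¹ = e v → Q u = Q v) {w : W} (hw : e' w ∈ F.M) : w = 0 := by
  by_contra hw0
  have h2 := (F.dim_eq F' hd hw hw0).1
  have key : ∀ b ∈ F.S F', ∀ v ∉ F.S F', Q b = P.β b v := fun b hb v hv => by
    obtain ⟨z, hz⟩ := F.exists_conj_eq F' hd hw hw0 hv hb
    have := hq _ _ _ hz
    rw [hQ, add_comm (Q b), add_assoc, left_eq_add] at this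
    exact add_eq_zero_iff'.1 this
  obtain ⟨b, hb, hb0⟩ := eg_exists_notMem (S := ⊥) (T := F.S F') (by
    rw [finrank_bot]; omega)
  obtain ⟨v, hv⟩ := F.exists_notMem_S F' hd hw hw0
  obtain ⟨v', -, hv'⟩ := eg_exists_notMem
    (S := F.S F' ⊔ Submodule.span (ZMod 2) {v}) (T := ⊤) (by
      have h3 := Submodule.finrank_add_le_finrank_add_finrank (F.S F') (Submodule.span (ZMod 2) {v})
      have h4 := finrank_span_le_card (R := ZMod 2) ({v} : Set W)
      simp only [Set.toFinset_singleton, Finset.card_singleton] at h4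
      rw [finrank_top]; omega)
  have h3 := key b hb v hv
  have h4 := key b hb v' fun h => hv' (Submodule.mem_sup_left h)
  have h5 := key b hb (v' + v) fun h => hv' (by
    rw [← add_add_self v' v]
    exact add_mem (Submodule.mem_sup_left h)
      (Submodule.mem_sup_right (Submodule.mem_span_singleton_self v)))
  rw [P.β_add_right, ← h3, ← h4, zmod2_add_self] at h5
  refine hb0 ((Submodule.mem_bot _).2 (P.nondeg b fun z => ?_))
  by_cases hz : z ∈ F.S F'
  · have := key b hb (z + v) fun h => hv (by rw [← self_add_add z v]; exact add_mem hz h)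
    rw [P.β_add_right, ← h3, right_eq_add] at this
    exact this
  · rw [← key b hb z hz, h5]

theorem exists_mul_of_cz {w : W} (hw : e' w ∈ F.M) (hw0 : w ≠ 0) {g : G}
    (hg : ∀ b ∈ F.S F', g * e b * g⁻¹ = e b) (v : W) :
    ∃ b ∈ F.S F', g * e v * g⁻¹ = e b * e v := by
  have h2 := (F.dim_eq F' hd hw hw0).1
  have hpos : 0 < finrank (ZMod 2) W := by
    have : Nontrivial W := ⟨⟨w, 0, hw0⟩⟩
    exact finrank_pos
  obtain ⟨b, hb, hb0⟩ := eg_exists_notMem (S := ⊥) (T := F.S F') (by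
    rw [finrank_bot]; omega)
  have hM : g ∈ F.M := F.mem_M_of_fix (by simpa using hb0) (hg b hb)
  refine ⟨F.ac hM v + v, ?_, by rw [← F.add, add_add_self, F.ac_spec hM]⟩
  rw [← F.orth_eq F' hd hw hw0]
  exact P.eg_mem_orth.2 fun c hc => F.β_ac_add hM (hg c hc) v

theorem conj_conj_of_cz {w : W} (hw : e' w ∈ F.M) (hw0 : w ≠ 0) {g h : G}
    (hg : ∀ b ∈ F.S F', g * e b * g⁻¹ = e b) (hh : ∀ b ∈ F.S F', h * e b * h⁻¹ = e b) (v : W) :
    g * (h * e v * h⁻¹) * g⁻¹ = (g * e v * g⁻¹) * (h * e v * h⁻¹) * e v := by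
  obtain ⟨c, hc, hc'⟩ := F.exists_mul_of_cz F' hd hw hw0 hh v
  rw [hc', show g * (e c * e v) * g⁻¹ = g * e c * g⁻¹ * (g * e v * g⁻¹) by group, hg c hc,
    mul_assoc _ (e c * e v), mul_assoc (e c), F.sq, mul_one]
  obtain ⟨b, -, hb'⟩ := F.exists_mul_of_cz F' hd hw hw0 hg v
  rw [hb', ← F.add, F.comm]

theorem exists_sq_eq {w : W} (hw : e' w ∈ F.M) (hw0 : w ≠ 0) {g : G}
    (hg : ∀ b ∈ F.S F', g * e b * g⁻¹ = e b) : ∃ u, g * g = e u := by
  refine F.cent _ fun v => ?_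
  obtain ⟨b, -, hb'⟩ := F.exists_mul_of_cz F' hd hw hw0 hg v
  rw [show g * g * e v * (g * g)⁻¹ = g * (g * e v * g⁻¹) * g⁻¹ by group,
    F.conj_conj_of_cz F' hd hw hw0 hg hg, hb', ← F.add, F.sq, one_mul]

theorem conj_comm_of_cz {w : W} (hw : e' w ∈ F.M) (hw0 : w ≠ 0) {g h : G}
    (hg : ∀ b ∈ F.S F', g * e b * g⁻¹ = e b) (hh : ∀ b ∈ F.S F', h * e b * h⁻¹ = e b) (v : W) :
    g * (h * e v * h⁻¹) * g⁻¹ = h * (g * e v * g⁻¹) * h⁻¹ := by
  rw [F.conj_conj_of_cz F' hd hw hw0 hg hh, F.conj_conj_of_cz F' hd hw hw0 hh hg]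
  obtain ⟨b, -, hb'⟩ := F.exists_mul_of_cz F' hd hw hw0 hg v
  obtain ⟨c, -, hc'⟩ := F.exists_mul_of_cz F' hd hw hw0 hh v
  rw [hb', hc', ← F.add, ← F.add, F.comm (b + v)]

theorem sq_eq_one {w : W} (hw : e' w ∈ F.M) (hw0 : w ≠ 0) {q : G}
    (h1 : ∀ b ∈ F.S F', q * e b * q⁻¹ = e b) (h2 : ∀ a ∈ F'.S F, q * e' a * q⁻¹ = e' a) :
    q * q = 1 := by
  have h3 := (F.dim_eq F' hd hw hw0).1
  have hpos : 0 < finrank (ZMod 2) W := by
    have : Nontrivial W := ⟨⟨w, 0, hw0⟩⟩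
    exact finrank_pos
  obtain ⟨b, hb, hb0⟩ := eg_exists_notMem (S := ⊥) (T := F.S F') (by
    rw [finrank_bot]; omega)
  obtain ⟨u, hu⟩ := F.exists_sq_eq F' hd hw hw0 h1
  obtain ⟨u', hu'⟩ := F'.exists_sq_eq F (hd.symm' F F') hb (by simpa using hb0) h2
  rw [hu, hd u u' (hu.symm.trans hu'), F.zero]

theorem exists_mul_cz {w : W} (hw : e' w ∈ F.M) (hw0 : w ≠ 0) {c : G}
    (hc : ∀ b ∈ F.S F', c * e b * c⁻¹ = e b) :
    ∃ v, ∀ a ∈ F'.S F, e v * c * e' a * (e v * c)⁻¹ = e' a := by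
  have ha : ∀ a ∈ F'.S F, ∀ b ∈ F.S F', e' a * e b * (e' a)⁻¹ = e b := fun a ha b hb =>
    F.fix_of_mem_S F' hd ha hb
  obtain ⟨b0, hb0, hb00⟩ := eg_exists_notMem (S := ⊥) (T := F.S F') (by
    have h3 := (F.dim_eq F' hd hw hw0).1
    have : Nontrivial W := ⟨⟨w, 0, hw0⟩⟩
    have := finrank_pos (R := ZMod 2) (M := W)
    rw [finrank_bot]; omega)
  have hcM : c ∈ F.M := F.mem_M_of_fix (by simpa using hb00) (hc b0 hb0)
  obtain ⟨u, hu⟩ := F.cent (e' w * c * (e' w)⁻¹ * c⁻¹) fun v => by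
    obtain ⟨v', hv'⟩ := F.mem_M.1 (inv_mem (mul_mem hcM hw)) v
    have e1 : e v = c * (e' w * e v' * (e' w)⁻¹) * c⁻¹ := by rw [← hv']; group
    calc e' w * c * (e' w)⁻¹ * c⁻¹ * e v * (e' w * c * (e' w)⁻¹ * c⁻¹)⁻¹
        = e' w * (c * ((c * e' w)⁻¹ * e v * (c * e' w)⁻¹⁻¹) * c⁻¹) * (e' w)⁻¹ := by group
      _ = e v := by rw [hv', F.conj_comm_of_cz F' hd hw hw0 (ha w hw) hc, ← e1]
  have huS : u ∈ F.S F' := F.mem_S_of_ac F' hw hw0 (F.ac_eq hw (by
    rw [← F.inv u, ← hu]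
    calc e' w * (e' w * c * (e' w)⁻¹ * c⁻¹)⁻¹ * (e' w)⁻¹
        = e' w * c * e' w * c⁻¹ * (e' w * e' w)⁻¹ := by group
      _ = _ := by rw [F'.sq, inv_one, mul_one, hu, F.inv, ← hu, F'.inv]))
  obtain ⟨v, hv⟩ := F.exists_ac_add F' hd hw hw0 huS
  refine ⟨v, fun a haS => ?_⟩
  have hqb : ∀ b ∈ F.S F', e v * c * e b * (e v * c)⁻¹ = e b := fun b hb => by
    rw [show e v * c * e b * (e v * c)⁻¹ = e v * (c * e b * c⁻¹) * (e v)⁻¹ by group, hc b hb,
      F.conj_self]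
  have hq : e' w * (e v * c) * (e' w)⁻¹ = e v * c := by
    have e1 : e' w * c * (e' w)⁻¹ = e u * c := by rw [← hu]; group
    rw [show e' w * (e v * c) * (e' w)⁻¹ = e' w * e v * (e' w)⁻¹ * (e' w * c * (e' w)⁻¹) by group,
      e1, F.ac_spec hw, ← mul_assoc, ← F.add, ← hv, self_add_add]
  have hqM' : e v * c ∈ F'.M := F'.mem_M_of_commute hw0 (mul_inv_eq_iff_eq_mul.1 hq).symm
  have hqM : e v * c ∈ F.M := mul_mem (F.e_mem_M v) hcM
  obtain ⟨a', ha'⟩ := F'.mem_M.1 hqM' a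
  have ha'S : e' a' ∈ F.M := by rw [← ha']; exact mul_mem (mul_mem hqM haS) (inv_mem hqM)
  have hsum : e' (a' + a) ∈ F.M := by rw [F'.add]; exact mul_mem ha'S haS
  have : a' + a = 0 := F.eq_zero_of_ac F' hd hsum fun z => F.ac_eq _ (by
    obtain ⟨z', hz'⟩ := F.mem_M.1 (inv_mem (mul_mem haS hqM)) z
    have e1 : e z = e' a * (e v * c * e z' * (e v * c)⁻¹) * (e' a)⁻¹ := by rw [← hz']; group
    rw [F'.add, ← ha']
    calc e v * c * e' a * (e v * c)⁻¹ * e' a * e z * (e v * c * e' a * (e v * c)⁻¹ * e' a)⁻¹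
        = e v * c * (e' a * ((e v * c)⁻¹ * (e' a * e z * (e' a)⁻¹) * (e v * c)⁻¹⁻¹) * (e' a)⁻¹) *
          (e v * c)⁻¹ := by group
      _ = e v * c * (e' a * ((e' a * (e v * c))⁻¹ * e z * (e' a * (e v * c))⁻¹⁻¹) * (e' a)⁻¹) *
          (e v * c)⁻¹ := by
          rw [mul_inv_rev (e' a), F'.inv, mul_inv_rev _ (e' a), F'.inv]; group
      _ = e z := by rw [hz', F.conj_comm_of_cz F' hd hw hw0 hqb (ha a haS), ← e1])
  rw [ha', add_eq_zero_iff'.1 this]

end E2

/-- abstract form of (H1) -/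
structure HS (P : Pauli K V W) (e s : W → G) : Prop where
  conj : ∀ u v, s u * e v * (s u)⁻¹ = e (v + P.β v u • u)
  sq : ∀ u, s u * s u = e u
  comm : ∀ u w, P.β u w = 0 → s u * s w = s w * s u

theorem HS.he1 {s : W → G} (h : HS P e s) : HE1 P e := fun x d _ hd0 hxd _ => by
  obtain ⟨u, hu, hu'⟩ := P.exists_β_two hd0 hxd.symm
  refine ⟨s u, d + u, ?_, ?_, ?_⟩
  · rw [h.conj, P.β_comm, hu', zero_smul, add_zero]
  · rw [h.conj, P.β_comm, hu, one_smul]
  · rw [P.β_add_left, P.alt, hu, zero_add]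

omit [Finite W] in
theorem HS.mul_mul {s : W → G} (h : HS P e s) (F : Fr P e) (v u v' u' : W) :
    e v * s u * (e v' * s u') = e (v + (v' + P.β v' u • u)) * (s u * s u') := by
  rw [F.add, ← h.conj]; group

/-- (E2) under hypothesis (H1) -/
theorem E2S (F : Fr P e) (F' : Fr P e') (hd : Dis e e') (hW : 3 ≤ finrank (ZMod 2) W)
    {s : W → G} (h : HS P e s) {w : W} (hw : e' w ∈ F.M) : w = 0 := by
  by_contra hw0
  have h2 := (F.dim_eq F' hd hw hw0).1
  have hiso : ∀ b ∈ F.S F', ∀ c ∈ F.S F', P.β b c = 0 := fun b hb c hc => by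
    rw [← F.orth_eq F' hd hw hw0] at hc
    exact P.eg_mem_orth.1 hc b hb
  have hs : ∀ b ∈ F.S F', ∀ c ∈ F.S F', s b * e c * (s b)⁻¹ = e c := fun b hb c hc => by
    rw [h.conj, hiso c hc b hb, zero_smul, add_zero]
  have hq : ∀ b ∈ F.S F', ∃ v, (∀ c ∈ F.S F', e v * s b * e c * (e v * s b)⁻¹ = e c) ∧
      ∀ a ∈ F'.S F, e v * s b * e' a * (e v * s b)⁻¹ = e' a := fun b hb => by
    obtain ⟨v, hv⟩ := F.exists_mul_cz F' hd hw hw0 (hs b hb)
    refine ⟨v, fun c hc => ?_, hv⟩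
    rw [show e v * s b * e c * (e v * s b)⁻¹ = e v * (s b * e c * (s b)⁻¹) * (e v)⁻¹ by group,
      hs b hb c hc, F.conj_self]
  choose! v hv hv' using hq
  have hsq : ∀ b ∈ F.S F', e (v b) * s b * (e (v b) * s b) = 1 := fun b hb =>
    F.sq_eq_one F' hd hw hw0 (hv b hb) (hv' b hb)
  have hone : ∀ b ∈ F.S F', b ≠ 0 → P.β (v b) b = 1 := fun b hb hb0 => by
    have := hsq b hb
    rw [h.mul_mul F, h.sq, ← F.add, self_add_add] at this
    refine zmod2_eq_one fun h0 => hb0 ?_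
    have := F.inj _ this
    rwa [h0, zero_smul, zero_add] at this
  have hzero : ∀ b ∈ F.S F', ∀ c ∈ F.S F', b ≠ 0 → c ≠ 0 → b ≠ c → P.β (v b) c = 0 :=
    fun b hb c hc hb0 hc0 hbc => by
    have h1 := F.sq_eq_one F' hd hw hw0 (q := e (v b) * s b * (e (v c) * s c)) (fun z hz => by
      rw [show ∀ x y t : G, x * y * t * (x * y)⁻¹ = x * (y * t * y⁻¹) * x⁻¹ from fun _ _ _ => by
        group, hv c hc z hz, hv b hb z hz]) (fun z hz => by
      rw [show ∀ x y t : G, x * y * t * (x * y)⁻¹ = x * (y * t * y⁻¹) * x⁻¹ from fun _ _ _ => by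
        group, hv' c hc z hz, hv' b hb z hz])
    have h3 : e (v b) * s b * (e (v c) * s c) = e (v c) * s c * (e (v b) * s b) := by
      rw [← inv_eq_of_mul_eq_one_right h1, mul_inv_rev, inv_eq_of_mul_eq_one_right (hsq b hb),
        inv_eq_of_mul_eq_one_right (hsq c hc)]
    rw [h.mul_mul F, h.mul_mul F, h.comm b c (hiso b hb c hc)] at h3
    have h4 := F.injective (mul_right_cancel h3)
    rw [← add_assoc, ← add_assoc, add_comm (v b)] at h4
    have h5 := add_left_cancel h4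
    refine zmod2_eq_zero fun h1 => ?_
    rw [h1, one_smul] at h5
    rcases zmod2_cases (P.β (v c) b) with h0 | h0
    · rw [h0, zero_smul] at h5; exact hc0 h5.symm
    · rw [h0, one_smul] at h5; exact hbc h5
  obtain ⟨b, hb, hb0, -⟩ := eg_exists_ne_single (T := F.S F') (by omega) 0
  obtain ⟨c, hc, hc0, hcb⟩ := eg_exists_ne_single (T := F.S F') (by omega) b
  have e1 := hzero b hb c hc hb0 hc0 hcb.symm
  have e2 := hzero b hb (b + c) (add_mem hb hc) hb0 (fun h => hcb (add_eq_zero_iff'.1 h).symm)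
    (fun h => hc0 (left_eq_add.1 h))
  rw [P.β_add_right, e1, hone b hb hb0] at e2
  exact absurd e2 (by decide)

/-- strong closure -/
def SC (F : Fr P e) : Prop := ∀ g u, u ≠ 0 → g * e u * g⁻¹ ∈ F.M → g ∈ F.M

theorem sc_of (F : Fr P e) (hW : 3 ≤ finrank (ZMod 2) W) (h1 : HE1 P e)
    (h2 : ∀ g, Dis e (fun w => g * e w * g⁻¹) → ∀ w, g * e w * g⁻¹ ∈ F.M → w = 0) : F.SC := by
  intro g u hu hg
  by_cases hd : Dis e fun w => g * e w * g⁻¹
  · exact absurd (h2 g hd u hg) hu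
  · simp only [Dis, not_forall] at hd
    obtain ⟨x, y, hxy, hx⟩ := hd
    exact fun w => E1 hW F (F.conj g) h1 hx hxy w

theorem SC.exists_eq {F : Fr P e} (h : F.SC) {g : G} {u : W} (hu : u ≠ 0)
    (hg : g * e u * g⁻¹ ∈ F.M) : ∃ v, g * e u * g⁻¹ = e v := h g u hu hg u

section E3

variable [Finite G]

/-- an element of the frame and an element of a different conjugate frame are conjugate in the
dihedral group which they generate -/
theorem SC.exists_conj {F : Fr P e} (h : F.SC) {g : G} (hg : g ∉ F.M) {u v : W} (hu : u ≠ 0)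
    (hv : v ≠ 0) : ∃ σ : G, σ * e v * σ⁻¹ = g * e u * g⁻¹ ∧
      ∀ t, Commute t (e v) → Commute t (g * e u * g⁻¹) → Commute t σ := by
  have hy := (F.conj g).sq u
  rcases Nat.even_or_odd (orderOf (e v * (g * e u * g⁻¹))) with he | ho
  · exfalso
    obtain ⟨w, hw1, -, hwx, hwy, hc⟩ := dih_even (F.sq v) hy he
    have hwM : w * e v ∈ F.M := mul_mem (F.mem_M_of_commute hv hwx) (F.e_mem_M v)
    obtain ⟨z, hz⟩ : ∃ z, w * e v = e z := by
      rcases hc with ⟨⟨j, hj⟩, -⟩ | ⟨⟨j, hj⟩, -⟩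
      · rw [← hj] at hwM ⊢
        exact h.exists_eq hv hwM
      · have : w * e v = j * g * e u * (j * g)⁻¹ := by rw [← hj]; group
        rw [this] at hwM ⊢
        exact h.exists_eq hu hwM
    have hw : w = e (z + v) := by rw [F.add, ← hz, mul_assoc, F.sq, mul_one]
    have h0 : z + v ≠ 0 := fun h0 => hw1 (by rw [hw, h0, F.zero])
    exact hg (h g u hu (F.mem_M_of_commute h0 (hw ▸ hwy.symm)))
  · exact dih_odd (F.sq v) hy ho

theorem SC.mem_M_of_quad {F : Fr P e} (h : F.SC) (hW : 3 ≤ finrank (ZMod 2) W) {Q : W → ZMod 2}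
    (hQ : P.IsQuad Q) (hq : ∀ g u v, g * e u * g⁻¹ = e v → Q u = Q v) (g : G) : g ∈ F.M := by
  by_contra hg
  have key : ∀ u v, u ≠ 0 → v ≠ 0 → Q u = Q v := fun u v hu hv => by
    obtain ⟨σ, h1, -⟩ := h.exists_conj hg hu hu
    obtain ⟨τ, h2, -⟩ := h.exists_conj hg hu hv
    refine hq (τ⁻¹ * σ) u v ?_
    rw [show τ⁻¹ * σ * e u * (τ⁻¹ * σ)⁻¹ = τ⁻¹ * (σ * e u * σ⁻¹) * τ by group, h1, ← h2]; group
  obtain ⟨u, -, hu, -⟩ := eg_exists_ne_single (T := (⊤ : Submodule (ZMod 2) W))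
    (by rw [finrank_top]; omega) 0
  obtain ⟨c, hc0, hcu, hc⟩ := P.eg_exists_perp hW u
  obtain ⟨y, hy⟩ := P.exists_β_eq_one hu
  have hy0 : y ≠ 0 := by rintro rfl; rw [P.β_zero_right] at hy; exact absurd hy (by decide)
  have hyu : u + y ≠ 0 := fun h0 => by
    rw [← add_eq_zero_iff'.1 h0, P.alt] at hy; exact absurd hy (by decide)
  have e1 := key u (u + c) hu fun h0 => hcu (add_eq_zero_iff'.1 h0).symm
  have e2 := key u (u + y) hu hyu
  rw [hQ, hc, ← key u c hu hc0, zmod2_add_self, add_zero] at e1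
  rw [hQ, hy, ← key u y hu hy0, zmod2_add_self, e1] at e2
  exact absurd e2 (by decide)

/-- an involution inducing a transvection normalises no other conjugate frame -/
theorem SC.mem_M_of_special {F : Fr P e} (h : F.SC) (hW : 3 ≤ finrank (ZMod 2) W) {t : G} {u : W}
    (hu : u ≠ 0) (ht : t * t = 1) (hc : ∀ v, t * e v * t⁻¹ = e (v + P.β v u • u)) {g : G}
    (hg : g⁻¹ * t * g ∈ F.M) : g ∈ F.M := by
  by_contra hgM
  obtain ⟨y, hy0, hy⟩ : ∃ y, y ≠ 0 ∧ Commute t (g * e y * g⁻¹) := by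
    have key : ∀ y, F.ac hg y = y → Commute t (g * e y * g⁻¹) := fun y hy => by
      have := F.ac_spec hg y
      rw [hy] at this
      calc t * (g * e y * g⁻¹) = g * (g⁻¹ * t * g * e y * (g⁻¹ * t * g)⁻¹) * g⁻¹ * t := by group
        _ = _ := by rw [this]
    by_cases h0 : F.ac hg u = u
    · exact ⟨u, hu, key u h0⟩
    · refine ⟨F.ac hg u + u, fun h => h0 (add_eq_zero_iff'.1 h), key _ ?_⟩
      have : F.ac hg (F.ac hg u) = u := F.ac_eq hg (by
        rw [← F.ac_spec hg]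
        calc _ = g⁻¹ * (t * t) * g * e u * (g⁻¹ * (t * t) * g)⁻¹ := by group
          _ = e u := by rw [ht]; group)
      rw [map_add, this, add_comm]
  obtain ⟨c, hc0, hcu, hcβ⟩ := P.eg_exists_perp hW u
  obtain ⟨σ, h1, h1'⟩ := h.exists_conj hgM hy0 hu
  obtain ⟨τ, h2, h2'⟩ := h.exists_conj hgM hy0 hc0
  have hcom : ∀ v, P.β u v = 0 → Commute t (e v) := fun v hv => by
    have := hc v
    rw [P.β_comm, hv, zero_smul, add_zero] at this
    exact mul_inv_eq_iff_eq_mul.1 this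
  have hk : Commute t (τ⁻¹ * σ) := (h2' t (hcom c hcβ) hy).inv_right.mul_right
    (h1' t (hcom u (P.alt u)) hy)
  have hku : τ⁻¹ * σ * e u * (τ⁻¹ * σ)⁻¹ = e c := by
    rw [show τ⁻¹ * σ * e u * (τ⁻¹ * σ)⁻¹ = τ⁻¹ * (σ * e u * σ⁻¹) * τ by group, h1, ← h2]; group
  generalize τ⁻¹ * σ = k at hk hku
  have hkM : k ∈ F.M := h k u hu (hku ▸ F.e_mem_M c)
  obtain ⟨v, hv⟩ := P.exists_β_eq_one hu
  have e1 : k * (t * e v * t⁻¹) * k⁻¹ = t * (k * e v * k⁻¹) * t⁻¹ := by
    calc k * (t * e v * t⁻¹) * k⁻¹ = (k * t) * e v * (k * t)⁻¹ := by group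
      _ = _ := by rw [← hk.eq]; group
  rw [hc, F.ac_spec hkM, F.ac_spec hkM, hc, P.β_comm v, hv, one_smul, map_add,
    F.ac_eq hkM hku] at e1
  have e2 := add_left_cancel (F.injective e1)
  rcases zmod2_cases (P.β (F.ac hkM v) u) with h0 | h0
  · rw [h0, zero_smul] at e2; exact hc0 e2
  · rw [h0, one_smul] at e2; exact hcu e2

theorem SC.mem_M_of_invol {F : Fr P e} (h : F.SC) (hW : 3 ≤ finrank (ZMod 2) W) {t : G} {u : W}
    (hu : u ≠ 0) (ht : t * t = 1) (hc : ∀ v, t * e v * t⁻¹ = e (v + P.β v u • u)) (g : G) :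
    g ∈ F.M := by
  by_contra hg
  have htM : t ∈ F.M := fun v => ⟨_, hc v⟩
  have hy := (F.conj g).sq u
  have hcent : ∀ t' : G, t' * t' = 1 → (∀ v, t' * e v * t'⁻¹ = e (v + P.β v u • u)) →
      ∀ k, Commute k t' → k ∈ F.M := fun t' h1 h2 k hk =>
    h.mem_M_of_special hW hu h1 h2 (by
      rw [mul_assoc, ← hk.eq, inv_mul_cancel_left]; exact fun v => ⟨_, h2 v⟩)
  rcases Nat.even_or_odd (orderOf (t * (g * e u * g⁻¹))) with he | ho
  · obtain ⟨w, hw1, hww, hwt, hwy, hcs⟩ := dih_even ht hy he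
    have hwM : w ∈ F.M := hcent t ht hc w hwt
    rcases hcs with ⟨-, j, hj⟩ | ⟨⟨j, hj⟩, -⟩
    · have e1 : g⁻¹ * j * g * e u * (g⁻¹ * j * g)⁻¹ = g⁻¹ * w * g * e u := by
        calc _ = g⁻¹ * (j * (g * e u * g⁻¹) * j⁻¹) * g := by group
          _ = _ := by rw [hj]; group
      have h1 : g⁻¹ * w * g ∈ F.M := F.mem_conj_M.1 ((F.conj g).mem_M_of_commute hu hwy)
      obtain ⟨z, hz⟩ := h.exists_eq hu (e1 ▸ mul_mem h1 (F.e_mem_M u))
      have hw : w = g * e (z + u) * g⁻¹ := by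
        rw [F.add, ← hz, e1, mul_assoc _ (e u), F.sq]; group
      exact hg (h g (z + u) (fun h0 => hw1 (by rw [hw, h0, F.zero]; group)) (hw ▸ hwM))
    · have e1 : j * g * e u * (j * g)⁻¹ = w * t := by rw [← hj]; group
      obtain ⟨z, hz⟩ := h.exists_eq hu (e1 ▸ mul_mem hwM htM)
      have hw : w = e z * t := by rw [← hz, e1, mul_assoc, ht, mul_one]
      refine hg (h g u hu (hcent w hww (fun v => ?_) _ hwy.symm))
      rw [hw, show e z * t * e v * (e z * t)⁻¹ = e z * (t * e v * t⁻¹) * (e z)⁻¹ by group, hc,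
        F.conj_self]
  · obtain ⟨σ, h1, -⟩ := dih_odd ht hy ho
    have e1 : σ⁻¹ * g * e u * (σ⁻¹ * g)⁻¹ = t := by
      calc _ = σ⁻¹ * (g * e u * g⁻¹) * σ := by group
        _ = t := by rw [← h1]; group
    obtain ⟨z, hz⟩ := h.exists_eq hu (e1 ▸ htM)
    obtain ⟨v, hv⟩ := P.exists_β_eq_one hu
    have := hc v
    rw [← e1, hz, F.conj_self, P.β_comm, hv, one_smul] at this
    exact hu (left_eq_add.1 (F.injective this))

/-- the abstract endgame under (H1) -/
theorem mem_M_of_HS (F : Fr P e) (hW : 3 ≤ finrank (ZMod 2) W) {s : W → G} (h : HS P e s)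
    (g : G) : g ∈ F.M := by
  have hsc : F.SC := F.sc_of hW h.he1 fun g hd w hw => E2S F (F.conj g) hd hW h hw
  obtain ⟨u, -, hu, -⟩ := eg_exists_ne_single (T := (⊤ : Submodule (ZMod 2) W))
    (by rw [finrank_top]; omega) 0
  obtain ⟨v, hv⟩ := P.exists_β_eq_one hu
  refine hsc.mem_M_of_invol hW (t := e v * s u) hu ?_ (fun z => ?_) g
  · rw [h.mul_mul F, h.sq, ← F.add, self_add_add, P.β_comm, hv, one_smul, add_self, F.zero]
  · rw [show e v * s u * e z * (e v * s u)⁻¹ = e v * (s u * e z * (s u)⁻¹) * (e v)⁻¹ by group,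
      h.conj, F.conj_self]

/-- the abstract endgame with an invariant quadratic form -/
theorem mem_M_of_quad (F : Fr P e) (hW : 3 ≤ finrank (ZMod 2) W) (h1 : HE1 P e) {Q : W → ZMod 2}
    (hQ : P.IsQuad Q) (hq : ∀ g u v, g * e u * g⁻¹ = e v → Q u = Q v) (g : G) : g ∈ F.M :=
  (F.sc_of hW h1 fun g hd _ hw => E2Q F (F.conj g) hd hW hQ hq hw).mem_M_of_quad hW hQ hq g

end E3

end Fr

namespace Pauli

variable (P : Pauli K V W) (X : Subgroup (V ≃ₗ[K] V))

/-- the scalars in `X` -/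
def Zs (X : Subgroup (V ≃ₗ[K] V)) : Subgroup X := (sc V : Kˣ →* V ≃ₗ[K] V).range.comap X.subtype

instance zs_normal : (Zs X).Normal := ⟨fun n ⟨c, hc⟩ g => ⟨c, by
  change sc V c = g.1 * n.1 * g.1⁻¹
  rw [← show sc V c = n.1 from hc, conj_sc]⟩⟩

theorem mk_eq_iff {g h : X} :
    (g : X ⧸ Zs X) = (h : X ⧸ Zs X) ↔ ∃ c, g.1 = sc V c * h.1 := by
  rw [eq_comm, QuotientGroup.eq]
  refine exists_congr fun c => ?_
  change sc V c = h.1⁻¹ * g.1 ↔ _
  rw [eq_inv_mul_iff_mul_eq, sc_comm, eq_comm]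

variable {X}

/-- the image of `ρ u` in `X / scalars` -/
def eb (hR : P.R ≤ X) (u : W) : X ⧸ Zs X := (⟨P.ρ u, hR (P.ρ_mem_R u)⟩ : X)

theorem conj_eb_iff (hR : P.R ≤ X) (g : X) (u v : W) :
    (g : X ⧸ Zs X) * P.eb hR u * (g : X ⧸ Zs X)⁻¹ = P.eb hR v ↔
      ∃ c, g.1 * P.ρ u * g.1⁻¹ = sc V c * P.ρ v := by
  rw [eb, eb, ← QuotientGroup.mk_inv, ← QuotientGroup.mk_mul, ← QuotientGroup.mk_mul, mk_eq_iff]
  rfl

theorem eg_mem_N_of_conj {g : V ≃ₗ[K] V} (hR : P.R ≤ X) (hC : P.CentN X) (hg : g ∈ X) {u : W}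
    (hu : u ≠ 0) {c : Kˣ} (h : g * P.ρ u * g⁻¹ = sc V c * P.ρ u) : g ∈ P.N := by
  obtain ⟨a, w, ha⟩ := P.exists_sg_of_conj_mem (g := g) (u := u) ⟨c, u, h⟩
  obtain ⟨rfl, -⟩ := P.eq_of_sc_ρ (h.symm.trans ha)
  rcases zmod2_cases a with rfl | rfl
  · rw [sg_zero, map_one, one_mul] at ha
    exact hC u hu g hg (mul_inv_eq_iff_eq_mul.1 ha)
  · obtain ⟨y, hy⟩ := P.exists_β_eq_one hu
    have : P.ρ y * g ∈ P.N := hC u hu _ (mul_mem (hR (P.ρ_mem_R y)) hg) (by
      refine mul_inv_eq_iff_eq_mul.1 ?_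
      rw [show P.ρ y * g * P.ρ u * (P.ρ y * g)⁻¹ = P.ρ y * (g * P.ρ u * g⁻¹) * (P.ρ y)⁻¹ by group,
        ha, conj_sc_mul, P.conj_ρ, P.β_comm, hy, ← mul_assoc, ← map_mul, sg_mul_self, map_one,
        one_mul])
    simpa using mul_mem (inv_mem (P.R_le_N (P.ρ_mem_R y))) this

theorem fr [Finite W] (hR : P.R ≤ X) (hC : P.CentN X) : Fr P (P.eb hR) where
  add u v := by
    obtain ⟨c, hc⟩ := P.mul u v
    rw [eb, eb, eb, ← QuotientGroup.mk_mul, eq_comm, mk_eq_iff]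
    exact ⟨c, hc⟩
  inj u h := by
    obtain ⟨c, hc⟩ := (mk_eq_iff X).1 (h.trans (QuotientGroup.mk_one _).symm)
    exact P.eq_zero_of_sc_ρ (c := 1) (d := c) (by simpa using hc)
  cent g h := by
    obtain ⟨g, rfl⟩ := QuotientGroup.mk_surjective g
    obtain ⟨c, u, hu⟩ := P.mem_R_of_forall fun v => (P.conj_eb_iff hR g v v).1 (h v)
    exact ⟨u, (mk_eq_iff X).2 ⟨c, hu⟩⟩
  norm u hu g h v := by
    obtain ⟨g, rfl⟩ := QuotientGroup.mk_surjective g
    obtain ⟨c, hc⟩ := (P.conj_eb_iff hR g u u).1 h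
    obtain ⟨a, ha⟩ := P.act_spec ⟨g.1, P.eg_mem_N_of_conj hR hC g.2 hu hc⟩ v
    exact ⟨_, (P.conj_eb_iff hR g _ _).2 ⟨_, ha⟩⟩
  symp g u v u' v' h h' := by
    obtain ⟨g, rfl⟩ := QuotientGroup.mk_surjective g
    obtain ⟨c, hc⟩ := (P.conj_eb_iff hR g _ _).1 h
    obtain ⟨c', hc'⟩ := (P.conj_eb_iff hR g _ _).1 h'
    exact P.β_of_conj hc hc'

theorem le_N_of_forall [Finite W] (hR : P.R ≤ X) (hC : P.CentN X)
    (h : ∀ g, g ∈ (P.fr hR hC).M) : X ≤ P.N := fun g hg =>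
  P.mem_N_of_forall fun u => by
    obtain ⟨w, hw⟩ := (P.fr hR hC).mem_M.1 (h ((⟨g, hg⟩ : X) : X ⧸ Zs X)) u
    obtain ⟨c, hc⟩ := (P.conj_eb_iff hR _ _ _).1 hw
    exact ⟨c, w, hc⟩

/-- **Endgame under (H1)**, finite `X`. -/
theorem endgame1' [Finite W] [Finite X] (hW : 3 ≤ finrank (ZMod 2) W) (h : P.H1 X)
    (hC : P.CentN X) : X ≤ P.N := by
  refine P.le_N_of_forall h.1 hC ((P.fr h.1 hC).mem_M_of_HS hW
    (s := fun u => ((⟨P.s u, h.2 u⟩ : X) : X ⧸ Zs X)) ⟨fun u v => ?_, fun u => ?_, fun u w hw => ?_⟩)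
  · exact (P.conj_eb_iff h.1 _ _ _).2 (P.s_conj_ρ' u v)
  · rw [← QuotientGroup.mk_mul, eb]
    exact congrArg _ (Subtype.ext (P.s_mul_s u))
  · rw [← QuotientGroup.mk_mul, ← QuotientGroup.mk_mul]
    exact congrArg _ (Subtype.ext (P.commute_s_s hw).eq)

/-- **Endgame under (H2)**, finite `X`: `Q` is invariant under `X`-fusion, and two consistent
linear conditions always have a solution with `Q = 1`. -/
theorem endgame2'' [Finite W] [Finite X] (hW : 3 ≤ finrank (ZMod 2) W) {Q : W → ZMod 2}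
    (hQ : P.IsQuad Q) (h : P.H2 {u | Q u = 1} X)
    (hq : ∀ g ∈ X, ∀ u v c, g * P.ρ u * g⁻¹ = sc V c * P.ρ v → Q u = Q v)
    (hN : ∀ a x d, ∃ v, Q v = 1 ∧ P.β v x = P.β a x ∧ P.β v d = P.β a d)
    (hC : P.CentN X) : X ≤ P.N := by
  refine P.le_N_of_forall h.1 hC ((P.fr h.1 hC).mem_M_of_quad hW (fun x d _ hd0 hxd _ => ?_) hQ
    fun g u v hg => ?_)
  · obtain ⟨y, hy, hy'⟩ := P.exists_β_two hd0 hxd.symm
    obtain ⟨a, ha, hax, had⟩ := hN y x d
    obtain ⟨b, hb, hbx, hbd⟩ := hN 0 x d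
    rw [P.β_zero_left] at hbx hbd
    rw [hy'] at hax
    rw [hy] at had
    have key : ∀ z, P.β b z = 0 → ∃ c, P.s a * (P.s b)⁻¹ * P.ρ z * (P.s a * (P.s b)⁻¹)⁻¹ =
        sc V c * P.ρ (z + P.β z a • a) := fun z hz => by
      have h1 : Commute (P.ρ z) (P.s b) := P.commute_ρ_s (by rw [P.β_comm, hz])
      rw [show P.s a * (P.s b)⁻¹ * P.ρ z * (P.s a * (P.s b)⁻¹)⁻¹ =
        P.s a * ((P.s b)⁻¹ * (P.ρ z * P.s b)) * (P.s a)⁻¹ by group, h1.eq, inv_mul_cancel_left]
      exact P.s_conj_ρ' a z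
    refine ⟨((⟨_, h.2 a ha b hb⟩ : X) : X ⧸ Zs X), d + a, ?_, ?_, ?_⟩
    · have := key x hbx
      rw [P.β_comm x, hax, zero_smul, add_zero] at this
      exact (P.conj_eb_iff h.1 _ _ _).2 this
    · have := key d hbd
      rw [P.β_comm d, had, one_smul] at this
      exact (P.conj_eb_iff h.1 _ _ _).2 this
    · rw [P.β_add_left, P.alt, had, zero_add]
  · obtain ⟨g, rfl⟩ := QuotientGroup.mk_surjective g
    obtain ⟨c, hc⟩ := (P.conj_eb_iff h.1 g _ _).1 hg
    exact hq g.1 g.2 u v c hc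

/-- **Endgame under (H2)**, finite `X`, `dim W ≥ 5`. -/
theorem endgame2' [Finite W] [Finite X] (hW : 5 ≤ finrank (ZMod 2) W) {Q : W → ZMod 2}
    (hQ : P.IsQuad Q) (h : P.H2 {u | Q u = 1} X)
    (hq : ∀ g ∈ X, ∀ u v c, g * P.ρ u * g⁻¹ = sc V c * P.ρ v → Q u = Q v)
    (hC : P.CentN X) : X ≤ P.N :=
  P.endgame2'' (by omega) hQ h hq (P.eg_exists_Q_eq_one hW hQ) hC

end Pauli

theorem eg_finite_linearEquiv [Finite K] [FiniteDimensional K V] : Finite (V ≃ₗ[K] V) :=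
  haveI : Finite V := Module.finite_of_finite K
  Finite.of_injective (fun g : V ≃ₗ[K] V => (g : V → V)) DFunLike.coe_injective

/-- **Endgame under (H1).** -/
theorem endgame1 [Finite K] [FiniteDimensional K V] [Finite W] (P : Pauli K V W)
    (hW : 3 ≤ finrank (ZMod 2) W) {X : Subgroup (V ≃ₗ[K] V)} (h : P.H1 X) (hC : P.CentN X) :
    X ≤ P.N :=
  haveI := eg_finite_linearEquiv (K := K) (V := V)
  P.endgame1' hW h hC

/-- **Endgame under (H2).** -/
theorem endgame2 [Finite K] [FiniteDimensional K V] [Finite W] (P : Pauli K V W)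
    (hW : 5 ≤ finrank (ZMod 2) W) {Q : W → ZMod 2} (hQ : P.IsQuad Q) {X : Subgroup (V ≃ₗ[K] V)}
    (h : P.H2 {u | Q u = 1} X)
    (hq : ∀ g ∈ X, ∀ u v c, g * P.ρ u * g⁻¹ = sc V c * P.ρ v → Q u = Q v)
    (hC : P.CentN X) : X ≤ P.N :=
  haveI := eg_finite_linearEquiv (K := K) (V := V)
  P.endgame2' hW hQ h hq hC

end Cfsg.Lib.Class.C6
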