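import Mathlib

/-!
# Pauli systems (groups `4 ∘ 2^{1+2m}` times scalars) and their normalisers

`Pauli K V W`: `W` is a symplectic space over `ZMod 2`, `ρ u` are involutions of `V` which multiply
projectively and span `End V`.  `P.R` is the group of all `c • ρ u`, `P.N` its normaliser,
`P.s u` the square root of `ρ u` with eigenvalues `1, i`, `P.act` the action of `N` on `W`.
-/

namespace Cfsg.Lib.Class.C6

open Module

variable {K V W : Type*} [Field K] [AddCommGroup V] [Module K V] [AddCommGroup W]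
  [Module (ZMod 2) W]

/-- scalar maps -/
def sc (V : Type*) [AddCommGroup V] [Module K V] : Kˣ →* (V ≃ₗ[K] V) :=
  DistribMulAction.toModuleAut K V

@[simp] theorem sc_apply (c : Kˣ) (v : V) : sc V c v = (c : K) • v := rfl

theorem sc_comm (c : Kˣ) (g : V ≃ₗ[K] V) : g * sc V c = sc V c * g := by
  ext v; simp [LinearEquiv.mul_apply]

theorem commute_sc (c : Kˣ) (g : V ≃ₗ[K] V) : Commute g (sc V c) := sc_comm c g

theorem conj_sc (c : Kˣ) (g : V ≃ₗ[K] V) : g * sc V c * g⁻¹ = sc V c := by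
  rw [sc_comm, mul_inv_cancel_right]

theorem sc_mul_sc_mul (c d : Kˣ) (g h : V ≃ₗ[K] V) :
    sc V c * g * (sc V d * h) = sc V (c * d) * (g * h) := by
  rw [map_mul, mul_assoc, ← mul_assoc g, sc_comm d g]; simp only [mul_assoc]

theorem conj_sc_mul (c : Kˣ) (g h : V ≃ₗ[K] V) :
    g * (sc V c * h) * g⁻¹ = sc V c * (g * h * g⁻¹) := by
  rw [← mul_assoc, sc_comm c g]; simp only [mul_assoc]

theorem sc_injective [Nontrivial V] : Function.Injective (sc (K := K) V) := by
  intro c d h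
  obtain ⟨v, hv⟩ := exists_ne (0 : V)
  have := congrArg (fun g : V ≃ₗ[K] V => g v) h
  simp only [sc_apply] at this
  exact Units.ext (smul_left_injective K hv this)

theorem zmod2_cases (a : ZMod 2) : a = 0 ∨ a = 1 := by revert a; decide

theorem zmod2_eq_one {a : ZMod 2} (h : a ≠ 0) : a = 1 := (zmod2_cases a).resolve_left h

theorem zmod2_eq_zero {a : ZMod 2} (h : a ≠ 1) : a = 0 := (zmod2_cases a).resolve_right h

theorem zmod2_add_self (a : ZMod 2) : a + a = 0 := by revert a; decide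

theorem zmod2_mul_self (a : ZMod 2) : a * a = a := by revert a; decide

theorem add_self (u : W) : u + u = 0 := by
  rw [← two_smul (ZMod 2) u, show (2 : ZMod 2) = 0 from rfl, zero_smul]

theorem add_eq_zero_iff' {u v : W} : u + v = 0 ↔ u = v := by
  constructor
  · intro h
    rw [← add_zero u, ← add_self v, ← add_assoc, h, zero_add]
  · rintro rfl; exact add_self u

theorem add_add_self (u v : W) : u + v + v = u := by rw [add_assoc, add_self, add_zero]

theorem self_add_add (u v : W) : u + (u + v) = v := by rw [← add_assoc, add_self, zero_add]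

/-- the sign `(-1)^a` -/
def sg (K : Type*) [Field K] (a : ZMod 2) : Kˣ := if a = 0 then 1 else -1

@[simp] theorem sg_zero : sg K 0 = 1 := if_pos rfl

@[simp] theorem sg_one : sg K 1 = -1 := if_neg (by decide)

theorem sg_add (a b : ZMod 2) : sg K (a + b) = sg K a * sg K b := by
  rcases zmod2_cases a with rfl | rfl <;> rcases zmod2_cases b with rfl | rfl <;>
    simp [show (1 : ZMod 2) + 1 = 0 from rfl]

theorem sg_mul_self (a : ZMod 2) : sg K a * sg K a = 1 := by
  rw [← sg_add, zmod2_add_self, sg_zero]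

theorem sg_val_mul_self (a : ZMod 2) : (sg K a : K) * sg K a = 1 := by
  rw [← Units.val_mul, sg_mul_self, Units.val_one]

theorem sg_inv (a : ZMod 2) : (sg K a)⁻¹ = sg K a := inv_eq_of_mul_eq_one_right (sg_mul_self a)

theorem neg_one_ne_one_of_two (h : (2 : K) ≠ 0) : (-1 : Kˣ) ≠ 1 := by
  intro e
  have : ((-1 : Kˣ) : K) = 1 := by rw [e]; rfl
  apply h
  rw [Units.val_neg, Units.val_one] at this
  linear_combination -this

theorem sg_injective (h : (2 : K) ≠ 0) : Function.Injective (sg K) := by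
  intro a b e
  rcases zmod2_cases a with rfl | rfl <;> rcases zmod2_cases b with rfl | rfl
  · rfl
  · simp only [sg_zero, sg_one] at e; exact absurd e.symm (neg_one_ne_one_of_two h)
  · simp only [sg_zero, sg_one] at e; exact absurd e (neg_one_ne_one_of_two h)
  · rfl

theorem exists_sg_of_mul_self {c : Kˣ} (h : c * c = 1) : ∃ a, c = sg K a := by
  have : (c : K) * c = 1 := by rw [← Units.val_mul, h, Units.val_one]
  rcases mul_self_eq_one_iff.1 this with e | e
  · exact ⟨0, Units.ext (by simpa using e)⟩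
  · exact ⟨1, Units.ext (by simpa using e)⟩

/-- A Pauli system on `V` indexed by the symplectic `F₂`-space `W`. -/
structure Pauli (K V W : Type*) [Field K] [AddCommGroup V] [Module K V] [AddCommGroup W]
    [Module (ZMod 2) W] where
  β : LinearMap.BilinForm (ZMod 2) W
  alt : ∀ u, β u u = 0
  nondeg : ∀ u, (∀ v, β u v = 0) → u = 0
  i : Kˣ
  i_sq : i * i = -1
  two : (2 : K) ≠ 0
  ρ : W → V ≃ₗ[K] V
  zero : ρ 0 = 1
  sq : ∀ u, ρ u * ρ u = 1
  mul : ∀ u v, ∃ c : Kˣ, ρ u * ρ v = sc V c * ρ (u + v)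
  comm : ∀ u v, ρ u * ρ v = sc V (sg K (β u v)) * (ρ v * ρ u)
  span : ∀ f : V →ₗ[K] V, f ∈ Submodule.span K (Set.range fun u => (ρ u : V →ₗ[K] V))
  nontriv : Nontrivial V

/-- `a + b g` for an involution `g`, with inverse `a' + b' g` -/
def lin2 (g : V ≃ₗ[K] V) (hg : g * g = 1) (a b a' b' : K) (h1 : a * a' + b * b' = 1)
    (h2 : a * b' + b * a' = 0) : V ≃ₗ[K] V where
  toFun v := a • v + b • g v
  invFun v := a' • v + b' • g v
  map_add' x y := by simp only [map_add]; module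
  map_smul' c x := by simp only [map_smul, RingHom.id_apply]; module
  left_inv v := by
    have : g (g v) = v := by rw [← LinearEquiv.mul_apply, hg]; rfl
    simp only [map_add, map_smul, this]
    match_scalars
    · linear_combination h1
    · linear_combination h2
  right_inv v := by
    have : g (g v) = v := by rw [← LinearEquiv.mul_apply, hg]; rfl
    simp only [map_add, map_smul, this]
    match_scalars
    · linear_combination h1
    · linear_combination h2

namespace Pauli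

variable (P : Pauli K V W)

theorem β_comm (u v : W) : P.β u v = P.β v u := by
  have h := P.alt (u + v)
  simp only [map_add, LinearMap.add_apply, P.alt, zero_add, add_zero] at h
  have := zmod2_add_self (P.β v u)
  linear_combination h - this

theorem β_add_left (u v w : W) : P.β (u + v) w = P.β u w + P.β v w := by
  rw [map_add, LinearMap.add_apply]

theorem β_add_right (u v w : W) : P.β u (v + w) = P.β u v + P.β u w := map_add _ _ _

theorem β_zero_left (w : W) : P.β 0 w = 0 := by simp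

theorem β_zero_right (w : W) : P.β w 0 = 0 := by simp

theorem exists_β_eq_one {u : W} (hu : u ≠ 0) : ∃ y, P.β u y = 1 := by
  by_contra h
  push Not at h
  exact hu (P.nondeg u fun v => zmod2_eq_zero (h v))

theorem eq_of_β {u v : W} (h : ∀ w, P.β u w = P.β v w) : u = v :=
  add_eq_zero_iff'.1 (P.nondeg _ fun w => by rw [P.β_add_left, h, zmod2_add_self])

theorem exists_β_eq_dual [Finite W] (f : W →ₗ[ZMod 2] ZMod 2) : ∃ w, ∀ u, P.β w u = f u := by
  have hinj : Function.Injective (P.β : W →ₗ[ZMod 2] Dual (ZMod 2) W) := fun u v h =>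
    P.eq_of_β fun w => by rw [h]
  have hsurj : Function.Surjective (P.β : W →ₗ[ZMod 2] Dual (ZMod 2) W) :=
    (LinearMap.injective_iff_surjective_of_finrank_eq_finrank (Subspace.dual_finrank_eq).symm).1
      hinj
  obtain ⟨w, hw⟩ := hsurj f
  exact ⟨w, fun u => by rw [hw]⟩

theorem exists_β_eq_sub [Finite W] (S : Submodule (ZMod 2) W) (f : S →ₗ[ZMod 2] ZMod 2) :
    ∃ w, ∀ u : S, P.β w u = f u := by
  obtain ⟨g, hg⟩ := LinearMap.exists_extend f
  obtain ⟨w, hw⟩ := P.exists_β_eq_dual g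
  exact ⟨w, fun u => by rw [hw, ← hg]; rfl⟩

theorem exists_β_of_notMem [Finite W] {S : Submodule (ZMod 2) W} {a : W} (ha : a ∉ S) :
    ∃ y, P.β y a = 1 ∧ ∀ s ∈ S, P.β y s = 0 := by
  obtain ⟨g, hg, hga⟩ := LinearMap.exists_extend_of_notMem (0 : S →ₗ[ZMod 2] ZMod 2) ha 1
  obtain ⟨w, hw⟩ := P.exists_β_eq_dual g
  refine ⟨w, by rw [hw, hga], fun s hs => ?_⟩
  rw [hw]
  exact LinearMap.congr_fun hg ⟨s, hs⟩

theorem exists_β_two [Finite W] {a u : W} (h0 : a ≠ 0) (h1 : a ≠ u) :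
    ∃ y, P.β y a = 1 ∧ P.β y u = 0 := by
  have : a ∉ Submodule.span (ZMod 2) {u} := by
    rw [Submodule.mem_span_singleton]
    rintro ⟨c, hc⟩
    rcases zmod2_cases c with rfl | rfl
    · exact h0 (by simpa using hc.symm)
    · exact h1 (by simpa using hc.symm)
  obtain ⟨y, hy, hy'⟩ := P.exists_β_of_notMem this
  exact ⟨y, hy, hy' _ (Submodule.mem_span_singleton_self u)⟩

theorem exists_β_three [Finite W] {a u c : W} (h0 : a ≠ 0) (h1 : a ≠ u) (h2 : a ≠ c)
    (h3 : a ≠ u + c) : ∃ y, P.β y a = 1 ∧ P.β y u = 0 ∧ P.β y c = 0 := by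
  have : a ∉ Submodule.span (ZMod 2) {u, c} := by
    rw [Submodule.mem_span_pair]
    rintro ⟨d, e, hc⟩
    rcases zmod2_cases d with rfl | rfl <;> rcases zmod2_cases e with rfl | rfl
    · exact h0 (by simpa using hc.symm)
    · exact h2 (by simpa using hc.symm)
    · exact h1 (by simpa using hc.symm)
    · exact h3 (by simpa using hc.symm)
  obtain ⟨y, hy, hy'⟩ := P.exists_β_of_notMem this
  exact ⟨y, hy, hy' _ (Submodule.subset_span (by simp)), hy' _ (Submodule.subset_span (by simp))⟩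

theorem i_mul_i : (P.i : K) * P.i = -1 := by
  rw [← Units.val_mul, P.i_sq]; simp

include P in
theorem sc_inj {c d : Kˣ} (h : sc V c = sc V d) : c = d :=
  haveI := P.nontriv
  sc_injective h

theorem ρ_inv (u : W) : (P.ρ u)⁻¹ = P.ρ u := inv_eq_of_mul_eq_one_right (P.sq u)

@[simp] theorem ρ_ρ (u : W) (v : V) : P.ρ u (P.ρ u v) = v := by
  rw [← LinearEquiv.mul_apply, P.sq]; rfl

theorem ρ_ρ_comm (u w : W) (v : V) :
    P.ρ u (P.ρ w v) = (sg K (P.β u w) : K) • P.ρ w (P.ρ u v) := by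
  rw [← LinearEquiv.mul_apply, P.comm]; rfl

theorem commute_ρ {u w : W} (h : P.β u w = 0) : Commute (P.ρ u) (P.ρ w) := by
  have := P.comm u w
  rwa [h, sg_zero, map_one, one_mul] at this

theorem conj_ρ (u w : W) : P.ρ u * P.ρ w * (P.ρ u)⁻¹ = sc V (sg K (P.β u w)) * P.ρ w := by
  rw [P.comm, mul_assoc, mul_inv_cancel_right]

theorem β_eq_zero_of_commute {u w : W} (h : Commute (P.ρ u) (P.ρ w)) : P.β u w = 0 := by
  have h1 := P.comm u w
  rw [h.eq] at h1
  have : sc V (sg K (P.β u w)) = sc V (sg K 0) := by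
    rw [sg_zero, map_one]; exact (mul_right_cancel (h1.symm.trans (one_mul _).symm))
  exact sg_injective P.two (P.sc_inj this)

theorem eq_of_sc_ρ {c d : Kˣ} {u v : W} (h : sc V c * P.ρ u = sc V d * P.ρ v) :
    u = v ∧ c = d := by
  have huv : u = v := by
    refine P.eq_of_β fun w => ?_
    have h1 := congrArg (fun g => P.ρ w * g * (P.ρ w)⁻¹) h
    simp only [conj_sc_mul, P.conj_ρ] at h1
    rw [← mul_assoc, ← mul_assoc, sc_comm _ (sc V c), sc_comm _ (sc V d), mul_assoc, mul_assoc,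
      h] at h1
    rw [P.β_comm u, P.β_comm v]
    exact sg_injective P.two (P.sc_inj (mul_right_cancel h1))
  subst huv
  exact ⟨rfl, P.sc_inj (mul_right_cancel h)⟩

theorem eq_zero_of_sc_ρ {c d : Kˣ} {u : W} (h : sc V c * P.ρ u = sc V d) : u = 0 :=
  (P.eq_of_sc_ρ (v := 0) (by rw [h, P.zero, mul_one])).1

theorem mul_self_of_sq {c : Kˣ} {u : W} (h : sc V c * P.ρ u * (sc V c * P.ρ u) = 1) :
    c * c = 1 := by
  rw [sc_mul_sc_mul, P.sq, mul_one] at h
  exact P.sc_inj (h.trans (map_one _).symm)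

theorem mul_of_β_zero {u v : W} (h : P.β u v = 0) :
    ∃ a, P.ρ u * P.ρ v = sc V (sg K a) * P.ρ (u + v) := by
  obtain ⟨c, hc⟩ := P.mul u v
  have : c * c = 1 := P.mul_self_of_sq (u := u + v) (by
    rw [← hc, mul_assoc, ← mul_assoc (P.ρ v), ← (P.commute_ρ h).eq, mul_assoc, P.sq, mul_one, P.sq])
  obtain ⟨a, rfl⟩ := exists_sg_of_mul_self this
  exact ⟨a, hc⟩

/-- Schur's lemma for a Pauli system -/
theorem schur (f : V →ₗ[K] V) (h : ∀ u v, f (P.ρ u v) = P.ρ u (f v)) :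
    ∃ c : K, ∀ v, f v = c • v := by
  have : f ∈ Set.center (End K V) := by
    rw [Semigroup.mem_center_iff]
    intro g
    have hg := P.span g
    induction hg using Submodule.span_induction with
    | mem x hx =>
      obtain ⟨u, rfl⟩ := hx
      ext v
      exact (h u v).symm
    | zero => simp
    | add x y _ _ hx hy => rw [add_mul, mul_add, hx, hy]
    | smul a x _ hx => rw [smul_mul_assoc, mul_smul_comm, hx]
  obtain ⟨c, hc0, hc⟩ := Module.End.mem_center_iff.1 this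
  exact ⟨c, fun v => by rw [hc]; rfl⟩

theorem schur' {g : V ≃ₗ[K] V} (h : ∀ u, Commute g (P.ρ u)) : ∃ c : Kˣ, g = sc V c := by
  obtain ⟨c, hc⟩ := P.schur (g : V →ₗ[K] V) fun u v => by
    have := congrArg (fun k : V ≃ₗ[K] V => k v) (h u).eq
    exact this
  have := P.nontriv
  obtain ⟨v, hv⟩ := exists_ne (0 : V)
  have hc0 : c ≠ 0 := by
    rintro rfl
    exact hv (g.map_eq_zero_iff.1 (by simpa using hc v))
  exact ⟨Units.mk0 c hc0, LinearEquiv.ext fun v => hc v⟩

/-- the group of all scalar multiples of the `ρ u` -/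
def R : Subgroup (V ≃ₗ[K] V) where
  carrier := {g | ∃ c u, g = sc V c * P.ρ u}
  one_mem' := ⟨1, 0, by rw [map_one, P.zero, mul_one]⟩
  mul_mem' := by
    rintro _ _ ⟨c, u, rfl⟩ ⟨d, v, rfl⟩
    obtain ⟨e, he⟩ := P.mul u v
    exact ⟨c * d * e, u + v, by rw [sc_mul_sc_mul, he, ← mul_assoc, ← map_mul]⟩
  inv_mem' := by
    rintro _ ⟨c, u, rfl⟩
    exact ⟨c⁻¹, u, by rw [mul_inv_rev, P.ρ_inv, ← map_inv, sc_comm]⟩

theorem mem_R {g : V ≃ₗ[K] V} : g ∈ P.R ↔ ∃ c u, g = sc V c * P.ρ u := Iff.rfl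

theorem ρ_mem_R (u : W) : P.ρ u ∈ P.R := ⟨1, u, by rw [map_one, one_mul]⟩

theorem sc_mem_R (c : Kˣ) : sc V c ∈ P.R := ⟨c, 0, by rw [P.zero, mul_one]⟩

/-- the normaliser of `R` -/
def N : Subgroup (V ≃ₗ[K] V) := Subgroup.normalizer (P.R : Set (V ≃ₗ[K] V))

theorem R_le_N : P.R ≤ P.N := Subgroup.le_normalizer

theorem conj_mem_R {g r : V ≃ₗ[K] V} (hg : g ∈ P.N) (hr : r ∈ P.R) : g * r * g⁻¹ ∈ P.R :=
  (Subgroup.mem_normalizer_iff.1 hg r).1 hr

theorem exists_sg_of_conj_mem {g : V ≃ₗ[K] V} {u : W} (h : g * P.ρ u * g⁻¹ ∈ P.R) :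
    ∃ a w, g * P.ρ u * g⁻¹ = sc V (sg K a) * P.ρ w := by
  obtain ⟨c, w, hc⟩ := h
  have : c * c = 1 := P.mul_self_of_sq (u := w) (by
    rw [← hc]
    calc g * P.ρ u * g⁻¹ * (g * P.ρ u * g⁻¹) = g * (P.ρ u * P.ρ u) * g⁻¹ := by group
      _ = 1 := by rw [P.sq]; group)
  obtain ⟨a, rfl⟩ := exists_sg_of_mul_self this
  exact ⟨a, w, hc⟩

theorem eq_of_conj {g : V ≃ₗ[K] V} {u u' w : W} {c c' : Kˣ}
    (h : g * P.ρ u * g⁻¹ = sc V c * P.ρ w) (h' : g * P.ρ u' * g⁻¹ = sc V c' * P.ρ w) : u = u' := by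
  refine (P.eq_of_sc_ρ (c := c') (d := c) ?_).1
  have e : P.ρ u = g⁻¹ * (sc V c * P.ρ w) * g⁻¹⁻¹ := by rw [← h]; group
  have e' : P.ρ u' = g⁻¹ * (sc V c' * P.ρ w) * g⁻¹⁻¹ := by rw [← h']; group
  rw [e, e', conj_sc_mul, conj_sc_mul, ← mul_assoc (sc V c'), ← mul_assoc (sc V c) (sc V c'),
    sc_comm c (sc V c')]

theorem mem_N_of_forall [Finite W] {g : V ≃ₗ[K] V} (h : ∀ u, g * P.ρ u * g⁻¹ ∈ P.R) :
    g ∈ P.N := by
  choose c f hf using h
  have hinj : Function.Injective f := fun u u' e => P.eq_of_conj (hf u) (by rw [e]; exact hf u')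
  have hsurj := Finite.surjective_of_injective hinj
  rw [N, Subgroup.mem_normalizer_iff]
  intro r
  constructor
  · rintro ⟨d, u, rfl⟩
    rw [conj_sc_mul, hf]
    exact mul_mem (P.sc_mem_R _) ⟨_, _, rfl⟩
  · rintro ⟨d, w, hw⟩
    obtain ⟨u, rfl⟩ := hsurj w
    refine ⟨d * (c u)⁻¹, u, ?_⟩
    have : g * r * g⁻¹ = g * (sc V (d * (c u)⁻¹) * P.ρ u) * g⁻¹ := by
      rw [conj_sc_mul, hf, hw, ← mul_assoc, ← map_mul, inv_mul_cancel_right]
    exact mul_left_cancel (mul_right_cancel this)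

/-- the vector of `g ρ u g⁻¹` -/
noncomputable def actF (g : P.N) (u : W) : W :=
  (P.exists_sg_of_conj_mem (P.conj_mem_R g.2 (P.ρ_mem_R u))).choose_spec.choose

theorem actF_spec (g : P.N) (u : W) :
    ∃ a, g.1 * P.ρ u * g.1⁻¹ = sc V (sg K a) * P.ρ (P.actF g u) :=
  ⟨_, (P.exists_sg_of_conj_mem (P.conj_mem_R g.2 (P.ρ_mem_R u))).choose_spec.choose_spec⟩

theorem actF_eq (g : P.N) {u w : W} {c : Kˣ} (h : g.1 * P.ρ u * g.1⁻¹ = sc V c * P.ρ w) :
    P.actF g u = w := by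
  obtain ⟨a, ha⟩ := P.actF_spec g u
  exact (P.eq_of_sc_ρ (ha.symm.trans h)).1

theorem conj_add {g : V ≃ₗ[K] V} {u u' w w' : W} {c c' : Kˣ}
    (h : g * P.ρ u * g⁻¹ = sc V c * P.ρ w) (h' : g * P.ρ u' * g⁻¹ = sc V c' * P.ρ w') :
    ∃ d, g * P.ρ (u + u') * g⁻¹ = sc V d * P.ρ (w + w') := by
  obtain ⟨e, he⟩ := P.mul u u'
  obtain ⟨e', he'⟩ := P.mul w w'
  refine ⟨e⁻¹ * (c * c' * e'), ?_⟩
  have : P.ρ (u + u') = sc V e⁻¹ * (P.ρ u * P.ρ u') := by rw [he, map_inv, inv_mul_cancel_left]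
  rw [this, conj_sc_mul, show g * (P.ρ u * P.ρ u') * g⁻¹ = g * P.ρ u * g⁻¹ * (g * P.ρ u' * g⁻¹) by
    group, h, h', sc_mul_sc_mul, he']
  simp only [map_mul, mul_assoc]

theorem β_of_conj {g : V ≃ₗ[K] V} {u u' w w' : W} {c c' : Kˣ}
    (h : g * P.ρ u * g⁻¹ = sc V c * P.ρ w) (h' : g * P.ρ u' * g⁻¹ = sc V c' * P.ρ w') :
    P.β w w' = P.β u u' := by
  have e := congrArg (fun k => g * k * g⁻¹) (P.comm u u')
  simp only [conj_sc_mul] at e
  rw [show g * (P.ρ u * P.ρ u') * g⁻¹ = g * P.ρ u * g⁻¹ * (g * P.ρ u' * g⁻¹) by group,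
    show g * (P.ρ u' * P.ρ u) * g⁻¹ = g * P.ρ u' * g⁻¹ * (g * P.ρ u * g⁻¹) by group, h, h',
    sc_mul_sc_mul, sc_mul_sc_mul, P.comm w w', ← mul_assoc, ← mul_assoc, ← mul_assoc (sc V _),
    ← mul_assoc (sc V _ * _), ← map_mul, ← map_mul, mul_comm c' c, mul_comm (sg K _)] at e
  exact sg_injective P.two (mul_left_cancel (P.sc_inj (mul_right_cancel (mul_right_cancel e))))

theorem actF_mul (g h : P.N) (u : W) : P.actF (g * h) u = P.actF g (P.actF h u) := by
  obtain ⟨a, ha⟩ := P.actF_spec h u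
  obtain ⟨b, hb⟩ := P.actF_spec g (P.actF h u)
  refine P.actF_eq (c := sg K a * sg K b) _ ?_
  rw [Subgroup.coe_mul, show g.1 * h.1 * P.ρ u * (g.1 * h.1)⁻¹ = g.1 * (h.1 * P.ρ u * h.1⁻¹) * g.1⁻¹ by
    group, ha, conj_sc_mul, hb, map_mul, mul_assoc]

theorem actF_one (u : W) : P.actF 1 u = u := P.actF_eq (c := 1) _ (by simp)

theorem actF_add (g : P.N) (u v : W) : P.actF g (u + v) = P.actF g u + P.actF g v := by
  obtain ⟨a, ha⟩ := P.actF_spec g u
  obtain ⟨b, hb⟩ := P.actF_spec g v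
  obtain ⟨d, hd⟩ := P.conj_add ha hb
  exact P.actF_eq _ hd

/-- the action of the normaliser on `W` -/
noncomputable def act : P.N →* (W ≃ₗ[ZMod 2] W) where
  toFun g :=
    { toFun := P.actF g
      invFun := P.actF g⁻¹
      map_add' := P.actF_add g
      map_smul' := fun c u => by
        rcases zmod2_cases c with rfl | rfl
        · simp only [zero_smul, RingHom.id_apply]
          exact P.actF_eq (c := 1) _ (by simp [P.zero])
        · simp
      left_inv := fun u => by rw [← P.actF_mul, inv_mul_cancel, P.actF_one]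
      right_inv := fun u => by rw [← P.actF_mul, mul_inv_cancel, P.actF_one] }
  map_one' := LinearEquiv.ext P.actF_one
  map_mul' g h := LinearEquiv.ext (P.actF_mul g h)

theorem act_spec (g : P.N) (u : W) :
    ∃ a, g.1 * P.ρ u * g.1⁻¹ = sc V (sg K a) * P.ρ (P.act g u) := P.actF_spec g u

theorem act_eq (g : P.N) {u w : W} {c : Kˣ} (h : g.1 * P.ρ u * g.1⁻¹ = sc V c * P.ρ w) :
    P.act g u = w := P.actF_eq g h

theorem β_act (g : P.N) (u v : W) : P.β (P.act g u) (P.act g v) = P.β u v := by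
  obtain ⟨a, ha⟩ := P.act_spec g u
  obtain ⟨b, hb⟩ := P.act_spec g v
  exact P.β_of_conj ha hb

theorem act_of_mem_R (g : P.N) (hg : g.1 ∈ P.R) (u : W) : P.act g u = u := by
  obtain ⟨c, w, hw⟩ := hg
  refine P.act_eq (c := sg K (P.β w u)) g ?_
  rw [hw, mul_inv_rev, ← map_inv, ← P.conj_ρ, mul_assoc (sc V c), ← mul_assoc, sc_comm c⁻¹]
  simp only [mul_assoc, map_inv, inv_mul_cancel_left]

/-- an element which centralises the `ρ u`, `u ∈ S`, up to scalars does so like some `ρ w` -/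
theorem exists_commute_sub [Finite W] (S : Submodule (ZMod 2) W) {g : V ≃ₗ[K] V}
    (h : ∀ u ∈ S, ∃ c, g * P.ρ u * g⁻¹ = sc V c * P.ρ u) :
    ∃ w, ∀ u ∈ S, Commute (P.ρ w * g) (P.ρ u) := by
  have h' : ∀ u : S, ∃ a, g * P.ρ u * g⁻¹ = sc V (sg K a) * P.ρ u := fun u => by
    obtain ⟨c, hc⟩ := h u u.2
    obtain ⟨a, w, ha⟩ := P.exists_sg_of_conj_mem (g := g) (u := u) ⟨c, u, hc⟩
    obtain ⟨rfl, -⟩ := P.eq_of_sc_ρ (hc.symm.trans ha)
    exact ⟨a, ha⟩
  choose χ hχ using h'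
  have hadd : ∀ u v : S, χ (u + v) = χ u + χ v := fun u v => by
    obtain ⟨e, he⟩ := P.mul u v
    have e1 := hχ (u + v)
    have : P.ρ (u + v) = sc V e⁻¹ * (P.ρ u * P.ρ v) := by rw [he, map_inv, inv_mul_cancel_left]
    rw [Submodule.coe_add, this, conj_sc_mul,
      show g * (P.ρ u * P.ρ v) * g⁻¹ = g * P.ρ u * g⁻¹ * (g * P.ρ v * g⁻¹) by group, hχ, hχ,
      sc_mul_sc_mul, ← mul_assoc, ← mul_assoc (sc V (sg K _)), sc_comm _ (sc V e⁻¹), ← sg_add] at e1
    exact (sg_injective P.two (P.sc_inj (mul_right_cancel (mul_right_cancel e1)))).symm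
  let f : S →ₗ[ZMod 2] ZMod 2 :=
    { toFun := χ
      map_add' := hadd
      map_smul' := fun c u => by
        rcases zmod2_cases c with rfl | rfl
        · have := hadd 0 0
          rw [add_zero, zmod2_add_self] at this
          simpa using this
        · simp }
  obtain ⟨w, hw⟩ := P.exists_β_eq_sub S f
  refine ⟨w, fun u hu => ?_⟩
  have e1 : g * P.ρ u = sc V (sg K (χ ⟨u, hu⟩)) * P.ρ u * g := by
    rw [← hχ ⟨u, hu⟩]; simp
  have e2 : P.β w u = χ ⟨u, hu⟩ := hw ⟨u, hu⟩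
  change P.ρ w * g * P.ρ u = P.ρ u * (P.ρ w * g)
  rw [mul_assoc, e1, ← mul_assoc, ← mul_assoc, sc_comm, mul_assoc (sc V _), P.comm w u, e2,
    ← mul_assoc, ← map_mul, sg_mul_self, map_one, one_mul, mul_assoc]

theorem mem_R_of_forall [Finite W] {g : V ≃ₗ[K] V}
    (h : ∀ u, ∃ c, g * P.ρ u * g⁻¹ = sc V c * P.ρ u) : g ∈ P.R := by
  obtain ⟨w, hw⟩ := P.exists_commute_sub ⊤ fun u _ => h u
  obtain ⟨c, hc⟩ := P.schur' fun u => hw u trivial
  have : g = P.ρ w * sc V c := by rw [← hc, ← mul_assoc, P.sq, one_mul]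
  rw [this]
  exact mul_mem (P.ρ_mem_R w) (P.sc_mem_R c)

theorem act_eq_one_iff [Finite W] (g : P.N) : P.act g = 1 ↔ g.1 ∈ P.R := by
  constructor
  · intro h
    refine P.mem_R_of_forall fun u => ?_
    obtain ⟨a, ha⟩ := P.act_spec g u
    rw [h] at ha
    exact ⟨_, ha⟩
  · intro h
    exact LinearEquiv.ext (P.act_of_mem_R g h)

/-- `(1+i)/2` -/
def α : K := (1 + P.i) / 2

/-- `(1-i)/2` -/
def α' : K := (1 - P.i) / 2

theorem α_add : P.α + P.α' = 1 := by
  have := P.two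
  simp only [α, α']; field_simp; ring

theorem α_sub : P.α - P.α' = P.i := by
  have := P.two
  simp only [α, α']; field_simp; ring

theorem two_α_mul : P.α * P.α' + P.α' * P.α = 1 := by
  have := P.two
  have h := P.i_mul_i
  simp only [α, α']; field_simp; linear_combination (-2) * h

theorem α_sq_add : P.α * P.α + P.α' * P.α' = 0 := by
  have := P.two
  have h := P.i_mul_i
  simp only [α, α']; field_simp; linear_combination 2 * h

theorem i_mul_α' : (P.i : K) * P.α' = P.α := by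
  have := P.two
  have h := P.i_mul_i
  simp only [α, α']; field_simp; linear_combination -h

theorem i_mul_α : (P.i : K) * P.α = -P.α' := by
  have := P.two
  have h := P.i_mul_i
  simp only [α, α']; field_simp; linear_combination h

theorem α_ne_zero : P.α ≠ 0 := fun h => by
  have := P.two_α_mul; rw [h] at this; simp at this

theorem α'_ne_zero : P.α' ≠ 0 := fun h => by
  have := P.two_α_mul; rw [h] at this; simp at this

/-- the square root of `ρ u` with eigenvalues `1` and `i` -/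
def s (u : W) : V ≃ₗ[K] V :=
  lin2 (P.ρ u) (P.sq u) P.α P.α' P.α' P.α P.two_α_mul P.α_sq_add

theorem s_apply (u : W) (v : V) : P.s u v = P.α • v + P.α' • P.ρ u v := rfl

theorem s_inv_apply (u : W) (v : V) : (P.s u)⁻¹ v = P.α' • v + P.α • P.ρ u v := rfl

theorem s_zero : P.s 0 = 1 := by
  ext v
  rw [s_apply, P.zero, LinearEquiv.coe_one, id, ← add_smul, P.α_add, one_smul]

theorem s_mul_s (u : W) : P.s u * P.s u = P.ρ u := by
  ext v
  simp only [LinearEquiv.mul_apply, s_apply, map_add, map_smul, ρ_ρ]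
  match_scalars
  · linear_combination P.α_sq_add
  · linear_combination P.two_α_mul

theorem s_inv (u : W) : (P.s u)⁻¹ = P.ρ u * P.s u := by
  rw [inv_eq_iff_mul_eq_one, ← P.s_mul_s, ← mul_assoc, ← mul_assoc, mul_assoc, P.s_mul_s, P.sq]

theorem commute_s_of_commute {g : V ≃ₗ[K] V} {u : W} (h : Commute g (P.ρ u)) :
    Commute g (P.s u) := by
  ext v
  have := congrArg (fun k : V ≃ₗ[K] V => k v) h.eq
  simp only [LinearEquiv.mul_apply] at this
  simp only [LinearEquiv.mul_apply, s_apply, map_add, map_smul, this]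

theorem commute_ρ_s {u w : W} (h : P.β u w = 0) : Commute (P.ρ u) (P.s w) :=
  P.commute_s_of_commute (P.commute_ρ h)

theorem commute_s_s {u w : W} (h : P.β u w = 0) : Commute (P.s u) (P.s w) :=
  P.commute_s_of_commute (P.commute_ρ_s (by rw [P.β_comm, h])).symm

theorem conj_s_pos {g : V ≃ₗ[K] V} {u w : W} (h : g * P.ρ u * g⁻¹ = P.ρ w) :
    g * P.s u * g⁻¹ = P.s w := by
  ext v
  simp only [LinearEquiv.mul_apply, s_apply, map_add, map_smul, ← h]
  simp

theorem i_ρ_s_apply (w : W) (v : V) :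
    (sc V P.i * P.ρ w * P.s w) v = P.α • v - P.α' • P.ρ w v := by
  simp only [LinearEquiv.mul_apply, s_apply, map_add, map_smul, ρ_ρ, sc_apply]
  match_scalars
  · linear_combination P.i_mul_α
  · linear_combination P.i_mul_α'

theorem conj_s_neg {g : V ≃ₗ[K] V} {u w : W} (h : g * P.ρ u * g⁻¹ = sc V (-1) * P.ρ w) :
    g * P.s u * g⁻¹ = sc V P.i * P.ρ w * P.s w := by
  ext v
  have := congrArg (fun k : V ≃ₗ[K] V => k v) h
  simp only [LinearEquiv.mul_apply, sc_apply, Units.val_neg, Units.val_one, neg_smul,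
    one_smul] at this
  rw [i_ρ_s_apply]
  simp only [LinearEquiv.mul_apply, s_apply, map_add, map_smul, this]
  simp [sub_eq_add_neg]

theorem ρ_conj_s {u w : W} (h : P.β w u = 1) :
    P.ρ w * P.s u * (P.ρ w)⁻¹ = sc V P.i * P.ρ u * P.s u :=
  P.conj_s_neg (by rw [P.conj_ρ, h, sg_one])

theorem s_conj_ρ {u w : W} (h : P.β w u = 1) :
    P.s u * P.ρ w * (P.s u)⁻¹ = sc V P.i * (P.ρ w * P.ρ u) := by
  have e := P.ρ_conj_s h
  have e' : P.s u * P.ρ w = P.ρ w * (sc V P.i * P.ρ u * P.s u) := by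
    rw [← e, P.ρ_inv, ← mul_assoc, ← mul_assoc, P.sq, one_mul]
  rw [e', ← mul_assoc, mul_inv_cancel_right, ← mul_assoc, sc_comm, mul_assoc]

theorem s_conj_ρ' (u w : W) :
    ∃ c, P.s u * P.ρ w * (P.s u)⁻¹ = sc V c * P.ρ (w + P.β w u • u) := by
  rcases zmod2_cases (P.β w u) with h | h
  · refine ⟨1, ?_⟩
    rw [h, zero_smul, add_zero, ← (P.commute_ρ_s h).eq, map_one, one_mul, mul_inv_cancel_right]
  · obtain ⟨c, hc⟩ := P.mul w u
    refine ⟨P.i * c, ?_⟩
    rw [P.s_conj_ρ h, h, one_smul, hc, map_mul, mul_assoc]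

theorem s_mem_N [Finite W] (u : W) : P.s u ∈ P.N :=
  P.mem_N_of_forall fun w => by
    obtain ⟨c, hc⟩ := P.s_conj_ρ' u w
    exact ⟨c, _, hc⟩

theorem act_s [Finite W] (u w : W) : P.act ⟨P.s u, P.s_mem_N u⟩ w = w + P.β w u • u := by
  obtain ⟨c, hc⟩ := P.s_conj_ρ' u w
  exact P.act_eq _ hc

/-- conjugation of `s u` by an element of the normaliser -/
theorem conj_s (g : P.N) (u : W) :
    g.1 * P.s u * g.1⁻¹ = P.s (P.act g u) ∨
      g.1 * P.s u * g.1⁻¹ = sc V P.i * P.ρ (P.act g u) * P.s (P.act g u) := by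
  obtain ⟨a, ha⟩ := P.act_spec g u
  rcases zmod2_cases a with rfl | rfl
  · exact Or.inl (P.conj_s_pos (by rwa [sg_zero, map_one, one_mul] at ha))
  · exact Or.inr (P.conj_s_neg (by rwa [sg_one] at ha))

/-- hypothesis (H1): all `s u` lie in `X` -/
def H1 (X : Subgroup (V ≃ₗ[K] V)) : Prop := P.R ≤ X ∧ ∀ u, P.s u ∈ X

/-- `Q` is a quadratic form with polar form `β` -/
def IsQuad (Q : W → ZMod 2) : Prop := ∀ u v, Q (u + v) = Q u + Q v + P.β u v

/-- hypothesis (H2): the `s a (s b)⁻¹` with `a, b` in the admissible set lie in `X` -/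
def H2 (A : Set W) (X : Subgroup (V ≃ₗ[K] V)) : Prop :=
  P.R ≤ X ∧ ∀ a ∈ A, ∀ b ∈ A, P.s a * (P.s b)⁻¹ ∈ X

/-- the hypothesis of the endgame: centralisers of the `ρ u`, `u ≠ 0`, normalise `R` -/
def CentN (X : Subgroup (V ≃ₗ[K] V)) : Prop :=
  ∀ u ≠ 0, ∀ g ∈ X, Commute g (P.ρ u) → g ∈ P.N

end Pauli

end Cfsg.Lib.Class.C6
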