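import Cfsg.Agent.Class.C6.Beta

/-!
# Restriction of a Pauli system to the fixed space of `ρ u`
-/

namespace Cfsg.Lib.Class.C6

open Module

universe u v

variable {K V W : Type*} [Field K] [AddCommGroup V] [Module K V] [AddCommGroup W]
  [Module (ZMod 2) W]

namespace Pauli

variable (P : Pauli K V W)

/-- the orthogonal complement of the hyperbolic pair `u, y` -/
def W1 (u y : W) : Submodule (ZMod 2) W := LinearMap.ker (P.β u) ⊓ LinearMap.ker (P.β y)

theorem mem_W1 {u y w : W} : w ∈ P.W1 u y ↔ P.β u w = 0 ∧ P.β y w = 0 := Iff.rfl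

theorem proj_mem_W1 {u y : W} (hy : P.β u y = 1) (w : W) :
    w + P.β u w • y + P.β y w • u ∈ P.W1 u y := by
  rw [mem_W1]
  simp only [map_add, map_smul, smul_eq_mul, P.alt, hy, P.β_comm y u, mul_one, mul_zero, add_zero,
    zmod2_add_self, and_self]

theorem finrank_W1 [Finite W] {u y : W} (hy : P.β u y = 1) :
    finrank (ZMod 2) (P.W1 u y) + 2 = finrank (ZMod 2) W := by
  let f : W →ₗ[ZMod 2] (ZMod 2 × ZMod 2) := (P.β u).prod (P.β y)
  have h1 := f.finrank_range_add_finrank_ker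
  have h2 : LinearMap.range f = ⊤ := by
    rw [LinearMap.range_eq_top]
    rintro ⟨a, b⟩
    refine ⟨a • y + b • u, ?_⟩
    simp [f, hy, P.alt, P.β_comm y u]
  have h3 : LinearMap.ker f = P.W1 u y := LinearMap.ker_prod _ _
  rw [h2, h3, finrank_top] at h1
  simp only [finrank_prod, finrank_self] at h1
  omega

/-- restriction to an eigenspace of `ρ u` of an element commuting with `ρ u` -/
def resE {u : W} (ε : ZMod 2) (g : V ≃ₗ[K] V) (hg : Commute g (P.ρ u)) :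
    P.Ve u ε ≃ₗ[K] P.Ve u ε where
  toFun v := ⟨g v, map_mem_Ve hg v.2⟩
  invFun v := ⟨g⁻¹ v, map_mem_Ve hg.inv_left v.2⟩
  map_add' x y := Subtype.ext (by simp)
  map_smul' c x := Subtype.ext (by simp)
  left_inv v := Subtype.ext (inv_apply_apply g v)
  right_inv v := Subtype.ext (apply_inv_apply g v)

@[simp] theorem resE_apply {u : W} (ε : ZMod 2) (g : V ≃ₗ[K] V) (hg : Commute g (P.ρ u))
    (v : P.Ve u ε) : (P.resE ε g hg v : V) = g v := rfl

/-- the projection onto an eigenspace of `ρ u` -/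
def proj (u : W) (ε : ZMod 2) : V →ₗ[K] P.Ve u ε :=
  LinearMap.codRestrict _ ((2 : K)⁻¹ • (LinearMap.id + (sg K ε : K) • (P.ρ u : V →ₗ[K] V)))
    fun v => Submodule.smul_mem _ _ (P.add_smul_ρ_mem_Ve u ε v)

theorem proj_apply (u : W) (ε : ZMod 2) (v : V) :
    (P.proj u ε v : V) = (2 : K)⁻¹ • (v + (sg K ε : K) • P.ρ u v) := rfl

theorem proj_of_mem {u : W} {ε : ZMod 2} {v : V} (hv : v ∈ P.Ve u ε) : (P.proj u ε v : V) = v := by
  rw [proj_apply, P.mem_Ve.1 hv, smul_smul, sg_val_mul_self, one_smul, ← two_smul K, smul_smul,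
    inv_mul_cancel₀ P.two, one_smul]

theorem proj_coe {u : W} {ε : ZMod 2} (v : P.Ve u ε) : P.proj u ε v = v :=
  Subtype.ext (P.proj_of_mem v.2)

theorem proj_of_mem' {u : W} {ε : ZMod 2} {v : V} (hv : v ∈ P.Ve u (ε + 1)) : P.proj u ε v = 0 := by
  refine Subtype.ext ?_
  rw [proj_apply, P.mem_Ve.1 hv, smul_smul, sg_add, sg_one, mul_neg_one, Units.val_neg, mul_neg,
    sg_val_mul_self]
  simp

theorem proj_add_proj (u : W) (v : V) : (P.proj u 0 v : V) + P.proj u 1 v = v := by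
  have := P.two
  simp only [proj_apply, sg_zero, sg_one, Units.val_one, Units.val_neg]
  match_scalars <;> field_simp <;> ring

theorem exists_W1 {u y w : W} (hy : P.β u y = 1) (hw : P.β u w = 0) (ε : ZMod 2) :
    ∃ (t : P.W1 u y) (c : Kˣ), ∀ v ∈ P.Ve u ε, P.ρ w v = (c : K) • P.ρ t v := by
  have h := P.proj_mem_W1 hy w
  rw [hw, zero_smul, add_zero] at h
  rcases zmod2_cases (P.β y w) with e | e
  · exact ⟨⟨w, hw, e⟩, 1, fun v _ => by simp⟩
  · rw [e, one_smul] at h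
    obtain ⟨c, hc⟩ := P.mul w u
    refine ⟨⟨_, h⟩, sg K ε * c, fun v hv => ?_⟩
    have := congrArg (fun g : V ≃ₗ[K] V => g v) hc
    simp only [LinearEquiv.mul_apply, sc_apply] at this
    rw [Units.val_mul, mul_smul, ← this, P.mem_Ve.1 hv, map_smul, smul_smul, sg_val_mul_self,
      one_smul]

/-- the restricted Pauli system -/
def res {u y : W} (hy : P.β u y = 1) (ε : ZMod 2) : Pauli K (P.Ve u ε) (P.W1 u y) where
  β := P.β.restrict (P.W1 u y)
  alt w := P.alt w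
  nondeg w h := Subtype.ext (P.nondeg _ fun v => by
    have := h ⟨_, P.proj_mem_W1 hy v⟩
    change P.β w (v + P.β u v • y + P.β y v • u) = 0 at this
    simpa [P.β_comm w y, P.β_comm w u, w.2.1, w.2.2, (P.mem_W1.1 w.2).1, (P.mem_W1.1 w.2).2]
      using this)
  i := P.i
  i_sq := P.i_sq
  two := P.two
  ρ w := P.resE ε (P.ρ w) (P.commute_ρ (by rw [P.β_comm]; exact w.2.1))
  zero := LinearEquiv.ext fun v => Subtype.ext (by simp [P.zero])
  sq w := LinearEquiv.ext fun v => Subtype.ext (by simp [LinearEquiv.mul_apply])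
  mul w w' := by
    obtain ⟨c, hc⟩ := P.mul w w'
    exact ⟨c, LinearEquiv.ext fun v => Subtype.ext (congrArg (fun g : V ≃ₗ[K] V => g v) hc)⟩
  comm w w' := LinearEquiv.ext fun v => Subtype.ext (P.ρ_ρ_comm w w' v)
  span f := by
    let Φ : (V →ₗ[K] V) →ₗ[K] (P.Ve u ε →ₗ[K] P.Ve u ε) :=
      (LinearMap.llcomp K _ _ _ (P.proj u ε)) ∘ₗ (LinearMap.lcomp K V (P.Ve u ε).subtype)
    have hΦ : ∀ h v, Φ h v = P.proj u ε (h v) := fun _ _ => rfl
    have e : f = Φ ((P.Ve u ε).subtype ∘ₗ f ∘ₗ P.proj u ε) := by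
      ext v
      simp [hΦ, proj_coe]
    rw [e]
    refine Submodule.span_induction (p := fun h _ => Φ h ∈ _) ?_ ?_ ?_ ?_
      (P.span ((P.Ve u ε).subtype ∘ₗ f ∘ₗ P.proj u ε))
    · rintro _ ⟨w, rfl⟩
      rcases zmod2_cases (P.β u w) with hw | hw
      · obtain ⟨t, c, ht⟩ := P.exists_W1 hy hw ε
        refine Submodule.mem_span.2 fun S hS => ?_
        convert S.smul_mem (c : K) (hS ⟨t, rfl⟩) using 1
        ext v
        simp only [hΦ, LinearEquiv.coe_coe, LinearMap.smul_apply, Submodule.coe_smul, resE_apply]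
        rw [P.proj_of_mem (ρ_mem_Ve' v.2 hw), ht v v.2]
      · convert Submodule.zero_mem _ using 1
        ext v
        rw [hΦ, LinearEquiv.coe_coe, P.proj_of_mem' (hw ▸ ρ_mem_Ve v.2 w)]
        rfl
    · rw [map_zero]; exact Submodule.zero_mem _
    · intro a b _ _ ha hb
      rw [map_add]; exact Submodule.add_mem _ ha hb
    · intro c a _ ha
      rw [map_smul]; exact Submodule.smul_mem _ _ ha
  nontriv := by
    obtain ⟨z, hz, hz0⟩ := P.exists_ne_Ve (u := u) (by rintro rfl; simp at hy) ε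
    exact ⟨⟨z, hz⟩, 0, fun e => hz0 (congrArg Subtype.val e)⟩

theorem res_ρ_apply {u y : W} (hy : P.β u y = 1) (ε : ZMod 2) (w : P.W1 u y) (v : P.Ve u ε) :
    ((P.res hy ε).ρ w v : V) = P.ρ w v := rfl

theorem res_s_apply {u y : W} (hy : P.β u y = 1) (ε : ZMod 2) (w : P.W1 u y) (v : P.Ve u ε) :
    ((P.res hy ε).s w v : V) = P.s w v := rfl

theorem res_β {u y : W} (hy : P.β u y = 1) (ε : ZMod 2) (w w' : P.W1 u y) :
    (P.res hy ε).β w w' = P.β w w' := rfl

theorem res_i {u y : W} (hy : P.β u y = 1) (ε : ZMod 2) : (P.res hy ε).i = P.i := rfl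

/-- the group induced on an eigenspace of `ρ u` by the centraliser of `ρ u` in `X` -/
def resX (X : Subgroup (V ≃ₗ[K] V)) (u : W) (ε : ZMod 2) :
    Subgroup (P.Ve u ε ≃ₗ[K] P.Ve u ε) where
  carrier := {k | ∃ g ∈ X, Commute g (P.ρ u) ∧ ∀ v, (k v : V) = g v}
  one_mem' := ⟨1, one_mem _, Commute.one_left _, fun _ => rfl⟩
  mul_mem' := by
    rintro a b ⟨g, hg, hc, e⟩ ⟨g', hg', hc', e'⟩
    exact ⟨g * g', mul_mem hg hg', hc.mul_left hc', fun v => by
      rw [LinearEquiv.mul_apply, LinearEquiv.mul_apply, e, e']⟩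
  inv_mem' := by
    rintro a ⟨g, hg, hc, e⟩
    refine ⟨g⁻¹, inv_mem hg, hc.inv_left, fun v => g.injective ?_⟩
    rw [← e, apply_inv_apply, apply_inv_apply]

theorem mem_resX {X : Subgroup (V ≃ₗ[K] V)} {u : W} {ε : ZMod 2} {k : P.Ve u ε ≃ₗ[K] P.Ve u ε} :
    k ∈ P.resX X u ε ↔ ∃ g ∈ X, Commute g (P.ρ u) ∧ ∀ v, (k v : V) = g v := Iff.rfl

theorem resE_mem_resX {X : Subgroup (V ≃ₗ[K] V)} {u : W} (ε : ZMod 2) {g : V ≃ₗ[K] V} (hg : g ∈ X)
    (hc : Commute g (P.ρ u)) : P.resE ε g hc ∈ P.resX X u ε := ⟨g, hg, hc, fun _ => rfl⟩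

variable {P} {X : Subgroup (V ≃ₗ[K] V)}

theorem res_R_le (hR : P.R ≤ X) {u y : W} (hy : P.β u y = 1) (ε : ZMod 2) :
    (P.res hy ε).R ≤ P.resX X u ε := by
  rintro _ ⟨c, w, rfl⟩
  exact ⟨sc V c * P.ρ w, hR ⟨c, w, rfl⟩,
    (commute_sc c _).symm.mul_left (P.commute_ρ (by rw [P.β_comm]; exact w.2.1)), fun _ => rfl⟩

theorem H1.res (h : P.H1 X) {u y : W} (hy : P.β u y = 1) (ε : ZMod 2) :
    (P.res hy ε).H1 (P.resX X u ε) :=
  ⟨res_R_le h.1 hy ε, fun w => ⟨P.s w, h.2 w, (P.commute_ρ_s w.2.1).symm, fun _ => rfl⟩⟩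

theorem loc_at {u y : W} (hy : P.β u y = 1) (h : P.resX X u 0 ≤ (P.res hy 0).N) {g : V ≃ₗ[K] V}
    (hg : g ∈ X) (hc : Commute g (P.ρ u)) (w : W) (hw : P.β u w = 0) :
    ∃ r ∈ P.R, ∀ v ∈ P.Ve u 0, g (P.ρ w v) = r (g v) := by
  obtain ⟨t, c, ht⟩ := P.exists_W1 hy hw 0
  obtain ⟨d, t', e⟩ := (P.res hy 0).conj_mem_R (h (P.resE_mem_resX 0 hg hc)) ((P.res hy 0).ρ_mem_R t)
  refine ⟨sc V (c * d) * P.ρ t', ⟨_, _, rfl⟩, fun v hv => ?_⟩
  have := congrArg (fun k : P.Ve u 0 ≃ₗ[K] P.Ve u 0 => (k ⟨v, hv⟩ : V)) (mul_inv_eq_iff_eq_mul.1 e)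
  change g (P.ρ t v) = (d : K) • P.ρ t' (g v) at this
  rw [ht v hv, map_smul, this, LinearEquiv.mul_apply, sc_apply, Units.val_mul, mul_smul]

theorem loc_of_res (h : ∀ u y (hy : P.β u y = 1), P.resX X u 0 ≤ (P.res hy 0).N) : P.Loc X := by
  intro u hu g hg hc w hw
  obtain ⟨y, hy⟩ := P.exists_β_eq_one hu
  exact loc_at hy (h u y hy) hg hc w hw

variable (P)

theorem isCompl_Ve (u : W) : IsCompl (P.Ve u 0) (P.Ve u 1) := by
  refine ⟨Submodule.disjoint_def.2 fun v h0 h1 => eq_zero_of_mem_Ve h0 (by simpa using h1),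
    codisjoint_iff.2 (eq_top_iff.2 fun v _ => ?_)⟩
  obtain ⟨a, ha, b, hb, rfl⟩ := P.exists_add_Ve u v
  exact Submodule.add_mem_sup ha hb

theorem finrank_Ve_eq [FiniteDimensional K V] {u : W} (hu : u ≠ 0) (ε δ : ZMod 2) :
    finrank K (P.Ve u ε) = finrank K (P.Ve u δ) := by
  obtain ⟨y, hy⟩ := P.exists_β_eq_one hu
  have key : ∀ ε, finrank K (P.Ve u ε) ≤ finrank K (P.Ve u (ε + 1)) := fun ε =>
    LinearMap.finrank_le_finrank_of_injective
      (f := ((P.ρ y : V →ₗ[K] V).domRestrict _).codRestrict (P.Ve u (ε + 1))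
        fun v => hy ▸ ρ_mem_Ve v.2 y)
      fun a b e => Subtype.ext ((P.ρ y).injective (congrArg Subtype.val e))
  have h0 := key 0
  have h1 := key 1
  rw [zero_add] at h0
  rw [zmod2_add_self] at h1
  rcases zmod2_cases ε with rfl | rfl <;> rcases zmod2_cases δ with rfl | rfl <;> omega

theorem two_mul_finrank_Ve [FiniteDimensional K V] {u : W} (hu : u ≠ 0) (ε : ZMod 2) :
    2 * finrank K (P.Ve u ε) = finrank K V := by
  have := Submodule.finrank_add_eq_of_isCompl (P.isCompl_Ve u)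
  rw [P.finrank_Ve_eq hu 0 ε, P.finrank_Ve_eq hu 1 ε] at this
  omega

end Pauli

theorem Pauli.finrank_sq_aux (n : ℕ) : ∀ (V : Type u) (W : Type v) [AddCommGroup V] [Module K V]
    [FiniteDimensional K V] [AddCommGroup W] [Module (ZMod 2) W] [Finite W] (_ : Pauli K V W),
    finrank (ZMod 2) W = n → finrank K V ^ 2 = 2 ^ n := by
  induction n using Nat.strong_induction_on with
  | _ n ih =>
  intro V W _ _ _ _ _ _ P hn
  by_cases h : ∃ u : W, u ≠ 0
  · obtain ⟨u, hu⟩ := h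
    obtain ⟨y, hy⟩ := P.exists_β_eq_one hu
    have h1 := P.finrank_W1 hy
    have h2 := ih _ (by omega) _ _ (P.res hy 0) rfl
    rw [← P.two_mul_finrank_Ve hu 0, mul_pow, h2, ← hn, ← h1]
    ring
  · push Not at h
    have : Subsingleton W := ⟨fun a b => by rw [h a, h b]⟩
    rw [finrank_zero_of_subsingleton] at hn
    subst hn
    have := P.nontriv
    obtain ⟨v, hv⟩ := exists_ne (0 : V)
    have : finrank K V = 1 := by
      refine finrank_eq_one v hv fun w => ?_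
      obtain ⟨f, hf⟩ := LinearMap.exists_extend_of_notMem (0 : (⊥ : Submodule K V) →ₗ[K] V)
        (by simpa using hv) w
      obtain ⟨c, hc⟩ := P.schur f fun u x => by rw [h u, P.zero]; rfl
      exact ⟨c, by rw [← hc, hf.2]⟩
    rw [this]; rfl

theorem Pauli.finrank_sq [FiniteDimensional K V] [Finite W] (P : Pauli K V W) :
    finrank K V ^ 2 = 2 ^ finrank (ZMod 2) W := Pauli.finrank_sq_aux _ V W P rfl

theorem Pauli.finrank_eq [FiniteDimensional K V] [Finite W] (P : Pauli K V W) {m : ℕ}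
    (h : finrank (ZMod 2) W = 2 * m) : finrank K V = 2 ^ m := by
  have := P.finrank_sq
  rw [h, pow_mul', ] at this
  exact Nat.pow_left_injective two_ne_zero this

theorem Pauli.pow_le_finrank [FiniteDimensional K V] [Finite W] (P : Pauli K V W) {m : ℕ}
    (h : 2 * m ≤ finrank (ZMod 2) W) : 2 ^ m ≤ finrank K V := by
  have h1 := P.finrank_sq
  have h2 : (2 ^ m) ^ 2 ≤ finrank K V ^ 2 := by
    rw [h1, ← pow_mul']; exact Nat.pow_le_pow_right two_pos h
  exact (Nat.pow_le_pow_iff_left two_ne_zero).1 h2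

end Cfsg.Lib.Class.C6
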