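import Cfsg.Agent.Class.C6.AlphaU
import Cfsg.Agent.Class.C6.Endgame

/-!
# The inductive step for the linear and unitary types
-/

namespace Cfsg.Lib.Class.C6

open Module Form

universe u v w

/-- Overgroups of the Pauli normaliser in `GL_{2^m}(K)`. -/
def PL (K : Type u) [Field K] (m : ℕ) : Prop :=
  ∀ (V : Type v) (W : Type w) [AddCommGroup V] [Module K V] [FiniteDimensional K V]
    [AddCommGroup W] [Module (ZMod 2) W] [Finite W] (P : Pauli K V W),
    finrank (ZMod 2) W = 2 * m → ∀ X, P.H1 X → X ≤ P.N ∨ SLV K V ≤ X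

/-- Overgroups of the Pauli normaliser in the unitary similarity group of degree `2^m`. -/
def PU {K : Type u} [Field K] (σ : K →+* K) (m : ℕ) : Prop :=
  ∀ (V : Type v) (W : Type w) [AddCommGroup V] [Module K V] [FiniteDimensional K V]
    [AddCommGroup W] [Module (ZMod 2) W] [Finite W] (P : Pauli K V W)
    (B : V →ₛₗ[σ] V →ₗ[K] K), Herm B → (∀ u, P.ρ u ∈ isomGroup B) → σ P.i = -P.i →
    finrank (ZMod 2) W = 2 * m → ∀ X ≤ simG B, P.H1 X → X ≤ P.N ∨ SUV B ≤ X

variable {K : Type u} [Field K] [Finite K] {σ : K →+* K} {m : ℕ}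

theorem PL.succ (h : PL.{u, v, w} K m) (hm : 2 ≤ m) : PL.{u, v, w} K (m + 1) := by
  intro V W _ _ _ _ _ _ P hW X hX
  by_cases hc : ∀ u y (hy : P.β u y = 1), P.resX X u 0 ≤ (P.res hy 0).N
  · exact Or.inl (endgame1 P (by omega) hX ((Pauli.loc_of_res hc).centN_of_H1 hX (by omega)))
  push Not at hc
  obtain ⟨u, y, hy, hc⟩ := hc
  have := P.finrank_W1 hy
  exact Or.inr (hX.SLV_le (by omega) hy
    ((h _ _ (P.res hy 0) (by omega) _ (hX.res hy 0)).resolve_left hc))

theorem PU.succ (h : PU.{u, v, w} σ m) (hm : 2 ≤ m) : PU.{u, v, w} σ (m + 1) := by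
  intro V W _ _ _ _ _ _ P B hB hρ hi hW X hXB hX
  by_cases hc : ∀ u y (hy : P.β u y = 1), P.resX X u 0 ≤ (P.res hy 0).N
  · exact Or.inl (endgame1 P (by omega) hX ((Pauli.loc_of_res hc).centN_of_H1 hX (by omega)))
  push Not at hc
  obtain ⟨u, y, hy, hc⟩ := hc
  have := P.finrank_W1 hy
  exact Or.inr (hX.SUV_le hB hρ hi (by omega) hy
    ((h _ _ (P.res hy 0) _ (hB.restrict (Pauli.nondegOn_Ve hB hρ u 0))
      (Pauli.res_ρ_mem_isomGroup hρ hy 0) hi (by omega) _ (Pauli.resX_le_simG hXB u 0)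
      (hX.res hy 0)).resolve_left hc))

theorem PL.of_two (h : PL.{u, v, w} K 2) (hm : 2 ≤ m) : PL.{u, v, w} K m := by
  induction m, hm using Nat.le_induction with
  | base => exact h
  | succ m hm ih => exact ih.succ hm

theorem PU.of_two (h : PU.{u, v, w} σ 2) (hm : 2 ≤ m) : PU.{u, v, w} σ m := by
  induction m, hm using Nat.le_induction with
  | base => exact h
  | succ m hm ih => exact ih.succ hm

end Cfsg.Lib.Class.C6
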